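import Mathlib
import Cfsg.Agent.S0991
import Cfsg.Agent.O50.Idx
import Cfsg.Agent.Helper2.SimpleSmall3

/-!
# S0983 (simple orders in `(3640, 6232]`): basic generic lemmas (helper2)

`o83_noncomm`, `o83_perfect`, `o83_normal`, `o83_index` (index test through `S0991`),
`o83_syl` (Sylow data), `o83_nc` (centraliser / normaliser of a Sylow subgroup of prime order).
-/

set_option autoImplicit false

namespace Cfsg.Agent.O83

open Cfsg Cfsg.Agent.Helper2 Cfsg.Agent.O50
open scoped commutatorElement

variable {G : Type*} [Group G] [Finite G] [IsSimpleGroup G]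

omit [Finite G] in
/-- a simple group of non-prime order is not commutative -/
theorem o83_noncomm {n : ℕ} (h : Nat.card G = n) (hn : ¬ n.Prime) : ¬ IsMulCommutative G := by
  intro hc
  let _ : CommGroup G := { (inferInstance : Group G) with mul_comm := hc.is_comm.comm }
  have hp : (Nat.card G).Prime := IsSimpleGroup.prime_card
  rw [h] at hp
  exact hn hp

omit [Finite G] in
theorem o83_normal (K : Subgroup G) (hK : K.Normal) : K = ⊥ ∨ K = ⊤ :=
  hK.eq_bot_or_eq_top

omit [Finite G] in
theorem o83_perfect (hna : ¬ IsMulCommutative G) : commutator G = ⊤ := by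
  rcases (inferInstance : (commutator G).Normal).eq_bot_or_eq_top with h | h
  · exfalso
    apply hna
    refine ⟨⟨fun a b => ?_⟩⟩
    have h1 : ⁅a, b⁆ ∈ commutator G := by
      rw [_root_.commutator_def]
      exact Subgroup.commutator_mem_commutator (Subgroup.mem_top a) (Subgroup.mem_top b)
    rw [h, Subgroup.mem_bot, commutatorElement_eq_one_iff_mul_comm] at h1
    exact h1
  · exact h

/-- **index test** (`S0991`): a proper subgroup of index `k` gives `2 |G| ∣ k!` -/
theorem o83_index (hna : ¬ IsMulCommutative G) (H : Subgroup G) (hH : H ≠ ⊤) :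
    2 * Nat.card G ∣ H.index.factorial := by
  obtain ⟨f, hf⟩ := Cfsg.Agent.S0991.result hna H hH
  have hk1 : H.index ≠ 1 := fun h => hH (Subgroup.index_eq_one.mp h)
  have hk0 : H.index ≠ 0 := Subgroup.index_ne_zero_of_finite
  generalize H.index = k at f hf hk1 hk0
  have hk2 : 2 ≤ k := by omega
  have hdvd := o50_card_dvd_alt k f hf
  rw [o50_card_alt k hk2] at hdvd
  have h2 : 2 ∣ k.factorial := Nat.dvd_factorial (by norm_num) hk2
  obtain ⟨c, hc⟩ := hdvd
  obtain ⟨j, hj⟩ := h2
  rw [hj] at hc ⊢
  rw [Nat.mul_div_cancel_left _ (by norm_num : 0 < 2)] at hc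
  rw [hc]
  exact ⟨c, by ring⟩

/-- **Sylow data** for the prime `p`, `|G| = p ^ a * m` -/
theorem o83_syl (hna : ¬ IsMulCommutative G) (p a m : ℕ) [hp : Fact p.Prime]
    (hcard : Nat.card G = p ^ a * m) (ha : 0 < a) (hpm : ¬ p ∣ m) (hm : 1 < m) (P : Sylow p G) :
    Nat.card (P : Subgroup G) = p ^ a ∧
    ∃ d, Nat.card (Sylow p G) = d ∧ d ∣ m ∧ d % p = 1 ∧ d ≠ 1 ∧
      2 * (p ^ a * m) ∣ d.factorial ∧
      Nat.card (Subgroup.normalizer ((P : Subgroup G) : Set G)) * d = p ^ a * m := by
  have hPcard : Nat.card (P : Subgroup G) = p ^ a :=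
    SylowExact.card_sylow_of_exact_pow hcard hpm P
  have hpa : 1 < p ^ a := Nat.one_lt_pow ha.ne' hp.out.one_lt
  have hidxP : (P : Subgroup G).index = m := by
    have h1 := (P : Subgroup G).card_mul_index
    rw [hPcard, hcard] at h1
    exact Nat.eq_of_mul_eq_mul_left (by omega) h1
  have hne1 : Nat.card (Sylow p G) ≠ 1 := by
    apply SmallOrder.card_sylow_ne_one P
    · rw [hPcard]; omega
    · rw [hPcard, hcard]
      intro h
      have : p ^ a * 1 = p ^ a * m := by rw [mul_one]; exact h
      have := Nat.eq_of_mul_eq_mul_left (by omega) this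
      omega
  have hNd := SmallOrder.card_normalizer_mul_card_sylow P
  rw [hcard] at hNd
  refine ⟨hPcard, Nat.card (Sylow p G), rfl, ?_, ?_, hne1, ?_, hNd⟩
  · rw [← hidxP]
    exact Sylow.card_dvd_index P
  · have h1 := card_sylow_modEq_one p G
    unfold Nat.ModEq at h1
    rw [h1]
    exact Nat.mod_eq_of_lt hp.out.one_lt
  · have hidxN : (Subgroup.normalizer ((P : Subgroup G) : Set G)).index =
        Nat.card (Sylow p G) := (Sylow.card_eq_index_normalizer P).symm
    have hNtop : Subgroup.normalizer ((P : Subgroup G) : Set G) ≠ ⊤ := by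
      intro h
      apply hne1
      rw [← hidxN, h, Subgroup.index_top]
    have := o83_index hna _ hNtop
    rwa [hidxN, hcard] at this

/-- **centraliser and normaliser** of a Sylow subgroup of prime order `p`:
`|C(P)| = p c`, `|N(P)| = p c e`, `e ∣ p - 1`, `e ≠ 1` (Burnside transfer), `p ∤ c` -/
theorem o83_nc (p : ℕ) [hp : Fact p.Prime] (P : Sylow p G)
    (hP : Nat.card (P : Subgroup G) = p) (hpG : Nat.card G ≠ p) :
    ∃ c e : ℕ, Nat.card (Subgroup.centralizer ((P : Subgroup G) : Set G)) = p * c ∧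
      Nat.card (Subgroup.normalizer ((P : Subgroup G) : Set G)) = p * c * e ∧
      (Subgroup.centralizer ((P : Subgroup G) : Set G)).relIndex
        (Subgroup.normalizer ((P : Subgroup G) : Set G)) = e ∧
      e ∣ p - 1 ∧ e ≠ 1 ∧ ¬ p ∣ c := by
  have hcyc : IsCyclic (P : Subgroup G) := isCyclic_of_prime_card hP
  have hcomm : ∀ x ∈ (P : Subgroup G), ∀ y ∈ (P : Subgroup G), x * y = y * x := by
    intro x hx y hy
    have := hcyc.isMulCommutative
    have h1 := this.is_comm.comm (⟨x, hx⟩ : (P : Subgroup G)) ⟨y, hy⟩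
    exact congrArg Subtype.val h1
  have hPC : (P : Subgroup G) ≤ Subgroup.centralizer ((P : Subgroup G) : Set G) := by
    intro x hx
    rw [Subgroup.mem_centralizer_iff]
    intro y hy
    exact hcomm y hy x hx
  have hCN : Subgroup.centralizer ((P : Subgroup G) : Set G) ≤
      Subgroup.normalizer ((P : Subgroup G) : Set G) := Subgroup.centralizer_le_normalizer _
  obtain ⟨c, hc⟩ : Nat.card (P : Subgroup G) ∣
      Nat.card (Subgroup.centralizer ((P : Subgroup G) : Set G)) :=
    Subgroup.card_dvd_of_le hPC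
  rw [hP] at hc
  have hrel := Subgroup.relIndex_mul_relIndex ⊥
    (Subgroup.centralizer ((P : Subgroup G) : Set G))
    (Subgroup.normalizer ((P : Subgroup G) : Set G)) bot_le hCN
  rw [Subgroup.relIndex_bot_left, Subgroup.relIndex_bot_left] at hrel
  set e := (Subgroup.centralizer ((P : Subgroup G) : Set G)).relIndex
    (Subgroup.normalizer ((P : Subgroup G) : Set G)) with he
  refine ⟨c, e, hc, ?_, rfl, ?_, ?_, ?_⟩
  · rw [← hrel, hc]
  · have := SmallOrder.relIndex_centralizer_normalizer_dvd (P : Subgroup G) hcyc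
    rwa [hP, Nat.totient_prime hp.out] at this
  · intro he1
    apply SimpleSmall2.false_of_normalizer_le_centralizer P
    · rw [hP]; exact hp.out.one_lt.ne'
    · rw [hP]; exact fun h => hpG h.symm
    · exact Subgroup.relIndex_eq_one.mp (he ▸ he1)
  · intro hpc
    obtain ⟨c', rfl⟩ := hpc
    -- `p ^ 2 ∣ |G|` contradicts `|P| = p`
    have h1 : p ^ 2 ∣ Nat.card G := by
      have : p ^ 2 ∣ Nat.card (Subgroup.centralizer ((P : Subgroup G) : Set G)) := by
        rw [hc]; exact ⟨c', by ring⟩
      exact this.trans (Subgroup.card_subgroup_dvd_card _)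
    have h2 := P.pow_dvd_card_of_pow_dvd_card h1
    rw [hP] at h2
    have h3 := Nat.le_of_dvd hp.out.pos h2
    have := hp.out.one_lt
    nlinarith

end Cfsg.Agent.O83
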