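import Mathlib
import Cfsg.Agent.S4441
import Cfsg.Agent.BR.RedV
import Cfsg.Agent.BR.RedX
import Cfsg.Agent.BR.RedK
import Cfsg.Agent.O459.Val
import Cfsg.Agent.BL3.Ker
import Cfsg.Agent.O50.Det
import Cfsg.Agent.O57.EFour
import Cfsg.Agent.O83.Basic

/-!
# S0983: the principal `p`-block of a simple group with a Sylow `p`-subgroup of order `p`
(helper2; generic lemma G9 of `notes/S0983_plan_lead.md`)

General-`p` version of `O50/CaseVal` (`o50_cv_front`, `o50_cv_val`, helper7/helper1): from `S4441`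
the principal block is `X ⊔ Y`, `|X| = e = |N_G(P) : C_G(P)|`, `|Y| = (p - 1) / e`.  `o83_b0` packages
the resulting arithmetic system: degrees `f i` and signs `sg i` of the `e - 1` non-trivial
non-exceptional characters, the degree `th` and sign `s` of the exceptional characters, the degree
equation `s th = 1 + ∑ sg i f i`, divisibility by `e n_p`, the congruences mod `p`, the bound
`1 + ∑ f i ^ 2 + t th ^ 2 ≤ |G|` and the values at an involution of `C_G(P)`.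
If `e = p - 1` the trivial character may be the member of `Y`; then one member of `X` is relabelled
as the "exceptional" character and the same system holds.
-/

set_option autoImplicit false
set_option linter.style.haveILetI false
set_option linter.unusedSectionVars false

namespace Cfsg.Agent.O83

open Cfsg Cfsg.Agent.Helper6 Cfsg.Agent.BR Cfsg.Agent.O459 Cfsg.Agent.BL3 Cfsg.Agent.O50
  Cfsg.Agent.O57

universe u

variable {G : Type u} [Group G]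

/-- the value of a non-trivial irreducible character at an involution: an integer `m`,
`m ≡ χ(1) (4)`, `|m| ≤ χ(1)`, `m ≠ χ(1)` -/
theorem o83_blk_val0 [Finite G] (hperf : commutator G = ⊤)
    (hsimp : ∀ K : Subgroup G, K.Normal → K = ⊥ ∨ K = ⊤) (v : G) (hv1 : v ≠ 1) (hv2 : v * v = 1)
    (χ : Cfsg.IrrCharacter G) (hχ : χ ≠ trivIrr G) :
    ∃ m : ℤ, (χ : G → ℂ) v = (m : ℂ) ∧
      m ≡ (Cfsg.charDegree (χ : G → ℂ) : ℤ) [ZMOD 4] ∧
      |m| ≤ (Cfsg.charDegree (χ : G → ℂ) : ℤ) ∧ m ≠ (Cfsg.charDegree (χ : G → ℂ) : ℤ) := by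
  have hchar : Cfsg.IsCharacter G (χ : G → ℂ) := IsIrrCharacter.isCharacter χ.2
  obtain ⟨m, hm, hm4, hmabs⟩ := o50_det_mod4 hperf hchar v hv2
  refine ⟨m, hm, hm4, hmabs, ?_⟩
  intro heq
  have hne : (χ : G → ℂ) ≠ fun _ => 1 := by
    intro h
    apply hχ
    apply br_redb_eq_triv hperf
    rw [h]
  have hker := bl3_ker χ hne v (fun K hK hvK => by
    rcases hsimp K hK with h | h
    · exfalso
      rw [h, Subgroup.mem_bot] at hvK
      exact hv1 hvK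
    · exact h)
  apply hker
  rw [hm, (br_redb_degree χ).2, heq]
  push_cast
  rfl

/-- the value of a non-trivial member of `X` at an involution of `C(P)` -/
theorem o83_blk_val [Finite G] (hperf : commutator G = ⊤)
    (hsimp : ∀ K : Subgroup G, K.Normal → K = ⊥ ∨ K = ⊤) (p : ℕ) [hp : Fact p.Prime]
    (hodd : p ≠ 2) (P : Sylow p G)
    (hP : Nat.card (P : Subgroup G) = p) (v : G)
    (hvC : v ∈ Subgroup.centralizer ((P : Subgroup G) : Set G)) (hv1 : v ≠ 1) (hv2 : v * v = 1)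
    (χ : Cfsg.IrrCharacter G) (hχ : χ ≠ trivIrr G) (ε : ℤ)
    (hval : ∀ x : G, x ∈ (P : Subgroup G) → x ≠ 1 → ∀ y : G,
      y ∈ Subgroup.centralizer ((P : Subgroup G) : Set G) → ¬ p ∣ orderOf y →
      (χ : G → ℂ) (x * y) = (ε : ℂ)) :
    ∃ m : ℤ, (χ : G → ℂ) v = (m : ℂ) ∧ m ≡ ε [ZMOD p] ∧
      m ≡ (Cfsg.charDegree (χ : G → ℂ) : ℤ) [ZMOD 4] ∧
      |m| ≤ (Cfsg.charDegree (χ : G → ℂ) : ℤ) ∧ m ≠ (Cfsg.charDegree (χ : G → ℂ) : ℤ) := by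
  have hchar : Cfsg.IsCharacter G (χ : G → ℂ) := IsIrrCharacter.isCharacter χ.2
  obtain ⟨x, hxP, hx1, hord, -, -⟩ := br_redb_generator p (P : Subgroup G) hP
  have hxp : x ^ p = 1 := by rw [← hord]; exact pow_orderOf_eq_one x
  have hcomm : x * v = v * x := by
    rw [Subgroup.mem_centralizer_iff] at hvC
    exact hvC x hxP
  have hordv : orderOf v = 2 := by
    apply orderOf_eq_prime
    · rw [pow_two]; exact hv2
    · exact hv1
  have hvp : ¬ p ∣ orderOf v := by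
    rw [hordv]
    intro h2
    exact hodd ((Nat.prime_dvd_prime_iff_eq hp.out Nat.prime_two).mp h2)
  have hvalj : ∀ j : ℕ, ¬ p ∣ j → (χ : G → ℂ) (x ^ j * v) = (ε : ℂ) := by
    intro j hj
    apply hval (x ^ j) (Subgroup.pow_mem _ hxP j) _ v hvC hvp
    intro h1
    apply hj
    rw [← hord]
    exact orderOf_dvd_of_pow_eq_one h1
  obtain ⟨m, hm, hmp, -⟩ := o459_val_main hchar p hodd x v hxp
    (by rw [pow_two]; exact hv2) hcomm ε hvalj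
  obtain ⟨m', hm', hm4, hmabs, hmne⟩ := o83_blk_val0 hperf hsimp v hv1 hv2 χ hχ
  have hmm : m' = m := by
    have : (m' : ℂ) = (m : ℂ) := by rw [← hm', hm]
    exact_mod_cast this
  subst hmm
  exact ⟨m', hm, hmp, hm4, hmabs, hmne⟩

/-- **the front**: the data of `S4441` for a general odd `p`, with the degree divisibilities -/
theorem o83_blk_front [Finite G] (p : ℕ) [hp : Fact p.Prime] (hodd : p ≠ 2) (P : Sylow p G)
    (hP : Nat.card (P : Subgroup G) = p) (e n : ℕ)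
    (he : (Subgroup.centralizer ((P : Subgroup G) : Set G)).relIndex
      (Subgroup.normalizer ((P : Subgroup G) : Set G)) = e)
    (hn : Nat.card (Sylow p G) = n) :
    ∃ (X Y : Set (Cfsg.IrrCharacter G)) (εX : Cfsg.IrrCharacter G → ℤ) (ε : ℤ),
      Disjoint X Y ∧ Nat.card X = e ∧ Nat.card Y = (p - 1) / e ∧
      (trivIrr G ∈ X ∨ trivIrr G ∈ Y) ∧ (ε = 1 ∨ ε = -1) ∧
      (∀ χ ∈ X, (εX χ = 1 ∨ εX χ = -1) ∧
        (Cfsg.charDegree (χ : G → ℂ) : ℤ) ≡ εX χ [ZMOD p] ∧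
        Cfsg.charDegree (χ : G → ℂ) ∣ e * n ∧
        ∀ x : G, x ∈ (P : Subgroup G) → x ≠ 1 → ∀ y : G,
          y ∈ Subgroup.centralizer ((P : Subgroup G) : Set G) → ¬ p ∣ orderOf y →
          (χ : G → ℂ) (x * y) = (εX χ : ℂ)) ∧
      (∀ θ ∈ Y, Cfsg.charDegree (θ : G → ℂ) ∣ e * n ∧
        (Cfsg.charDegree (θ : G → ℂ) : ℤ) ≡ ε * (e : ℤ) [ZMOD p]) ∧
      (∀ θ ∈ Y, ∀ θ' ∈ Y, Cfsg.charDegree (θ : G → ℂ) = Cfsg.charDegree (θ' : G → ℂ)) ∧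
      ∀ θ ∈ Y, ∀ g : G, ¬ p ∣ orderOf g →
        (ε : ℂ) * (θ : G → ℂ) g = ∑ᶠ χ ∈ X, (εX χ : ℂ) * (χ : G → ℂ) g := by
  classical
  haveI : Fintype G := Fintype.ofFinite G
  haveI : Finite (Cfsg.IrrCharacter G) := irr_finite
  obtain ⟨M, hM⟩ := exists_isPModular p hp.out
  obtain ⟨X, Y, hB, hdisj, hcX, hcY, εX, ε, hX, hε, hYdeg, hYreg, hrel⟩ :=
    Cfsg.Agent.S4441.result p M hM hodd P hP e he
  have hp1 : ¬ p ∣ orderOf (1 : G) := by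
    rw [orderOf_one]
    exact hp.out.one_lt.ne' ∘ Nat.dvd_one.mp
  have hXval : ∀ χ ∈ X, ∀ x : G, x ∈ (P : Subgroup G) → x ≠ 1 →
      (χ : G → ℂ) x = (εX χ : ℂ) := by
    intro χ hχ x hx hx1
    have := (hX χ hχ).2.2 x hx hx1 1 (one_mem _) hp1
    rwa [mul_one] at this
  have hdvdX : ∀ χ ∈ X, Cfsg.charDegree (χ : G → ℂ) ∣ e * n := by
    intro χ hχ
    have h1 := br_redx_degree_dvd p P hP χ (εX χ) (hX χ hχ).1 (hXval χ hχ)
    rwa [he, hn] at h1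
  have hdvdY : ∀ θ ∈ Y, Cfsg.charDegree (θ : G → ℂ) ∣ e * n := by
    intro θ hθ
    have h1 := br_redv_dvd_Y p M hM P hP X Y hB hdisj εX ε hε hXval hYreg hrel θ hθ
    rwa [he, hn] at h1
  have htriv : trivIrr G ∈ X ∪ Y := by
    rw [← hB]
    exact trivIrr_mem_principalBlock hM.2.1
  refine ⟨X, Y, εX, ε, hdisj, hcX, hcY, htriv, hε, fun χ hχ => ?_, fun θ hθ => ?_,
    fun θ hθ θ' hθ' => ?_, hrel⟩
  · exact ⟨(hX χ hχ).1, by exact_mod_cast (hX χ hχ).2.1, hdvdX χ hχ, (hX χ hχ).2.2⟩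
  · exact ⟨hdvdY θ hθ, by exact_mod_cast hYdeg θ hθ⟩
  · have h1 := hYreg θ hθ θ' hθ' 1 hp1
    rw [(br_redb_degree θ).2, (br_redb_degree θ').2] at h1
    exact_mod_cast h1

/-- **the symmetric form of the block data**: `Z` = the `e - 1` non-trivial "non-exceptional"
characters, `Y'` = the `(p - 1) / e` "exceptional" ones (all of the same degree), `θ ∈ Y'` -/
theorem o83_blk_sym [Finite G] [IsSimpleGroup G] (hna : ¬ IsMulCommutative G) (p : ℕ)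
    [hp : Fact p.Prime] (hodd : p ≠ 2) (P : Sylow p G)
    (hP : Nat.card (P : Subgroup G) = p) (e d : ℕ)
    (he : (Subgroup.centralizer ((P : Subgroup G) : Set G)).relIndex
      (Subgroup.normalizer ((P : Subgroup G) : Set G)) = e)
    (hd : Nat.card (Sylow p G) = d) :
    ∃ (Z Y' : Finset (Cfsg.IrrCharacter G)) (δ : Cfsg.IrrCharacter G → ℤ)
      (θ : Cfsg.IrrCharacter G) (s : ℤ),
      Z.card = e - 1 ∧ Y'.card = (p - 1) / e ∧ trivIrr G ∉ Z ∧ trivIrr G ∉ Y' ∧ Disjoint Z Y' ∧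
      θ ∈ Y' ∧ (s = 1 ∨ s = -1) ∧
      (∀ χ ∈ Z, (δ χ = 1 ∨ δ χ = -1) ∧
        (Cfsg.charDegree (χ : G → ℂ) : ℤ) ≡ δ χ [ZMOD p] ∧
        Cfsg.charDegree (χ : G → ℂ) ∣ e * d ∧
        ∀ x : G, x ∈ (P : Subgroup G) → x ≠ 1 → ∀ y : G,
          y ∈ Subgroup.centralizer ((P : Subgroup G) : Set G) → ¬ p ∣ orderOf y →
          (χ : G → ℂ) (x * y) = (δ χ : ℂ)) ∧
      (∀ θ' ∈ Y', Cfsg.charDegree (θ' : G → ℂ) = Cfsg.charDegree (θ : G → ℂ)) ∧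
      Cfsg.charDegree (θ : G → ℂ) ∣ e * d ∧
      (Cfsg.charDegree (θ : G → ℂ) : ℤ) ≡ s * (e : ℤ) [ZMOD p] ∧
      ∀ g : G, ¬ p ∣ orderOf g →
        (s : ℂ) * (θ : G → ℂ) g = 1 + ∑ χ ∈ Z, (δ χ : ℂ) * (χ : G → ℂ) g := by
  classical
  haveI : Finite (Cfsg.IrrCharacter G) := irr_finite
  have hpG : Nat.card G ≠ p := by
    intro h
    apply hna
    haveI : IsCyclic G := isCyclic_of_prime_card h
    exact IsCyclic.isMulCommutative
  obtain ⟨c, e', -, -, he', hediv, hene1, -⟩ := o83_nc p P hP hpG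
  rw [he] at he'
  subst he'
  have hp1 : 1 < p := hp.out.one_lt
  have he0 : 0 < e := Nat.pos_of_dvd_of_pos hediv (by omega)
  have hele : e ≤ p - 1 := Nat.le_of_dvd (by omega) hediv
  have htpos : 0 < (p - 1) / e := Nat.div_pos hele he0
  obtain ⟨X, Y, εX, ε, hdisj, hcX, hcY, htriv, hε, hX, hY, hYeq, hrel⟩ :=
    o83_blk_front p hodd P hP e d he hd
  have hXfin : X.Finite := Set.toFinite X
  have hYfin : Y.Finite := Set.toFinite Y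
  have hXcard : hXfin.toFinset.card = e := by
    rw [← Set.ncard_eq_toFinset_card X hXfin, ← Nat.card_coe_set_eq, hcX]
  have hYcard : hYfin.toFinset.card = (p - 1) / e := by
    rw [← Set.ncard_eq_toFinset_card Y hYfin, ← Nat.card_coe_set_eq, hcY]
  have hsum : ∀ F : Cfsg.IrrCharacter G → ℂ, ∑ᶠ χ ∈ X, F χ = ∑ χ ∈ hXfin.toFinset, F χ :=
    fun F => finsum_mem_eq_finite_toFinset_sum F hXfin
  rcases htriv with htX | htY
  · -- the standard case: the trivial character lies in `X`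
    have hYne : hYfin.toFinset.Nonempty := by
      rw [← Finset.card_pos, hYcard]; exact htpos
    obtain ⟨θ, hθ'⟩ := hYne
    have hθ : θ ∈ Y := (Set.Finite.mem_toFinset hYfin).mp hθ'
    have htX' : trivIrr G ∈ hXfin.toFinset := (Set.Finite.mem_toFinset hXfin).mpr htX
    have hεtriv : εX (trivIrr G) = 1 := by
      have h1 := (hX _ htX).2.1
      rw [br_redb_charDegree_triv] at h1
      rcases (hX _ htX).1 with e' | e'
      · exact e'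
      · exfalso
        rw [e'] at h1
        have h2 := Int.ModEq.dvd h1
        have h3 : (p : ℤ) ∣ 2 := by
          have : (-1 : ℤ) - ((1 : ℕ) : ℤ) = -2 := by norm_num
          rw [this] at h2
          exact (dvd_neg).mp h2
        have h4 : p ∣ 2 := by exact_mod_cast h3
        exact hodd ((Nat.prime_dvd_prime_iff_eq hp.out Nat.prime_two).mp h4)
    refine ⟨hXfin.toFinset.erase (trivIrr G), hYfin.toFinset, εX, θ, ε, ?_, hYcard,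
      Finset.notMem_erase _ _, ?_, ?_, hθ', hε, ?_, ?_, (hY θ hθ).1, (hY θ hθ).2, ?_⟩
    · rw [Finset.card_erase_of_mem htX', hXcard]
    · intro h
      exact Set.disjoint_left.mp hdisj htX ((Set.Finite.mem_toFinset hYfin).mp h)
    · rw [Finset.disjoint_left]
      intro χ hχ hχY
      exact Set.disjoint_left.mp hdisj ((Set.Finite.mem_toFinset hXfin).mp (Finset.mem_of_mem_erase hχ))
        ((Set.Finite.mem_toFinset hYfin).mp hχY)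
    · intro χ hχ
      exact hX χ ((Set.Finite.mem_toFinset hXfin).mp (Finset.mem_of_mem_erase hχ))
    · intro θ' hθ''
      exact hYeq θ' ((Set.Finite.mem_toFinset hYfin).mp hθ'') θ hθ
    · intro g hg
      rw [hrel θ hθ g hg, hsum, ← Finset.add_sum_erase _ _ htX', hεtriv]
      congr 1
      simp only [Int.cast_one, one_mul]
      rfl
  · -- the trivial character lies in `Y`: `e = p - 1`, relabel
    have hdeg1 := (hY _ htY).2
    rw [br_redb_charDegree_triv] at hdeg1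
    have hep : ε = -1 ∧ e + 1 = p := by
      rcases hε with e1 | e1
      · exfalso
        rw [e1, one_mul] at hdeg1
        have h2 := Int.ModEq.dvd hdeg1
        have h3 : (p : ℤ) ∣ ((e - 1 : ℕ) : ℤ) := by
          have : ((e - 1 : ℕ) : ℤ) = (e : ℤ) - ((1 : ℕ) : ℤ) := by
            rw [Nat.cast_sub he0]
          rw [this]; exact h2
        have h4 : p ∣ e - 1 := by exact_mod_cast h3
        rcases Nat.eq_zero_or_pos (e - 1) with h0 | h0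
        · exact hene1 (by omega)
        · have := Nat.le_of_dvd h0 h4
          omega
      · refine ⟨e1, ?_⟩
        rw [e1] at hdeg1
        have h2 := Int.ModEq.dvd hdeg1
        have h3 : (p : ℤ) ∣ ((e + 1 : ℕ) : ℤ) := by
          have : ((e + 1 : ℕ) : ℤ) = -((-1 : ℤ) * (e : ℤ) - ((1 : ℕ) : ℤ)) := by
            push_cast; ring
          rw [this]; exact (dvd_neg).mpr h2
        have h4 : p ∣ e + 1 := by exact_mod_cast h3
        have := Nat.le_of_dvd (by omega) h4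
        omega
    obtain ⟨hεm, hep1⟩ := hep
    have hXne : hXfin.toFinset.Nonempty := by
      rw [← Finset.card_pos, hXcard]; exact he0
    obtain ⟨χ₀, hχ₀'⟩ := hXne
    have hχ₀ : χ₀ ∈ X := (Set.Finite.mem_toFinset hXfin).mp hχ₀'
    have hχ₀triv : χ₀ ≠ trivIrr G := by
      intro h
      exact Set.disjoint_left.mp hdisj hχ₀ (h ▸ htY)
    have ht1 : (p - 1) / e = 1 := by
      have : p - 1 = e := by omega
      rw [this]; exact Nat.div_self he0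
    refine ⟨hXfin.toFinset.erase χ₀, {χ₀}, εX, χ₀, -εX χ₀, ?_, ?_, ?_, ?_, ?_,
      Finset.mem_singleton_self _, ?_, ?_, ?_, (hX χ₀ hχ₀).2.2.1, ?_, ?_⟩
    · rw [Finset.card_erase_of_mem hχ₀', hXcard]
    · rw [Finset.card_singleton, ht1]
    · intro h
      exact Set.disjoint_left.mp hdisj
        ((Set.Finite.mem_toFinset hXfin).mp (Finset.mem_of_mem_erase h)) htY
    · rw [Finset.mem_singleton]
      exact fun h => hχ₀triv h.symm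
    · rw [Finset.disjoint_singleton_right]
      exact Finset.notMem_erase _ _
    · rcases (hX χ₀ hχ₀).1 with h | h <;> rw [h] <;> simp
    · intro χ hχ
      exact hX χ ((Set.Finite.mem_toFinset hXfin).mp (Finset.mem_of_mem_erase hχ))
    · intro θ' hθ''
      rw [Finset.mem_singleton] at hθ''
      rw [hθ'']
    · have h1 := (hX χ₀ hχ₀).2.1
      refine h1.trans ?_
      rw [Int.modEq_iff_dvd]
      refine ⟨-εX χ₀, ?_⟩
      have : (e : ℤ) = (p : ℤ) - 1 := by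
        have : ((e + 1 : ℕ) : ℤ) = (p : ℤ) := by exact_mod_cast hep1
        push_cast at this
        linarith
      rw [this]; ring
    · intro g hg
      have h1 := hrel _ htY g hg
      rw [hsum, ← Finset.add_sum_erase _ _ hχ₀', hεm] at h1
      have h2 : ((trivIrr G : Cfsg.IrrCharacter G) : G → ℂ) g = 1 := rfl
      rw [h2] at h1
      push_cast at h1 ⊢
      linear_combination h1

/-- **G9: the arithmetic system of the principal `p`-block**, `|P| = p` odd, `d = n_p`,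
`e = |N_G(P) : C_G(P)|` -/
theorem o83_b0 [Finite G] [IsSimpleGroup G] (hna : ¬ IsMulCommutative G) (p : ℕ)
    [hp : Fact p.Prime] (hodd : p ≠ 2) (P : Sylow p G)
    (hP : Nat.card (P : Subgroup G) = p) (e d : ℕ)
    (he : (Subgroup.centralizer ((P : Subgroup G) : Set G)).relIndex
      (Subgroup.normalizer ((P : Subgroup G) : Set G)) = e)
    (hd : Nat.card (Sylow p G) = d) :
    ∃ (f : Fin (e - 1) → ℕ) (sg : Fin (e - 1) → ℤ) (th : ℕ) (s : ℤ),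
      (∀ i, 2 ≤ f i ∧ f i ∣ e * d ∧ (sg i = 1 ∨ sg i = -1) ∧ (f i : ℤ) ≡ sg i [ZMOD p]) ∧
      2 ≤ th ∧ th ∣ e * d ∧ (s = 1 ∨ s = -1) ∧ (th : ℤ) ≡ s * e [ZMOD p] ∧
      s * th = 1 + ∑ i, sg i * (f i : ℤ) ∧
      1 + ∑ i, f i ^ 2 + (p - 1) / e * th ^ 2 ≤ Nat.card G ∧
      ∀ u : G, u ∈ Subgroup.centralizer ((P : Subgroup G) : Set G) → u ≠ 1 → u * u = 1 →
        ∃ (m : Fin (e - 1) → ℤ) (mt : ℤ),
          (∀ i, m i ≡ sg i [ZMOD p] ∧ m i ≡ (f i : ℤ) [ZMOD 4] ∧ |m i| ≤ (f i : ℤ) ∧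
            m i ≠ (f i : ℤ)) ∧
          mt ≡ (th : ℤ) [ZMOD 4] ∧ |mt| ≤ (th : ℤ) ∧ mt ≠ (th : ℤ) ∧
          s * mt = 1 + ∑ i, sg i * m i := by
  classical
  haveI : Fintype G := Fintype.ofFinite G
  have hperf := o83_perfect hna
  have hsimp : ∀ K : Subgroup G, K.Normal → K = ⊥ ∨ K = ⊤ := fun K hK => o83_normal K hK
  obtain ⟨Z, Y', δ, θ, s, hZc, hYc, htZ, htY, hZY, hθY, hs, hZ, hYeq, hθd, hθp, hrel⟩ :=
    o83_blk_sym hna p hodd P hP e d he hd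
  have hθtriv : θ ≠ trivIrr G := fun h => htY (h ▸ hθY)
  let eq : Z ≃ Fin (e - 1) := Finset.equivFinOfCardEq hZc
  let χ : Fin (e - 1) → Cfsg.IrrCharacter G := fun i => ((eq.symm i : Z) : Cfsg.IrrCharacter G)
  have hχZ : ∀ i, χ i ∈ Z := fun i => (eq.symm i).2
  have hχtriv : ∀ i, χ i ≠ trivIrr G := fun i h => htZ (h ▸ hχZ i)
  -- sums over `Z` as sums over `Fin (e - 1)`
  have hsumZ : ∀ {M : Type} [AddCommMonoid M] (F : Cfsg.IrrCharacter G → M),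
      ∑ ψ ∈ Z, F ψ = ∑ i, F (χ i) := by
    intro M _ F
    rw [← Finset.sum_coe_sort Z F]
    exact (Equiv.sum_comp eq.symm (fun z : Z => F (z : Cfsg.IrrCharacter G))).symm
  -- degrees at least two
  have hdeg2 : ∀ ψ : Cfsg.IrrCharacter G, ψ ≠ trivIrr G → 2 ≤ Cfsg.charDegree (ψ : G → ℂ) := by
    intro ψ hψ
    obtain ⟨hpos, hd1⟩ := br_redb_degree ψ
    by_contra hlt
    have h1 : Cfsg.charDegree (ψ : G → ℂ) = 1 := by omega
    apply hψ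
    apply br_redb_eq_triv hperf
    rw [hd1, h1, Nat.cast_one]
  have hp1 : ¬ p ∣ orderOf (1 : G) := by
    rw [orderOf_one]
    exact hp.out.one_lt.ne' ∘ Nat.dvd_one.mp
  refine ⟨fun i => Cfsg.charDegree ((χ i : Cfsg.IrrCharacter G) : G → ℂ), fun i => δ (χ i),
    Cfsg.charDegree (θ : G → ℂ), s, ?_, hdeg2 θ hθtriv, hθd, hs, hθp, ?_, ?_, ?_⟩
  · intro i
    obtain ⟨h1, h2, h3, -⟩ := hZ (χ i) (hχZ i)
    exact ⟨hdeg2 _ (hχtriv i), h3, h1, h2⟩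
  · -- the degree equation
    have h1 := hrel 1 hp1
    rw [(br_redb_degree θ).2, hsumZ] at h1
    have h2 : ∀ i, (δ (χ i) : ℂ) * ((χ i : Cfsg.IrrCharacter G) : G → ℂ) 1 =
        ((δ (χ i) * (Cfsg.charDegree ((χ i : Cfsg.IrrCharacter G) : G → ℂ) : ℤ) : ℤ) : ℂ) := by
      intro i
      rw [(br_redb_degree (χ i)).2]
      push_cast
      rfl
    rw [Finset.sum_congr rfl (fun i _ => h2 i)] at h1
    have h3 : ((s * (Cfsg.charDegree (θ : G → ℂ) : ℤ) : ℤ) : ℂ) =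
        ((1 + ∑ i, δ (χ i) * (Cfsg.charDegree ((χ i : Cfsg.IrrCharacter G) : G → ℂ) : ℤ) : ℤ) : ℂ) := by
      push_cast
      push_cast at h1
      exact h1
    exact_mod_cast h3
  · -- the sum of squares
    have hcol := o57_col_bound (1 : G) (insert (trivIrr G) (Z ∪ Y'))
    have hcent : Subgroup.centralizer ({1} : Set G) = ⊤ := by
      rw [Subgroup.centralizer_eq_top_iff_subset]
      intro x hx
      rw [Set.mem_singleton_iff] at hx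
      rw [hx]
      exact one_mem _
    rw [hcent, Subgroup.card_top] at hcol
    have hnot : trivIrr G ∉ Z ∪ Y' := by
      rw [Finset.mem_union]; rintro (h | h)
      · exact htZ h
      · exact htY h
    rw [Finset.sum_insert hnot, Finset.sum_union hZY] at hcol
    have hsq : ∀ ψ : Cfsg.IrrCharacter G, Complex.normSq ((ψ : G → ℂ) 1) =
        ((Cfsg.charDegree (ψ : G → ℂ) ^ 2 : ℕ) : ℝ) := by
      intro ψ
      rw [(br_redb_degree ψ).2, Complex.normSq_natCast]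
      push_cast
      ring
    have hY2 : ∑ ψ ∈ Y', Complex.normSq ((ψ : G → ℂ) 1) =
        (((p - 1) / e * Cfsg.charDegree (θ : G → ℂ) ^ 2 : ℕ) : ℝ) := by
      rw [Finset.sum_congr rfl (fun ψ hψ => by rw [hsq ψ, hYeq ψ hψ]), Finset.sum_const, hYc]
      push_cast
      simp
    have hZ2 : ∑ ψ ∈ Z, Complex.normSq ((ψ : G → ℂ) 1) =
        ((∑ i, Cfsg.charDegree ((χ i : Cfsg.IrrCharacter G) : G → ℂ) ^ 2 : ℕ) : ℝ) := by
      rw [Finset.sum_congr rfl (fun ψ _ => hsq ψ), ← Nat.cast_sum, hsumZ]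
    have ht2 : Complex.normSq (((trivIrr G : Cfsg.IrrCharacter G) : G → ℂ) 1) = ((1 : ℕ) : ℝ) := by
      rw [hsq, br_redb_charDegree_triv]
      norm_num
    rw [hY2, hZ2, ht2] at hcol
    have : ((1 + ∑ i, Cfsg.charDegree ((χ i : Cfsg.IrrCharacter G) : G → ℂ) ^ 2 +
        (p - 1) / e * Cfsg.charDegree (θ : G → ℂ) ^ 2 : ℕ) : ℝ) ≤ (Nat.card G : ℝ) := by
      push_cast
      push_cast at hcol
      linarith
    exact_mod_cast this
  · -- values at an involution of `C(P)`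
    intro u huC hu1 hu2
    have hordu : orderOf u = 2 := by
      apply orderOf_eq_prime
      · rw [pow_two]; exact hu2
      · exact hu1
    have hup : ¬ p ∣ orderOf u := by
      rw [hordu]
      intro h2
      exact hodd ((Nat.prime_dvd_prime_iff_eq hp.out Nat.prime_two).mp h2)
    have hex : ∀ i, ∃ m : ℤ, ((χ i : Cfsg.IrrCharacter G) : G → ℂ) u = (m : ℂ) ∧
        m ≡ δ (χ i) [ZMOD p] ∧
        m ≡ (Cfsg.charDegree ((χ i : Cfsg.IrrCharacter G) : G → ℂ) : ℤ) [ZMOD 4] ∧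
        |m| ≤ (Cfsg.charDegree ((χ i : Cfsg.IrrCharacter G) : G → ℂ) : ℤ) ∧
        m ≠ (Cfsg.charDegree ((χ i : Cfsg.IrrCharacter G) : G → ℂ) : ℤ) := by
      intro i
      exact o83_blk_val hperf hsimp p hodd P hP u huC hu1 hu2 (χ i) (hχtriv i) (δ (χ i))
        (hZ (χ i) (hχZ i)).2.2.2
    choose m hm using hex
    obtain ⟨mt, hmt, hmt4, hmtabs, hmtne⟩ := o83_blk_val0 hperf hsimp u hu1 hu2 θ hθtriv
    refine ⟨m, mt, fun i => ⟨(hm i).2.1, (hm i).2.2.1, (hm i).2.2.2.1, (hm i).2.2.2.2⟩, hmt4,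
      hmtabs, hmtne, ?_⟩
    have h1 := hrel u hup
    rw [hmt, hsumZ] at h1
    have h2 : ∀ i, (δ (χ i) : ℂ) * ((χ i : Cfsg.IrrCharacter G) : G → ℂ) u =
        ((δ (χ i) * m i : ℤ) : ℂ) := by
      intro i
      rw [(hm i).1]
      push_cast
      rfl
    rw [Finset.sum_congr rfl (fun i _ => h2 i)] at h1
    have h3 : ((s * mt : ℤ) : ℂ) = ((1 + ∑ i, δ (χ i) * m i : ℤ) : ℂ) := by
      push_cast
      push_cast at h1
      exact h1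
    exact_mod_cast h3

/-- `o83_b0` for `e = 2`, explicit -/
theorem o83_b0_e2 [Finite G] [IsSimpleGroup G] (hna : ¬ IsMulCommutative G) (p : ℕ)
    [hp : Fact p.Prime] (hodd : p ≠ 2) (P : Sylow p G)
    (hP : Nat.card (P : Subgroup G) = p) (d : ℕ)
    (he : (Subgroup.centralizer ((P : Subgroup G) : Set G)).relIndex
      (Subgroup.normalizer ((P : Subgroup G) : Set G)) = 2)
    (hd : Nat.card (Sylow p G) = d) :
    ∃ (f : ℕ) (sg : ℤ) (th : ℕ) (s : ℤ),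
      2 ≤ f ∧ f ∣ 2 * d ∧ (sg = 1 ∨ sg = -1) ∧ (f : ℤ) ≡ sg [ZMOD p] ∧
      2 ≤ th ∧ th ∣ 2 * d ∧ (s = 1 ∨ s = -1) ∧ (th : ℤ) ≡ s * 2 [ZMOD p] ∧
      s * th = 1 + sg * (f : ℤ) ∧
      1 + f ^ 2 + (p - 1) / 2 * th ^ 2 ≤ Nat.card G ∧
      ∀ u : G, u ∈ Subgroup.centralizer ((P : Subgroup G) : Set G) → u ≠ 1 → u * u = 1 →
        ∃ (m mt : ℤ), m ≡ sg [ZMOD p] ∧ m ≡ (f : ℤ) [ZMOD 4] ∧ |m| ≤ (f : ℤ) ∧ m ≠ (f : ℤ) ∧
          mt ≡ (th : ℤ) [ZMOD 4] ∧ |mt| ≤ (th : ℤ) ∧ mt ≠ (th : ℤ) ∧ s * mt = 1 + sg * m := by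
  obtain ⟨f, sg, th, s, h1, h2, h3, h4, h5, h6, h7, h8⟩ := o83_b0 hna p hodd P hP 2 d he hd
  have hsZ : ∀ F : Fin (2 - 1) → ℤ, ∑ i, F i = F 0 := fun F => Fin.sum_univ_one F
  have hsN : ∀ F : Fin (2 - 1) → ℕ, ∑ i, F i = F 0 := fun F => Fin.sum_univ_one F
  rw [hsZ] at h6
  rw [hsN] at h7
  obtain ⟨a1, a2, a3, a4⟩ := h1 0
  refine ⟨f 0, sg 0, th, s, a1, a2, a3, a4, h2, h3, h4, by exact_mod_cast h5, h6, h7, ?_⟩
  intro u hu hu1 hu2
  obtain ⟨m, mt, b1, b2, b3, b4, b5⟩ := h8 u hu hu1 hu2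
  rw [hsZ] at b5
  obtain ⟨c1, c2, c3, c4⟩ := b1 0
  exact ⟨m 0, mt, c1, c2, c3, c4, b2, b3, b4, b5⟩

/-- `o83_b0` for `e = 3`, explicit -/
theorem o83_b0_e3 [Finite G] [IsSimpleGroup G] (hna : ¬ IsMulCommutative G) (p : ℕ)
    [hp : Fact p.Prime] (hodd : p ≠ 2) (P : Sylow p G)
    (hP : Nat.card (P : Subgroup G) = p) (d : ℕ)
    (he : (Subgroup.centralizer ((P : Subgroup G) : Set G)).relIndex
      (Subgroup.normalizer ((P : Subgroup G) : Set G)) = 3)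
    (hd : Nat.card (Sylow p G) = d) :
    ∃ (f₁ f₂ : ℕ) (sg₁ sg₂ : ℤ) (th : ℕ) (s : ℤ),
      2 ≤ f₁ ∧ f₁ ∣ 3 * d ∧ (sg₁ = 1 ∨ sg₁ = -1) ∧ (f₁ : ℤ) ≡ sg₁ [ZMOD p] ∧
      2 ≤ f₂ ∧ f₂ ∣ 3 * d ∧ (sg₂ = 1 ∨ sg₂ = -1) ∧ (f₂ : ℤ) ≡ sg₂ [ZMOD p] ∧
      2 ≤ th ∧ th ∣ 3 * d ∧ (s = 1 ∨ s = -1) ∧ (th : ℤ) ≡ s * 3 [ZMOD p] ∧
      s * th = 1 + (sg₁ * (f₁ : ℤ) + sg₂ * (f₂ : ℤ)) ∧
      1 + (f₁ ^ 2 + f₂ ^ 2) + (p - 1) / 3 * th ^ 2 ≤ Nat.card G ∧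
      ∀ u : G, u ∈ Subgroup.centralizer ((P : Subgroup G) : Set G) → u ≠ 1 → u * u = 1 →
        ∃ (m₁ m₂ mt : ℤ),
          m₁ ≡ sg₁ [ZMOD p] ∧ m₁ ≡ (f₁ : ℤ) [ZMOD 4] ∧ |m₁| ≤ (f₁ : ℤ) ∧ m₁ ≠ (f₁ : ℤ) ∧
          m₂ ≡ sg₂ [ZMOD p] ∧ m₂ ≡ (f₂ : ℤ) [ZMOD 4] ∧ |m₂| ≤ (f₂ : ℤ) ∧ m₂ ≠ (f₂ : ℤ) ∧
          mt ≡ (th : ℤ) [ZMOD 4] ∧ |mt| ≤ (th : ℤ) ∧ mt ≠ (th : ℤ) ∧
          s * mt = 1 + (sg₁ * m₁ + sg₂ * m₂) := by
  obtain ⟨f, sg, th, s, h1, h2, h3, h4, h5, h6, h7, h8⟩ := o83_b0 hna p hodd P hP 3 d he hd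
  have hsZ : ∀ F : Fin (3 - 1) → ℤ, ∑ i, F i = F 0 + F 1 := fun F => Fin.sum_univ_two F
  have hsN : ∀ F : Fin (3 - 1) → ℕ, ∑ i, F i = F 0 + F 1 := fun F => Fin.sum_univ_two F
  rw [hsZ] at h6
  rw [hsN] at h7
  obtain ⟨a1, a2, a3, a4⟩ := h1 0
  obtain ⟨a5, a6, a7, a8⟩ := h1 1
  refine ⟨f 0, f 1, sg 0, sg 1, th, s, a1, a2, a3, a4, a5, a6, a7, a8, h2, h3, h4,
    by exact_mod_cast h5, h6, h7, ?_⟩
  intro u hu hu1 hu2
  obtain ⟨m, mt, b1, b2, b3, b4, b5⟩ := h8 u hu hu1 hu2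
  rw [hsZ] at b5
  obtain ⟨c1, c2, c3, c4⟩ := b1 0
  obtain ⟨c5, c6, c7, c8⟩ := b1 1
  exact ⟨m 0, m 1, mt, c1, c2, c3, c4, c5, c6, c7, c8, b2, b3, b4, b5⟩

/-- `o83_b0` for `e = 4`, explicit -/
theorem o83_b0_e4 [Finite G] [IsSimpleGroup G] (hna : ¬ IsMulCommutative G) (p : ℕ)
    [hp : Fact p.Prime] (hodd : p ≠ 2) (P : Sylow p G)
    (hP : Nat.card (P : Subgroup G) = p) (d : ℕ)
    (he : (Subgroup.centralizer ((P : Subgroup G) : Set G)).relIndex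
      (Subgroup.normalizer ((P : Subgroup G) : Set G)) = 4)
    (hd : Nat.card (Sylow p G) = d) :
    ∃ (f₁ f₂ f₃ : ℕ) (sg₁ sg₂ sg₃ : ℤ) (th : ℕ) (s : ℤ),
      2 ≤ f₁ ∧ f₁ ∣ 4 * d ∧ (sg₁ = 1 ∨ sg₁ = -1) ∧ (f₁ : ℤ) ≡ sg₁ [ZMOD p] ∧
      2 ≤ f₂ ∧ f₂ ∣ 4 * d ∧ (sg₂ = 1 ∨ sg₂ = -1) ∧ (f₂ : ℤ) ≡ sg₂ [ZMOD p] ∧
      2 ≤ f₃ ∧ f₃ ∣ 4 * d ∧ (sg₃ = 1 ∨ sg₃ = -1) ∧ (f₃ : ℤ) ≡ sg₃ [ZMOD p] ∧
      2 ≤ th ∧ th ∣ 4 * d ∧ (s = 1 ∨ s = -1) ∧ (th : ℤ) ≡ s * 4 [ZMOD p] ∧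
      s * th = 1 + (sg₁ * (f₁ : ℤ) + sg₂ * (f₂ : ℤ) + sg₃ * (f₃ : ℤ)) ∧
      1 + (f₁ ^ 2 + f₂ ^ 2 + f₃ ^ 2) + (p - 1) / 4 * th ^ 2 ≤ Nat.card G ∧
      ∀ u : G, u ∈ Subgroup.centralizer ((P : Subgroup G) : Set G) → u ≠ 1 → u * u = 1 →
        ∃ (m₁ m₂ m₃ mt : ℤ),
          m₁ ≡ sg₁ [ZMOD p] ∧ m₁ ≡ (f₁ : ℤ) [ZMOD 4] ∧ |m₁| ≤ (f₁ : ℤ) ∧ m₁ ≠ (f₁ : ℤ) ∧
          m₂ ≡ sg₂ [ZMOD p] ∧ m₂ ≡ (f₂ : ℤ) [ZMOD 4] ∧ |m₂| ≤ (f₂ : ℤ) ∧ m₂ ≠ (f₂ : ℤ) ∧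
          m₃ ≡ sg₃ [ZMOD p] ∧ m₃ ≡ (f₃ : ℤ) [ZMOD 4] ∧ |m₃| ≤ (f₃ : ℤ) ∧ m₃ ≠ (f₃ : ℤ) ∧
          mt ≡ (th : ℤ) [ZMOD 4] ∧ |mt| ≤ (th : ℤ) ∧ mt ≠ (th : ℤ) ∧
          s * mt = 1 + (sg₁ * m₁ + sg₂ * m₂ + sg₃ * m₃) := by
  obtain ⟨f, sg, th, s, h1, h2, h3, h4, h5, h6, h7, h8⟩ := o83_b0 hna p hodd P hP 4 d he hd
  have hsZ : ∀ F : Fin (4 - 1) → ℤ, ∑ i, F i = F 0 + F 1 + F 2 := fun F => Fin.sum_univ_three F
  have hsN : ∀ F : Fin (4 - 1) → ℕ, ∑ i, F i = F 0 + F 1 + F 2 := fun F => Fin.sum_univ_three F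
  rw [hsZ] at h6
  rw [hsN] at h7
  obtain ⟨a1, a2, a3, a4⟩ := h1 0
  obtain ⟨a5, a6, a7, a8⟩ := h1 1
  obtain ⟨a9, a10, a11, a12⟩ := h1 2
  refine ⟨f 0, f 1, f 2, sg 0, sg 1, sg 2, th, s, a1, a2, a3, a4, a5, a6, a7, a8, a9, a10, a11,
    a12, h2, h3, h4, by exact_mod_cast h5, h6, h7, ?_⟩
  intro u hu hu1 hu2
  obtain ⟨m, mt, b1, b2, b3, b4, b5⟩ := h8 u hu hu1 hu2
  rw [hsZ] at b5
  obtain ⟨c1, c2, c3, c4⟩ := b1 0
  obtain ⟨c5, c6, c7, c8⟩ := b1 1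
  obtain ⟨c9, c10, c11, c12⟩ := b1 2
  exact ⟨m 0, m 1, m 2, mt, c1, c2, c3, c4, c5, c6, c7, c8, c9, c10, c11, c12, b2, b3, b4, b5⟩

end Cfsg.Agent.O83
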