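import Mathlib
import Cfsg.Agent.Helper2.SimpleSmall2

/-!
# S0983, shared file G6 (helper4): `|P| = p`, `n_p = 1 + k p`, `|C(P)| = p c`  ⟹  `c ∣ k!`

`G` acts faithfully on its `1 + k p` Sylow `p`-subgroups; a generator `x` of `P` fixes only `P`, so its permutation has
cycle type `p^k`, whose centraliser in the symmetric group has order `p^k k!` (`Equiv.Perm.nat_card_centralizer`);
`C_G(P)` embeds there and `p ∤ c`.
-/

set_option autoImplicit false

namespace Cfsg.Agent.O83

open Cfsg Cfsg.Agent.Helper2

variable {G : Type*} [Group G] [Finite G] [IsSimpleGroup G]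

/-- G6: |P| = p, n_p = 1 + k p, |C(P)| = p c  ==>  c | k!. -/
theorem o83_cent_factorial (hna : ¬ IsMulCommutative G) (p : ℕ) [Fact p.Prime] (P : Sylow p G)
    (hP : Nat.card (P : Subgroup G) = p) (k c : ℕ) (hd : Nat.card (Sylow p G) = 1 + k * p)
    (hc : Nat.card (Subgroup.centralizer ((P : Subgroup G) : Set G)) = p * c) :
    c ∣ k.factorial := by
  classical
  have hp : p.Prime := Fact.out
  have hp1 : 1 < p := hp.one_lt
  have : Fintype (Sylow p G) := Fintype.ofFinite _
  -- `|G| = p * m`, `p ∤ m`, `1 < m`
  have hcard : Nat.card G = p ^ 1 * (P : Subgroup G).index := by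
    have h := (P : Subgroup G).card_mul_index
    rw [hP] at h
    rw [pow_one]; exact h.symm
  have hpm : ¬ p ∣ (P : Subgroup G).index := P.not_dvd_index
  have hm1 : 1 < (P : Subgroup G).index := by
    have h0 : (P : Subgroup G).index ≠ 0 := Subgroup.index_ne_zero_of_finite
    have h1 : (P : Subgroup G).index ≠ 1 := by
      intro h
      apply hna
      have htop : (P : Subgroup G) = ⊤ := Subgroup.index_eq_one.mp h
      have hG : Nat.card G = p := by
        rw [← hP, htop, Subgroup.card_top]
      have : Fact (Nat.card G).Prime := ⟨by rw [hG]; exact hp⟩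
      have hcyc : IsCyclic G := isCyclic_of_prime_card rfl
      exact hcyc.isMulCommutative
    omega
  have hinj := SimpleSmall2.toPermHom_sylow_injective (G := G) p 1 _ hcard one_pos hpm hm1
  -- a generator of `P`
  obtain ⟨x, hxP, hx⟩ : ∃ x ∈ (P : Subgroup G), orderOf x = p := by
    obtain ⟨y, hy⟩ := exists_prime_orderOf_dvd_card' (G := (P : Subgroup G)) p (by rw [hP])
    exact ⟨(y : G), y.2, by rw [Subgroup.orderOf_coe]; exact hy⟩
  have hzp : Subgroup.zpowers x = (P : Subgroup G) := by
    apply Subgroup.eq_of_le_of_card_ge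
    · rw [Subgroup.zpowers_le]; exact hxP
    · rw [Nat.card_zpowers, hx, hP]
  set φ := MulAction.toPermHom G (Sylow p G) with hφ
  set σ : Equiv.Perm (Sylow p G) := φ x with hσdef
  have hσ : orderOf σ = p := by
    rw [hσdef, orderOf_injective φ hinj]; exact hx
  -- `σ` fixes only `P`
  have hfix : ∀ R : Sylow p G, σ R = R ↔ R = P := by
    intro R
    constructor
    · intro hR
      have hxR : x • R = R := hR
      have hxN : x ∈ Subgroup.normalizer ((R : Subgroup G) : Set G) :=
        Sylow.smul_eq_iff_mem_normalizer.mp hxR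
      have hPN : (P : Subgroup G) ≤ Subgroup.normalizer ((R : Subgroup G) : Set G) := by
        rw [← hzp, Subgroup.zpowers_le]; exact hxN
      have h1 := P.2.inf_normalizer_sylow R
      have hPR : (P : Subgroup G) ≤ (R : Subgroup G) := by
        have h2 : (P : Subgroup G) ⊓ Subgroup.normalizer ((R : Subgroup G) : Set G) = (P : Subgroup G) :=
          inf_eq_left.mpr hPN
        have h3 : (P : Subgroup G) = (P : Subgroup G) ⊓ (R : Subgroup G) := h2.symm.trans h1
        rw [h3]; exact inf_le_right
      exact (Sylow.ext (P.3 R.2 hPR))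
    · rintro rfl
      show x • R = R
      exact Sylow.smul_eq_iff_mem_normalizer.mpr (Subgroup.le_normalizer hxP)
  -- the support of `σ` is the complement of `{P}`
  have hsupp : σ.support = Finset.univ.erase P := by
    ext R
    rw [Equiv.Perm.mem_support, Finset.mem_erase]
    simp only [Finset.mem_univ, and_true]
    exact not_congr (hfix R)
  have hcardα : Fintype.card (Sylow p G) = 1 + k * p := by
    rw [← Nat.card_eq_fintype_card]; exact hd
  have hsum : σ.cycleType.sum = k * p := by
    rw [Equiv.Perm.sum_cycleType, hsupp, Finset.card_erase_of_mem (Finset.mem_univ P),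
      Finset.card_univ, hcardα]
    omega
  obtain ⟨n, hn⟩ := Equiv.Perm.cycleType_prime_order (σ := σ) (by rw [hσ]; exact hp)
  rw [hσ] at hn
  have hk : n + 1 = k := by
    rw [hn, Multiset.sum_replicate, smul_eq_mul] at hsum
    exact Nat.eq_of_mul_eq_mul_right hp.pos hsum
  -- the order of the centraliser of `σ`
  have hcent := Equiv.Perm.nat_card_centralizer (g := σ)
  have hprod : σ.cycleType.prod = p ^ k := by
    rw [hn, Multiset.prod_replicate, hk]
  have hfin : σ.cycleType.toFinset = {p} := by
    rw [hn]
    exact Multiset.toFinset_replicate (n + 1) p ▸ (by simp)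
  have hcount : σ.cycleType.count p = k := by
    rw [hn, Multiset.count_replicate_self, hk]
  rw [hsum, hprod, hfin, Finset.prod_singleton, hcount, hcardα] at hcent
  have h1 : 1 + k * p - k * p = 1 := by omega
  rw [h1, Nat.factorial_one, one_mul] at hcent
  -- `C_G(P)` embeds in the centraliser of `σ`
  have hle : (Subgroup.centralizer ((P : Subgroup G) : Set G)).map φ ≤ Subgroup.centralizer {σ} := by
    rintro _ ⟨g, hg, rfl⟩
    rw [Subgroup.mem_centralizer_iff]
    intro τ hτ
    rw [Set.mem_singleton_iff] at hτ
    subst hτ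
    rw [hσdef, ← map_mul, ← map_mul]
    congr 1
    exact hg x hxP
  have hdvd : p * c ∣ p ^ k * k.factorial := by
    rw [← hc, ← hcent]
    have h2 : Nat.card ((Subgroup.centralizer ((P : Subgroup G) : Set G)).map φ) =
        Nat.card (Subgroup.centralizer ((P : Subgroup G) : Set G)) :=
      (Nat.card_congr ((Subgroup.centralizer ((P : Subgroup G) : Set G)).equivMapOfInjective φ hinj).toEquiv).symm
    rw [← h2]
    exact Subgroup.card_dvd_of_le hle
  -- `p ∤ c`
  have hpc : ¬ p ∣ c := by
    intro hpc
    apply hpm
    have h3 : p * c ∣ p * (P : Subgroup G).index := by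
      rw [← hc]
      have := Subgroup.card_subgroup_dvd_card (Subgroup.centralizer ((P : Subgroup G) : Set G))
      rw [hcard, pow_one] at this
      exact this
    have h4 : c ∣ (P : Subgroup G).index := Nat.dvd_of_mul_dvd_mul_left hp.pos h3
    exact hpc.trans h4
  have hcop : Nat.Coprime c (p ^ k) := by
    apply Nat.Coprime.pow_right
    exact ((Nat.Prime.coprime_iff_not_dvd hp).mpr hpc).symm
  exact hcop.dvd_of_dvd_mul_left ((Dvd.intro_left p rfl).trans hdvd)

end Cfsg.Agent.O83
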