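import Mathlib
import Cfsg.Agent.S0999
import Cfsg.Agent.BR.RedK

/-!
# S0983: the large prime step (helper2)

If a prime `p` with `p ^ 3 > |G|` divides the order of a non-abelian simple group `G` with
`3640 < |G| ≤ 6232`, then `|G| = 4080` or `|G| = 6072` (landed `S0999`, Brauer–Reynolds, and the
orders of `PSL₂(q)`).
-/

set_option autoImplicit false

namespace Cfsg.Agent.O83

open Cfsg Cfsg.Agent.BR

theorem o83_large {G : Type*} [Group G] [Finite G] [IsSimpleGroup G] (hna : ¬ IsMulCommutative G)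
    (p : ℕ) (hp : p.Prime) (hdvd : p ∣ Nat.card G) (hbig : Nat.card G < p ^ 3)
    (h1 : 3640 < Nat.card G) (h2 : Nat.card G ≤ 6232) :
    Nat.card G = 4080 ∨ Nat.card G = 6072 := by
  have hcyc : ¬ IsCyclic G := by
    intro h
    exact hna IsCyclic.isMulCommutative
  rcases Cfsg.Agent.S0999.result hcyc p hp hdvd hbig with
    ⟨F, _, _, hF, hp3, ⟨e⟩⟩ | ⟨m, F, _, _, hF, hpm, hp3, ⟨e⟩⟩
  · right
    have hodd : Odd p := hp.odd_of_ne_two (by omega)
    have hc := br_redK_card_psl_odd hF hodd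
    rw [← Nat.card_congr e.toEquiv] at hc
    -- `2 n = p (p² - 1)`
    have hp20 : 20 ≤ p := by
      by_contra hlt
      have hle : p ≤ 19 := by omega
      have h3 : p * (p ^ 2 - 1) ≤ 19 * (19 ^ 2 - 1) :=
        Nat.mul_le_mul hle (Nat.sub_le_sub_right (Nat.pow_le_pow_left hle 2) 1)
      omega
    have hp23 : p ≤ 23 := by
      by_contra hlt
      have hle : 24 ≤ p := by omega
      have h3 : 24 * (24 ^ 2 - 1) ≤ p * (p ^ 2 - 1) :=
        Nat.mul_le_mul hle (Nat.sub_le_sub_right (Nat.pow_le_pow_left hle 2) 1)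
      omega
    interval_cases p
    · norm_num at hp
    · norm_num at hp
    · norm_num at hp
    · omega
  · left
    have hm2 : 2 ≤ m := by
      by_contra hlt
      have hm1 : m ≤ 1 := by omega
      have : 2 ^ m ≤ 2 ^ 1 := Nat.pow_le_pow_right (by norm_num) hm1
      omega
    have hc := br_redK_card_psl_even (by omega : 1 ≤ m) hF
    rw [← Nat.card_congr e.toEquiv] at hc
    have hm5 : m < 5 := by
      by_contra hlt
      have h5 : 2 ^ 5 ≤ 2 ^ m := Nat.pow_le_pow_right (by norm_num) (by omega)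
      have h6 : (2 ^ 5) ^ 2 - 1 ≤ (2 ^ m) ^ 2 - 1 :=
        Nat.sub_le_sub_right (Nat.pow_le_pow_left h5 2) 1
      have h7 : 2 ^ 5 * ((2 ^ 5) ^ 2 - 1) ≤ 2 ^ m * ((2 ^ m) ^ 2 - 1) := Nat.mul_le_mul h5 h6
      rw [← hc] at h7
      norm_num at h7
      omega
    interval_cases m
    · norm_num at hc; omega
    · norm_num at hc; omega
    · norm_num at hc; omega

end Cfsg.Agent.O83
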