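import Mathlib
import Cfsg.Agent.S4700
import Cfsg.Agent.S0904
import Cfsg.Agent.BR.RedK
import Cfsg.Agent.D1C.ValPMain
import Cfsg.Agent.D1C.Principal
import Cfsg.Agent.Helper6.PowCongr
import Cfsg.Agent.Helper2.BrTIH
import Cfsg.Agent.Helper2.SmallOrder
import Cfsg.Agent.Helper2.SylowExact2

/-!
# S0983 (simple orders in (3640, 6232]), tools of helper1 (prefix `o83_h1_`)

Generic one-prime tests for a simple group `G` of order `n` and a prime `p` with `p ∥ n`:
* `o83_h1_cardP`, `o83_h1_nsyl` : `|P| = p`, `n_p ∣ n / p`, `n_p ≡ 1 (p)`, `n_p ≠ 1`, `|N(P)| n_p = n`;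
* `o83_h1_e` : `|N(P)| = p a` gives `e c = a`, `e ∣ p - 1`, `e ≠ 1`, `|C(P)| = p c`;
* `o83_h1_transfer` : `|N(P)| = p` is impossible;
* `o83_h1_s4700` : `n_p = 1 + k p` is impossible when `k` is not of the form of S4700 and `n` is not
  the order of `PSL(2,p)` (for primes `p` not of the form `2^m + 1`);
* `o83_h1_s0904` : for `n = p^a q^b r`: `|N(S_r)| = r e` with `e ∣ r - 1`.
-/

set_option autoImplicit false
set_option linter.style.haveILetI false

namespace Cfsg.Agent.O83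

open Cfsg Cfsg.Agent.Helper2 Cfsg.Agent.Helper6 Cfsg.Agent.BR Cfsg.Agent.D1

universe u

variable {G : Type u} [Group G] [Finite G]

/-- a Sylow `p`-subgroup has order `p` when `p ∥ |G|` -/
theorem o83_h1_cardP {n p m : ℕ} [Fact p.Prime] (hG : Nat.card G = n) (hn : n = p * m)
    (hpm : ¬ p ∣ m) (P : Sylow p G) : Nat.card (P : Subgroup G) = p := by
  have := SylowExact.card_sylow_of_exact_pow (s := p) (k := 1) (m := m)
    (by rw [hG, hn, pow_one]) hpm P
  simpa using this

/-- the number of Sylow `p`-subgroups of a simple group, `p ∥ |G|` -/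
theorem o83_h1_nsyl [IsSimpleGroup G] {n p m : ℕ} [Fact p.Prime] (hG : Nat.card G = n)
    (hn : n = p * m) (hpm : ¬ p ∣ m) (hm : m ≠ 1) (P : Sylow p G) :
    Nat.card (Sylow p G) ∣ m ∧ Nat.card (Sylow p G) % p = 1 ∧ Nat.card (Sylow p G) ≠ 1 ∧
      Nat.card ↥(Subgroup.normalizer ((P : Subgroup G) : Set G)) * Nat.card (Sylow p G) = n := by
  have hp := (Fact.out : p.Prime)
  have hP := o83_h1_cardP hG hn hpm P
  have hm0 : m ≠ 0 := by
    rintro rfl
    exact hpm (dvd_zero p)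
  refine ⟨?_, ?_, ?_, ?_⟩
  · have hidx : (P : Subgroup G).index = m := by
      have h1 := (P : Subgroup G).card_mul_index
      rw [hP, hG, hn] at h1
      exact Nat.eq_of_mul_eq_mul_left hp.pos h1
    exact hidx ▸ Sylow.card_dvd_index P
  · have h1 : Nat.card (Sylow p G) ≡ 1 [MOD p] := card_sylow_modEq_one p G
    rw [Nat.ModEq, Nat.mod_eq_of_lt hp.one_lt] at h1
    exact h1
  · apply SmallOrder.card_sylow_ne_one P
    · rw [hP]
      exact hp.one_lt.ne'
    · rw [hP, hG, hn]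
      intro h
      have h2 : p * 1 = p * m := by rw [mul_one]; exact h
      exact hm (Nat.eq_of_mul_eq_mul_left hp.pos h2).symm
  · rw [← hG]
    exact SmallOrder.card_normalizer_mul_card_sylow P

/-- the index `e = |N : C|` -/
theorem o83_h1_e (hperf : commutator G = ⊤) {p : ℕ} [Fact p.Prime] (P : Sylow p G)
    (hP : Nat.card (P : Subgroup G) = p) (a : ℕ)
    (hN : Nat.card ↥(Subgroup.normalizer ((P : Subgroup G) : Set G)) = p * a) :
    ∃ e c : ℕ, c * e = a ∧ e ∣ p - 1 ∧ e ≠ 1 ∧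
      Nat.card ↥(Subgroup.centralizer ((P : Subgroup G) : Set G)) = p * c ∧
      (Subgroup.centralizer ((P : Subgroup G) : Set G)).relIndex
        (Subgroup.normalizer ((P : Subgroup G) : Set G)) = e := by
  have hp := (Fact.out : p.Prime)
  obtain ⟨M, hM⟩ := exists_isPModular p hp
  obtain ⟨e, he⟩ : ∃ e : ℕ, (Subgroup.centralizer ((P : Subgroup G) : Set G)).relIndex
      (Subgroup.normalizer ((P : Subgroup G) : Set G)) = e := ⟨_, rfl⟩
  have hP1 : (P : Subgroup G) ≠ ⊥ := by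
    intro h
    rw [h, Subgroup.card_bot] at hP
    exact hp.one_lt.ne' hP.symm
  have he1 : e ≠ 1 := by
    intro h1
    rw [h1, Subgroup.relIndex_eq_one] at he
    exact hP1 (br_redK_transfer hperf p P he)
  have hep : e ∣ p - 1 := by
    obtain ⟨J, iF, -, -, -, hJ, -⟩ := d1_valp_main (M := M) p hM P hP e he
    exact ⟨Fintype.card J, by rw [mul_comm]; exact hJ.symm⟩
  have hCN : Subgroup.centralizer ((P : Subgroup G) : Set G) ≤
      Subgroup.normalizer ((P : Subgroup G) : Set G) := Subgroup.centralizer_le_normalizer _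
  have h2 := Subgroup.relIndex_mul_relIndex ⊥
    (Subgroup.centralizer ((P : Subgroup G) : Set G))
    (Subgroup.normalizer ((P : Subgroup G) : Set G)) bot_le hCN
  rw [Subgroup.relIndex_bot_left, Subgroup.relIndex_bot_left, hN, he] at h2
  have h7c : p ∣ Nat.card ↥(Subgroup.centralizer ((P : Subgroup G) : Set G)) := by
    have h := Subgroup.card_dvd_of_le (d1_fin_le_centralizer (P : Subgroup G) hP)
    rwa [hP] at h
  obtain ⟨c, hc⟩ := h7c
  refine ⟨e, c, ?_, hep, he1, hc, he⟩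
  rw [hc, mul_assoc] at h2
  exact Nat.eq_of_mul_eq_mul_left hp.pos h2

/-- `|N(P)| = p` is impossible in a perfect group -/
theorem o83_h1_transfer (hperf : commutator G = ⊤) {p : ℕ} [Fact p.Prime] (P : Sylow p G)
    (hP : Nat.card (P : Subgroup G) = p)
    (hN : Nat.card ↥(Subgroup.normalizer ((P : Subgroup G) : Set G)) = p) : False := by
  obtain ⟨e, c, hce, -, he1, -, -⟩ := o83_h1_e hperf P hP 1 (by rw [hN, mul_one])
  have : e = 1 := Nat.eq_one_of_mul_eq_one_left hce
  exact he1 this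

/-- the test of S4700 for a prime `p` which is not of the form `2 ^ m + 1` -/
theorem o83_h1_s4700 [IsSimpleGroup G] {n p : ℕ} [Fact p.Prime] (hG : Nat.card G = n)
    (hnp : ¬ n.Prime) (hodd : Odd p) (P : Sylow p G) (hP : Nat.card (P : Subgroup G) = p)
    (k : ℕ) (hk : Nat.card (Sylow p G) = 1 + k * p)
    (h1 : 2 * n ≠ p * (p ^ 2 - 1)) (h2 : ∀ m : ℕ, p ≠ 2 ^ m + 1)
    (hF : ∀ h u : ℕ, 0 < h → 0 < u → k * (u + 1) ≠ h * u * p + u ^ 2 + u + h) : False := by
  classical
  have hp := (Fact.out : p.Prime)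
  have hperf : commutator G = ⊤ := BrTI.perfect_of_simple (by rw [hG]; exact hnp)
  rcases Cfsg.Agent.S4700.result hperf p P hP k hk with
    ⟨F, _, _, hF', -, ⟨e⟩⟩ | ⟨m, F, _, _, -, hp2, -, -⟩ | ⟨hh, u, hh0, hu0, heq⟩
  · have hc := br_redK_card_psl_odd (F := F) hF' hodd
    have h3 : Nat.card (G ⧸ Cfsg.pPrimeCore p G) =
        Nat.card (Matrix.ProjectiveSpecialLinearGroup (Fin 2) F) := Nat.card_congr e.toEquiv
    have hidx : 2 * (Cfsg.pPrimeCore p G).index = p * (p ^ 2 - 1) := by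
      rw [← hc, ← h3]
      rfl
    rcases (Subgroup.Normal.eq_bot_or_eq_top
      (inferInstance : (Cfsg.pPrimeCore p G).Normal)) with hb | ht
    · rw [hb, Subgroup.index_bot, hG] at hidx
      exact h1 hidx
    · rw [ht, Subgroup.index_top] at hidx
      have h3 : 3 ≤ p := by
        have := hp.two_le
        obtain ⟨j, hj⟩ := hodd
        omega
      have h4 : 8 ≤ p ^ 2 - 1 := by
        have : 3 * 3 ≤ p * p := Nat.mul_le_mul h3 h3
        rw [pow_two]
        omega
      have h5 : 3 * 8 ≤ p * (p ^ 2 - 1) := Nat.mul_le_mul h3 h4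
      omega
  · exact h2 m hp2
  · exact hF hh u hh0 hu0 heq

/-- the test of S0904: `|N(S_r)| = r e` with `e ∣ r - 1`, `e ≠ 1` -/
theorem o83_h1_s0904 [IsSimpleGroup G] {n : ℕ} (p q r a b : ℕ) (hp : p.Prime) (hq : q.Prime)
    [Fact r.Prime] (hpq : p ≠ q) (hpr : p ≠ r) (hqr : q ≠ r) (hG : Nat.card G = n)
    (hn : n = p ^ a * q ^ b * r) (hnp : ¬ n.Prime) (S : Sylow r G) :
    ∃ e : ℕ, Nat.card ↥(Subgroup.normalizer ((S : Subgroup G) : Set G)) = r * e ∧ e ∣ r - 1 ∧
      e ≠ 1 := by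
  have hr := (Fact.out : r.Prime)
  have hperf : commutator G = ⊤ := BrTI.perfect_of_simple (by rw [hG]; exact hnp)
  have hC : Subgroup.centralizer ((S : Subgroup G) : Set G) = (S : Subgroup G) :=
    Cfsg.Agent.S0904.result p q r a b hp hq hpq hpr hqr (by rw [hG, hn]) S
  have hrm : ¬ r ∣ p ^ a * q ^ b := by
    intro h
    rcases (Nat.Prime.dvd_mul hr).mp h with h | h
    · exact hpr ((Nat.prime_dvd_prime_iff_eq hr hp).mp (hr.dvd_of_dvd_pow h)).symm
    · exact hqr ((Nat.prime_dvd_prime_iff_eq hr hq).mp (hr.dvd_of_dvd_pow h)).symm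
  have hS : Nat.card (S : Subgroup G) = r :=
    o83_h1_cardP hG (by rw [hn, mul_comm]) hrm S
  have hdvd : r ∣ Nat.card ↥(Subgroup.normalizer ((S : Subgroup G) : Set G)) := by
    have h := Subgroup.card_dvd_of_le (Subgroup.le_normalizer (H := (S : Subgroup G)))
    rwa [hS] at h
  obtain ⟨a', ha'⟩ := hdvd
  obtain ⟨e, c, hce, hep, he1, hc, -⟩ := o83_h1_e hperf S hS a' ha'
  rw [hC, hS] at hc
  have hc1 : c = 1 := by
    have : r * 1 = r * c := by rw [mul_one]; exact hc
    exact (Nat.eq_of_mul_eq_mul_left hr.pos this).symm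
  rw [hc1, one_mul] at hce
  exact ⟨e, by rw [ha', hce], hep, he1⟩

end Cfsg.Agent.O83
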