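import Mathlib
import Cfsg.Agent.O83.ToolsH1

/-!
# S0983: no simple group of order 3675 = 3 · 5^2 · 7^2 (helper1)

`|N(P_3) : C(P_3)|` divides `2` and the odd number `|N(P_3)| / 3`, so it is `1`: Burnside transfer.
-/

set_option autoImplicit false
set_option linter.style.haveILetI false

namespace Cfsg.Agent.O83

open Cfsg Cfsg.Agent.Helper2

theorem o83_n3675 {G : Type*} [Group G] [Finite G] [IsSimpleGroup G] : Nat.card G ≠ 3675 := by
  intro hG
  haveI : Fact (Nat.Prime 3) := ⟨by norm_num⟩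
  have hperf : commutator G = ⊤ := BrTI.perfect_of_simple (by rw [hG]; norm_num)
  let P : Sylow 3 G := default
  have hn : 3675 = 3 * 1225 := by norm_num
  have hP := o83_h1_cardP hG hn (by norm_num) P
  obtain ⟨-, -, -, hNn⟩ := o83_h1_nsyl hG hn (by norm_num) (by norm_num) P
  have hdvd : 3 ∣ Nat.card ↥(Subgroup.normalizer ((P : Subgroup G) : Set G)) := by
    have h := Subgroup.card_dvd_of_le (Subgroup.le_normalizer (H := (P : Subgroup G)))
    rwa [hP] at h
  obtain ⟨a, ha⟩ := hdvd
  obtain ⟨e, c, hce, hep, he1, -, -⟩ := o83_h1_e hperf P hP a ha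
  have he2 : e = 2 := by
    have h2 : e ≤ 2 := Nat.le_of_dvd (by norm_num) hep
    have h0 : e ≠ 0 := by
      rintro rfl
      simp at hep
    omega
  have h2 : 2 ∣ 3675 := by
    rw [← hNn, ha, ← hce, he2]
    exact ⟨3 * c * Nat.card (Sylow 3 G), by ring⟩
  omega

end Cfsg.Agent.O83
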