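import Mathlib
import Cfsg.Agent.O83.ToolsH1

/-!
# S0983: no simple group of order 3696 = 2^4 · 3 · 7 · 11 (helper1)

`n_11 ∈ {12, 56} = {1 + 1 · 11, 1 + 5 · 11}`; both die by S4700 (`o83_h1_s4700`).
-/

set_option autoImplicit false
set_option linter.style.haveILetI false

namespace Cfsg.Agent.O83

open Cfsg Cfsg.Agent.Helper2

theorem o83_n3696_cands (d : ℕ) (hd : d ∣ 336) (h1 : d % 11 = 1) : d = 1 ∨ d = 12 ∨ d = 56 := by
  have hle : d ≤ 336 := Nat.le_of_dvd (by norm_num) hd
  interval_cases d <;> omega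

/-- `11` is not of the form `2 ^ m + 1` -/
theorem o83_n3696_eleven (m : ℕ) : 11 ≠ 2 ^ m + 1 := by
  intro h
  have hm : m < 4 := by
    by_contra hcon
    have : 2 ^ 4 ≤ 2 ^ m := Nat.pow_le_pow_right (by norm_num) (by omega)
    omega
  interval_cases m <;> omega

/-- `k (u + 1) = 11 h u + u² + u + h` has no solution for `k ≤ 5` -/
theorem o83_n3696_fform (k h u : ℕ) (hk : k ≤ 5) (hh : 0 < h) (hu : 0 < u) :
    k * (u + 1) ≠ h * u * 11 + u ^ 2 + u + h := by
  intro heq
  have h1 : u ≤ h * u := Nat.le_mul_of_pos_left u hh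
  have h2 : u ≤ u ^ 2 := by
    rw [pow_two]
    exact Nat.le_mul_of_pos_left u hu
  interval_cases k <;> omega

theorem o83_n3696 {G : Type*} [Group G] [Finite G] [IsSimpleGroup G] : Nat.card G ≠ 3696 := by
  intro hG
  haveI : Fact (Nat.Prime 11) := ⟨by norm_num⟩
  let P : Sylow 11 G := default
  have hn : 3696 = 11 * 336 := by norm_num
  have hP := o83_h1_cardP hG hn (by norm_num) P
  obtain ⟨hdvd, hmod, hne1, -⟩ := o83_h1_nsyl hG hn (by norm_num) (by norm_num) P
  rcases o83_n3696_cands _ hdvd hmod with h | h | h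
  · exact hne1 h
  · exact o83_h1_s4700 hG (by norm_num) (by decide) P hP 1 (by rw [h]) (by norm_num)
      o83_n3696_eleven (fun h' u hh hu => o83_n3696_fform 1 h' u (by norm_num) hh hu)
  · exact o83_h1_s4700 hG (by norm_num) (by decide) P hP 5 (by rw [h]) (by norm_num)
      o83_n3696_eleven (fun h' u hh hu => o83_n3696_fform 5 h' u (by norm_num) hh hu)

end Cfsg.Agent.O83
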