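import Mathlib
import Cfsg.Agent.O83.ToolsH1
import Cfsg.Agent.O50.CaseVal

/-!
# S0983: no simple group of order 3780 = 2^2 · 3^3 · 5 · 7 (helper1)

`n_7 ∈ {15, 36, 540}`.  `15 = 1 + 2 · 7` dies by S4700, `540` gives `|N(P)| = 7` (transfer), and for
`36` we get `|N(P)| = 105`, `e = 3`, and the principal `7`-block (S4441, `o50_cv_front`) has three
non-exceptional characters `1, χ₁, χ₂` of degrees dividing `108`, `≡ ± 1 (7)`, and an exceptional
character of degree dividing `108` with `ε θ(1) = 1 + ε₁ χ₁(1) + ε₂ χ₂(1)`: impossible.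
-/

set_option autoImplicit false
set_option linter.style.haveILetI false

namespace Cfsg.Agent.O83

open Cfsg Cfsg.Agent.Helper2 Cfsg.Agent.Helper6 Cfsg.Agent.BR Cfsg.Agent.O50 Cfsg.Agent.BL3

theorem o83_n3780_cands (d : ℕ) (hd : d ∣ 540) (h1 : d % 7 = 1) :
    d = 1 ∨ d = 15 ∨ d = 36 ∨ d = 540 := by
  have hle : d ≤ 540 := Nat.le_of_dvd (by norm_num) hd
  interval_cases d <;> omega

theorem o83_n3780_div108 (d : ℕ) (hd : d ∣ 108) :
    d = 1 ∨ d = 2 ∨ d = 3 ∨ d = 4 ∨ d = 6 ∨ d = 9 ∨ d = 12 ∨ d = 18 ∨ d = 27 ∨ d = 36 ∨ d = 54 ∨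
      d = 108 := by
  have hle : d ≤ 108 := Nat.le_of_dvd (by norm_num) hd
  interval_cases d <;> omega

/-- `7` is not of the form `2 ^ m + 1` -/
theorem o83_n3780_seven (m : ℕ) : 7 ≠ 2 ^ m + 1 := by
  intro h
  have hm : m < 3 := by
    by_contra hcon
    have : 2 ^ 3 ≤ 2 ^ m := Nat.pow_le_pow_right (by norm_num) (by omega)
    omega
  interval_cases m <;> omega

theorem o83_n3780_fform (h u : ℕ) (hh : 0 < h) (hu : 0 < u) :
    2 * (u + 1) ≠ h * u * 7 + u ^ 2 + u + h := by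
  intro heq
  have h1 : u ≤ h * u := Nat.le_mul_of_pos_left u hh
  have h2 : u ≤ u ^ 2 := by
    rw [pow_two]
    exact Nat.le_mul_of_pos_left u hu
  omega

/-- the degrees of the non-exceptional characters -/
theorem o83_n3780_X (f : ℕ) (s : ℤ) (hs : s = 1 ∨ s = -1) (hf : f ∣ 108) (hf2 : 2 ≤ f)
    (hmod : (f : ℤ) ≡ s [ZMOD 7]) : s * (f : ℤ) = 36 ∨ s * (f : ℤ) = -6 ∨ s * (f : ℤ) = -27 := by
  have hm : (f : ℤ) % 7 = s % 7 := hmod
  rcases o83_n3780_div108 f hf with h | h | h | h | h | h | h | h | h | h | h | h <;>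
    rcases hs with rfl | rfl <;> subst h <;> omega

/-- the degree equation has no solution -/
theorem o83_n3780_arith (f1 f2 y : ℕ) (s1 s2 ε : ℤ) (hs1 : s1 = 1 ∨ s1 = -1)
    (hs2 : s2 = 1 ∨ s2 = -1) (hε : ε = 1 ∨ ε = -1) (hf1 : f1 ∣ 108) (hf12 : 2 ≤ f1)
    (hf1mod : (f1 : ℤ) ≡ s1 [ZMOD 7]) (hf2 : f2 ∣ 108) (hf22 : 2 ≤ f2)
    (hf2mod : (f2 : ℤ) ≡ s2 [ZMOD 7]) (hy : y ∣ 108)
    (heq : ε * (y : ℤ) = 1 + s1 * (f1 : ℤ) + s2 * (f2 : ℤ)) : False := by
  have h1 := o83_n3780_X f1 s1 hs1 hf1 hf12 hf1mod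
  have h2 := o83_n3780_X f2 s2 hs2 hf2 hf22 hf2mod
  rcases o83_n3780_div108 y hy with h | h | h | h | h | h | h | h | h | h | h | h <;>
    subst h <;> rcases hε with rfl | rfl <;> rcases h1 with h1 | h1 | h1 <;>
    rcases h2 with h2 | h2 | h2 <;> omega

set_option maxHeartbeats 1600000 in
theorem o83_n3780 {G : Type*} [Group G] [Finite G] [IsSimpleGroup G] : Nat.card G ≠ 3780 := by
  classical
  intro hG
  haveI : Fact (Nat.Prime 7) := ⟨by norm_num⟩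
  have hperf : commutator G = ⊤ := BrTI.perfect_of_simple (by rw [hG]; norm_num)
  let P : Sylow 7 G := default
  have hn : 3780 = 7 * 540 := by norm_num
  have hP := o83_h1_cardP hG hn (by norm_num) P
  obtain ⟨hdvd, hmod, hne1, hNn⟩ := o83_h1_nsyl hG hn (by norm_num) (by norm_num) P
  rcases o83_n3780_cands _ hdvd hmod with h | h | h | h
  · exact hne1 h
  · exact o83_h1_s4700 hG (by norm_num) (by decide) P hP 2 (by rw [h]) (by norm_num)
      o83_n3780_seven o83_n3780_fform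
  · -- `n_7 = 36`, `|N(P)| = 105`
    rw [h] at hNn
    obtain ⟨e, c, hce, hep, he1, -, he⟩ := o83_h1_e hperf P hP 15 (by omega)
    have he3 : e = 3 := by
      have h6 : e ≤ 6 := Nat.le_of_dvd (by norm_num) hep
      have h15 : e ∣ 15 := ⟨c, by rw [mul_comm]; exact hce.symm⟩
      have h0 : e ≠ 0 := by
        rintro rfl
        simp at hep
      interval_cases e <;> omega
    rw [he3] at he
    obtain ⟨X, Y, εX, ε, hdisj, hcX, htrivX, hεtriv, hε, hX, θ₀, hθ₀, hdvdθ, hrel⟩ :=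
      o50_cv_front P hP 3 36 he (Or.inr rfl) h
    obtain ⟨χ₁, χ₂, h1ne, h2ne, h12, hXeq⟩ := bl3_three X hcX (trivIrr G) htrivX
    have hχ₁X : χ₁ ∈ X := by rw [hXeq]; simp
    have hχ₂X : χ₂ ∈ X := by rw [hXeq]; simp
    obtain ⟨hs1, hf1mod, hf1dvd, -⟩ := hX χ₁ hχ₁X
    obtain ⟨hs2, hf2mod, hf2dvd, -⟩ := hX χ₂ hχ₂X
    have hp1 : ¬ 7 ∣ orderOf (1 : G) := by
      rw [orderOf_one]
      norm_num
    have hdeg1 : ∀ χ : Cfsg.IrrCharacter G, χ ≠ trivIrr G →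
        2 ≤ Cfsg.charDegree (χ : G → ℂ) := by
      intro χ hχne
      have hfpos := (br_redb_degree χ).1
      have hf1 : Cfsg.charDegree (χ : G → ℂ) ≠ 1 := by
        intro h1
        apply hχne
        apply br_redb_eq_triv hperf
        rw [(br_redb_degree χ).2, h1, Nat.cast_one]
      omega
    have hnot1 : trivIrr G ∉ ({χ₁, χ₂} : Set (Cfsg.IrrCharacter G)) := by
      simp only [Set.mem_insert_iff, Set.mem_singleton_iff, not_or]
      exact ⟨h1ne.symm, h2ne.symm⟩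
    have hsum : ∑ᶠ χ ∈ X, (εX χ : ℂ) * (χ : G → ℂ) 1 =
        (trivIrr G : G → ℂ) 1 + (εX χ₁ : ℂ) * (χ₁ : G → ℂ) 1 +
          (εX χ₂ : ℂ) * (χ₂ : G → ℂ) 1 := by
      rw [hXeq, finsum_mem_insert _ hnot1 (Set.toFinite _), finsum_mem_pair h12, hεtriv]
      push_cast
      ring
    have htriv1 : (trivIrr G : G → ℂ) 1 = 1 := rfl
    have heq : ε * (Cfsg.charDegree (θ₀ : G → ℂ) : ℤ) =
        1 + εX χ₁ * (Cfsg.charDegree (χ₁ : G → ℂ) : ℤ) +
          εX χ₂ * (Cfsg.charDegree (χ₂ : G → ℂ) : ℤ) := by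
      have h1 := hrel 1 hp1
      rw [hsum, htriv1, (br_redb_degree θ₀).2, (br_redb_degree χ₁).2,
        (br_redb_degree χ₂).2] at h1
      exact_mod_cast h1
    exact o83_n3780_arith _ _ _ (εX χ₁) (εX χ₂) ε hs1 hs2 hε (by simpa using hf1dvd)
      (hdeg1 χ₁ h1ne) hf1mod (by simpa using hf2dvd) (hdeg1 χ₂ h2ne) hf2mod
      (by simpa using hdvdθ) heq
  · rw [h] at hNn
    exact o83_h1_transfer hperf P hP (by omega)

end Cfsg.Agent.O83
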