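import Mathlib
import Cfsg.Agent.O83.ToolsH1

/-!
# S0983: no simple group of order 3840 = 2^8 · 3 · 5 (helper1)

By S0904 `C(P_5) = P_5`, so `|N(P_5)| = 5 e` with `e ∣ 4`, `e ≠ 1`; but `n_5 = 768 / e` is `384`
or `192`, neither `≡ 1 (5)`.
-/

set_option autoImplicit false
set_option linter.style.haveILetI false

namespace Cfsg.Agent.O83

open Cfsg Cfsg.Agent.Helper2

theorem o83_n3840 {G : Type*} [Group G] [Finite G] [IsSimpleGroup G] : Nat.card G ≠ 3840 := by
  intro hG
  haveI : Fact (Nat.Prime 5) := ⟨by norm_num⟩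
  let P : Sylow 5 G := default
  have hn : 3840 = 5 * 768 := by norm_num
  obtain ⟨-, hmod, -, hNn⟩ := o83_h1_nsyl hG hn (by norm_num) (by norm_num) P
  obtain ⟨e, hN, hep, he1⟩ := o83_h1_s0904 2 3 5 8 1 (by norm_num) (by norm_num) (by norm_num)
    (by norm_num) (by norm_num) hG (by norm_num) (by norm_num) P
  have he4 : e ≤ 4 := Nat.le_of_dvd (by norm_num) hep
  have h0 : e ≠ 0 := by
    rintro rfl
    simp at hep
  rw [hN] at hNn
  have h3 : e ≠ 3 := by
    rintro rfl
    norm_num at hep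
  have : e = 2 ∨ e = 4 := by omega
  rcases this with rfl | rfl <;> omega

end Cfsg.Agent.O83
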