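import Mathlib
import Cfsg.Agent.O83.ToolsH1

/-!
# S0983: no simple group of order 3900 = 2^2 · 3 · 5^2 · 13 (helper1)

`n_13 ∣ 300`, `n_13 ≡ 1 (13)`, `n_13 ≠ 1` force `n_13 = 300`, `|N(P)| = 13`: Burnside transfer.
-/

set_option autoImplicit false
set_option linter.style.haveILetI false

namespace Cfsg.Agent.O83

open Cfsg Cfsg.Agent.Helper2

theorem o83_n3900_cands (d : ℕ) (hd : d ∣ 300) (h1 : d % 13 = 1) : d = 1 ∨ d = 300 := by
  have hle : d ≤ 300 := Nat.le_of_dvd (by norm_num) hd
  interval_cases d <;> omega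

theorem o83_n3900 {G : Type*} [Group G] [Finite G] [IsSimpleGroup G] : Nat.card G ≠ 3900 := by
  intro hG
  haveI : Fact (Nat.Prime 13) := ⟨by norm_num⟩
  have hperf : commutator G = ⊤ := BrTI.perfect_of_simple (by rw [hG]; norm_num)
  let P : Sylow 13 G := default
  have hn : 3900 = 13 * 300 := by norm_num
  have hP := o83_h1_cardP hG hn (by norm_num) P
  obtain ⟨hdvd, hmod, hne1, hNn⟩ := o83_h1_nsyl hG hn (by norm_num) (by norm_num) P
  rcases o83_n3900_cands _ hdvd hmod with h | h
  · exact hne1 h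
  · rw [h] at hNn
    exact o83_h1_transfer hperf P hP (by omega)

end Cfsg.Agent.O83
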