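import Mathlib
import Cfsg.Agent.O83.ToolsH1
import Cfsg.Agent.O83.N3696

/-!
# S0983: no simple group of order 3960 = 2^3 · 3^2 · 5 · 11 (helper1)

`n_11 ∈ {12, 45} = {1 + 1 · 11, 1 + 4 · 11}`; both die by S4700 (`o83_h1_s4700`).
-/

set_option autoImplicit false
set_option linter.style.haveILetI false

namespace Cfsg.Agent.O83

open Cfsg Cfsg.Agent.Helper2

theorem o83_n3960_cands (d : ℕ) (hd : d ∣ 360) (h1 : d % 11 = 1) : d = 1 ∨ d = 12 ∨ d = 45 := by
  have hle : d ≤ 360 := Nat.le_of_dvd (by norm_num) hd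
  interval_cases d <;> omega

theorem o83_n3960 {G : Type*} [Group G] [Finite G] [IsSimpleGroup G] : Nat.card G ≠ 3960 := by
  intro hG
  haveI : Fact (Nat.Prime 11) := ⟨by norm_num⟩
  let P : Sylow 11 G := default
  have hn : 3960 = 11 * 360 := by norm_num
  have hP := o83_h1_cardP hG hn (by norm_num) P
  obtain ⟨hdvd, hmod, hne1, -⟩ := o83_h1_nsyl hG hn (by norm_num) (by norm_num) P
  rcases o83_n3960_cands _ hdvd hmod with h | h | h
  · exact hne1 h
  · exact o83_h1_s4700 hG (by norm_num) (by decide) P hP 1 (by rw [h]) (by norm_num)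
      o83_n3696_eleven (fun h' u hh hu => o83_n3696_fform 1 h' u (by norm_num) hh hu)
  · exact o83_h1_s4700 hG (by norm_num) (by decide) P hP 4 (by rw [h]) (by norm_num)
      o83_n3696_eleven (fun h' u hh hu => o83_n3696_fform 4 h' u (by norm_num) hh hu)

end Cfsg.Agent.O83
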