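import Mathlib
import Cfsg.Agent.S0992

/-!
# S0983, order 4004 = 2^2 * 7 * 11 * 13 (helper3)

A non-abelian simple group of even order not divisible by `8` has `|N(T) : C(T)| = 3` for a Sylow
`2`-subgroup `T` (landed `S0992`), so `3` divides the order; `3` does not divide `4004`.
-/

set_option autoImplicit false

namespace Cfsg.Agent.O83

/-- a simple group of order 4004 is not commutative -/
theorem o83_n4004_not_comm {G : Type*} [Group G] [Finite G] [IsSimpleGroup G]
    (hG : Nat.card G = 4004) : ¬ IsMulCommutative G := by
  intro hc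
  let _ : CommGroup G := { (inferInstance : Group G) with mul_comm := hc.is_comm.comm }
  have hp : (Nat.card G).Prime := IsSimpleGroup.prime_card
  rw [hG] at hp
  norm_num at hp

/-- **no simple group has order 4004** -/
theorem o83_n4004 {G : Type*} [Group G] [Finite G] [IsSimpleGroup G] : Nat.card G ≠ 4004 := by
  intro hG
  haveI : Fact (Nat.Prime 2) := ⟨Nat.prime_two⟩
  have hna := o83_n4004_not_comm hG
  obtain ⟨T⟩ : Nonempty (Sylow 2 G) := inferInstance
  have h := (Cfsg.Agent.S0992.result hna (by rw [hG]; decide) (by rw [hG]; decide) T).2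
  have h1 : (Subgroup.centralizer ((T : Subgroup G) : Set G)).relIndex
      (Subgroup.normalizer ((T : Subgroup G) : Set G)) ∣
      Nat.card (Subgroup.normalizer ((T : Subgroup G) : Set G)) :=
    Subgroup.relIndex_dvd_card _ _
  have h2 : Nat.card (Subgroup.normalizer ((T : Subgroup G) : Set G)) ∣ Nat.card G :=
    Subgroup.card_subgroup_dvd_card _
  rw [h] at h1
  have h3 := dvd_trans h1 h2
  rw [hG] at h3
  norm_num at h3

end Cfsg.Agent.O83
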