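import Mathlib
import Cfsg.Agent.O57.Front
import Cfsg.Agent.O57.ETwo
import Cfsg.Agent.O57.Invert
import Cfsg.Agent.O83.Block
import Cfsg.Agent.Helper2.Ord4032_n36
import Cfsg.Agent.Helper8.Ord4032_n64

/-!
# S0983: order `4032` again (helper2)

`S0976` (no simple group of order `4032`) is on main, but its case `n₇ = 288` goes through
`Helper6/ClassMult.lean`, whose declaration `sum_classFinset_char` clashes with the one of
`Helper6/StructConst.lean`; the latter is in the import closure of every other piece of `S0983`, so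
`S0976` cannot be imported into the dispatch.  Here the case `n₇ = 288` is redone with the `O57`
toolkit (`S1001`: `C_G(P) = P`; `e = 2`; the closed form `o57_etwo` at the involution inverting `P`
gives `7 |C(t)|² f (f + δ) = 4032 (f - c)²`, and `f (f + δ)` is not a square); the cases
`n₇ = 8, 36, 64` are the landed ones (`Helper8/Ord4032_n64`, `Helper2/Ord4032_n36`).
-/

set_option autoImplicit false
set_option linter.style.haveILetI false

namespace Cfsg.Agent.O83

open Cfsg Cfsg.Agent.O57 Cfsg.Agent.Helper6 Cfsg.Agent.BR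

/-- the possible numbers of Sylow `7`-subgroups -/
theorem o83_n4032_div : ∀ n ∈ Nat.divisors 576, n % 7 = 1 →
    n = 1 ∨ n = 8 ∨ n = 36 ∨ n = 64 ∨ n = 288 := by
  decide

/-- `C² f (f + δ) = (24 (f - c))²` is impossible: `f (f ± 1)` is not a square -/
theorem o83_n4032_sq (C f : ℕ) (δ c : ℤ) (hC : 0 < C) (hf : 2 ≤ f) (hδ : δ = 1 ∨ δ = -1)
    (h : (7 : ℤ) * C * C * f * (f + δ) = 4032 * ((f : ℤ) - c) * ((f : ℤ) - c)) : False := by
  have hC' : (C : ℤ) ≠ 0 := by exact_mod_cast hC.ne'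
  have hf' : (2 : ℤ) ≤ f := by exact_mod_cast hf
  have h1 : (24 * ((f : ℤ) - c)) ^ 2 = (C : ℤ) ^ 2 * ((f : ℤ) * (f + δ)) := by linarith
  have hdvd : (C : ℤ) ^ 2 ∣ (24 * ((f : ℤ) - c)) ^ 2 := ⟨_, h1⟩
  rw [Int.pow_dvd_pow_iff (by norm_num : (2 : ℕ) ≠ 0)] at hdvd
  obtain ⟨q, hq⟩ := hdvd
  rw [hq, mul_pow] at h1
  have hc2 : (C : ℤ) ^ 2 ≠ 0 := pow_ne_zero 2 hC'
  have h2 : q ^ 2 = (f : ℤ) * (f + δ) := mul_left_cancel₀ hc2 h1
  have h3 : |q| ^ 2 = (f : ℤ) * (f + δ) := by rw [sq_abs, h2]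
  have h0 : 0 ≤ |q| := abs_nonneg q
  rcases hδ with hd | hd
  · rw [hd] at h3
    rcases le_or_gt |q| (f : ℤ) with h4 | h4
    · nlinarith
    · have h5 : (f : ℤ) + 1 ≤ |q| := h4
      nlinarith
  · rw [hd] at h3
    rcases le_or_gt |q| ((f : ℤ) - 1) with h4 | h4
    · nlinarith
    · have h5 : (f : ℤ) ≤ |q| := by linarith
      nlinarith

/-- the case `n₇ = 288` -/
theorem o83_n4032_n288 {G : Type*} [Group G] [Finite G] [IsSimpleGroup G]
    (hG : Nat.card G = 4032) : Nat.card (Sylow 7 G) ≠ 288 := by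
  classical
  intro h288
  haveI : Fact (Nat.Prime 7) := ⟨by norm_num⟩
  haveI : Fintype G := Fintype.ofFinite G
  have hna : ¬ IsMulCommutative G := o83_noncomm hG (by norm_num)
  have hperf := o83_perfect hna
  have hsimp : ∀ K : Subgroup G, K.Normal → K = ⊥ ∨ K = ⊤ := fun K hK => o83_normal K hK
  let P : Sylow 7 G := default
  obtain ⟨hP, X, Y, dl, ep, O, h⟩ :=
    o57_front 7 2 6 (by norm_num) (by norm_num) (by rw [hG]; norm_num) P
  -- `e = 2`
  have he : (P : Subgroup G).relIndex (Subgroup.normalizer ((P : Subgroup G) : Set G)) = 2 := by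
    have hcard := o57_card_eq h
    rw [hG, h288] at hcard
    omega
  obtain ⟨χ, δ, hχ1, hδ, hχx, hform⟩ := o57_etwo h he
  obtain ⟨x, hxP, hx1, -, -, hcent⟩ := br_redb_generator 7 (P : Subgroup G) hP
  obtain ⟨t, ht, hinv⟩ := o57_invert h (by rw [he])
  have htt : t * t = 1 := by
    have := pow_orderOf_eq_one t
    rwa [ht, pow_two] at this
  have ht1 : t ≠ 1 := by
    intro h0
    rw [h0, orderOf_one] at ht
    omega
  have ht7 : ¬ 7 ∣ orderOf t := by rw [ht]; norm_num
  have hpairs := o57_pairs_card h (by norm_num) t ht hinv x hxP hx1 hcent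
  have key := hform x hxP hx1 t t ht7 ht7
  obtain ⟨c, hc, -, -, hcne⟩ := o83_blk_val0 hperf hsimp t ht1 htt χ hχ1
  obtain ⟨hfpos, hf⟩ := br_redb_degree χ
  obtain ⟨f, hfdef⟩ : ∃ f : ℕ, f = Cfsg.charDegree (χ : G → ℂ) := ⟨_, rfl⟩
  rw [← hfdef] at hfpos hf hcne
  have hf2 : 2 ≤ f := by
    by_contra hlt
    have hf1 : f = 1 := by omega
    apply hχ1
    apply br_redb_eq_triv hperf
    rw [hf, hf1, Nat.cast_one]
  rw [hc, hf, hG, hpairs] at key
  have keyZ : (7 : ℤ) * (Nat.card (Subgroup.centralizer ({t} : Set G)) : ℤ) *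
      (Nat.card (Subgroup.centralizer ({t} : Set G)) : ℤ) * (f : ℤ) * ((f : ℤ) + δ) =
      4032 * ((f : ℤ) - c) * ((f : ℤ) - c) := by
    exact_mod_cast key
  exact o83_n4032_sq _ f δ c Nat.card_pos hf2 hδ keyZ

/-- **no simple group of order `4032`** (same statement as the landed `S0976`, other imports) -/
theorem o83_n4032 {G : Type*} [Group G] [Finite G] [IsSimpleGroup G] : Nat.card G ≠ 4032 := by
  intro h
  haveI : Fact (Nat.Prime 7) := ⟨by norm_num⟩
  have hna : ¬ IsMulCommutative G := o83_noncomm h (by norm_num)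
  let P : Sylow 7 G := default
  obtain ⟨-, d, hd, h1, h2, h3, -, -⟩ := o83_syl hna 7 1 576 (h.trans (by norm_num))
    (by norm_num) (by norm_num) (by norm_num) P
  rcases o83_n4032_div d (Nat.mem_divisors.mpr ⟨h1, by norm_num⟩) h2 with h0 | h0 | h0 | h0 | h0
  · exact h3 h0
  · exact Cfsg.Agent.Helper8.Ord4032.index_ne_eight h _
      ((Sylow.card_eq_index_normalizer P).symm.trans (hd.trans h0))
  · exact Cfsg.Agent.Helper2.Ord4032.n7_ne_36 h (hd.trans h0)
  · exact Cfsg.Agent.Helper8.Ord4032.n7_ne_64 h (hd.trans h0)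
  · exact o83_n4032_n288 h (hd.trans h0)

end Cfsg.Agent.O83
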