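import Mathlib
import Cfsg.Agent.Helper2.SmallOrder
import Cfsg.Agent.Helper2.SimpleSmall3

/-!
# S0983, shared file G5 (helper3): Sylow subgroups of order `p ^ 2`

`P` a Sylow `p`-subgroup of order `p ^ 2` (so `P` is abelian).  Every prime `q` dividing
`|N(P) : C(P)|` divides `p ^ 2 - 1` (`o83_sq_prime`): `N(P) / C(P)` embeds in `Aut P`, an automorphism
`σ` of prime order `q` of a group `T` of order `p ^ 2` has a fixed-point subgroup `F ≠ T` of order
`1`, `p` with `|F| ≡ p ^ 2 (mod q)`, and `q ≠ p` because `P ≤ C(P)` is a full Sylow subgroup.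
Together with Burnside's transfer theorem: the `p'`-part of `|N(P)|` is not prime to `p ^ 2 - 1`
(`o83_sq_transfer`).  Headers: `notes/S0983_headers.lean.txt`.
-/

set_option autoImplicit false

namespace Cfsg.Agent.O83

open Cfsg.Agent.Helper2.SmallOrder

/-- a prime dividing `|Aut T|`, `|T| = p ^ 2`, is `p` or divides `p ^ 2 - 1` -/
theorem o83_sq_aut (T : Type*) [Group T] [Finite T] (p q : ℕ) [hp : Fact p.Prime]
    [hq : Fact q.Prime] (hT : Nat.card T = p ^ 2) (hqd : q ∣ Nat.card (MulAut T)) :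
    q = p ∨ q ∣ p ^ 2 - 1 := by
  classical
  haveI : Finite (MulAut T) := Finite.of_injective (fun σ : MulAut T => (σ : T → T))
    (fun σ τ h => MulEquiv.ext (congrFun h))
  obtain ⟨σ, hσ⟩ := exists_prime_orderOf_dvd_card' (G := MulAut T) q hqd
  have hZ : IsPGroup q (Subgroup.zpowers σ) :=
    IsPGroup.of_card (n := 1) (by rw [Nat.card_zpowers, hσ, pow_one])
  have hmod := hZ.card_modEq_card_fixedPoints T
  set F : Subgroup T := FixedPoints.subgroup (Subgroup.zpowers σ) T with hF
  have hFcard : Nat.card F = Nat.card (MulAction.fixedPoints (Subgroup.zpowers σ) T) := rfl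
  rw [← hFcard, hT] at hmod
  have hFdvd : Nat.card F ∣ p ^ 2 := by
    rw [← hT]
    exact Subgroup.card_subgroup_dvd_card F
  obtain ⟨j, hj, hFj⟩ := (Nat.dvd_prime_pow hp.out).mp hFdvd
  have hFle : Nat.card F ≤ p ^ 2 := Nat.le_of_dvd (pow_pos hp.out.pos 2) hFdvd
  have hdvd : q ∣ p ^ 2 - Nat.card F := (Nat.modEq_iff_dvd' hFle).mp hmod.symm
  have hj2 : j ≠ 2 := by
    rintro rfl
    -- all of `T` is fixed, so `σ = 1`
    have hFtop : F = ⊤ := by
      apply Subgroup.eq_top_of_card_eq
      rw [hFj, hT]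
    have hσ1 : σ = 1 := by
      apply MulEquiv.ext
      intro t
      have ht : t ∈ F := by rw [hFtop]; exact Subgroup.mem_top t
      have := (FixedPoints.mem_subgroup (Subgroup.zpowers σ) T t).mp ht
        ⟨σ, Subgroup.mem_zpowers σ⟩
      exact this
    rw [hσ1, orderOf_one] at hσ
    exact hq.out.one_lt.ne hσ
  have hj01 : j = 0 ∨ j = 1 := by omega
  rcases hj01 with rfl | rfl
  · right
    rw [hFj, pow_zero] at hdvd
    exact hdvd
  · rw [hFj, pow_one] at hdvd
    have h1 : p ^ 2 - p = p * (p - 1) := by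
      rw [Nat.mul_sub, mul_one, pow_two]
    rw [h1] at hdvd
    rcases (Nat.Prime.dvd_mul hq.out).mp hdvd with h | h
    · left
      exact (Nat.prime_dvd_prime_iff_eq hq.out hp.out).mp h
    · right
      have h2 : p ^ 2 - 1 = (p - 1) * (p + 1) := by
        have hp1 : 1 ≤ p := hp.out.one_lt.le
        zify [hp1, Nat.one_le_pow 2 p hp1]
        ring
      rw [h2]
      exact Dvd.dvd.mul_right h _

variable {G : Type*} [Group G] [Finite G] [IsSimpleGroup G]

/-- a Sylow subgroup of order `p ^ 2` lies in its centraliser -/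
theorem o83_sq_le_centralizer (p : ℕ) [Fact p.Prime] (P : Sylow p G)
    (hP : Nat.card (P : Subgroup G) = p ^ 2) :
    (P : Subgroup G) ≤ Subgroup.centralizer ((P : Subgroup G) : Set G) := by
  have hcomm : ∀ a b : (P : Subgroup G), a * b = b * a :=
    IsPGroup.commutative_of_card_eq_prime_sq (p := p) hP
  intro x hx
  rw [Subgroup.mem_centralizer_iff]
  intro y hy
  have := hcomm ⟨y, hy⟩ ⟨x, hx⟩
  exact congrArg Subtype.val this

/-- G5: `|P| = p ^ 2`.  Every prime `q` dividing `|N(P) : C(P)|` divides `p ^ 2 - 1`. -/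
theorem o83_sq_prime (p : ℕ) [Fact p.Prime] (P : Sylow p G) (hP : Nat.card (P : Subgroup G) = p ^ 2)
    (q : ℕ) (hq : q.Prime)
    (hqd : q ∣ (Subgroup.centralizer ((P : Subgroup G) : Set G)).relIndex
      (Subgroup.normalizer ((P : Subgroup G) : Set G))) : q ∣ p ^ 2 - 1 := by
  haveI : Fact q.Prime := ⟨hq⟩
  have h1 := relIndex_centralizer_normalizer_dvd_card_mulAut (P : Subgroup G)
  rcases o83_sq_aut (P : Subgroup G) p q hP (dvd_trans hqd h1) with h | h
  · exfalso
    subst h
    -- `q ^ 3` would divide `|N(P)|`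
    have hPC := o83_sq_le_centralizer q P hP
    have hCN : Subgroup.centralizer ((P : Subgroup G) : Set G) ≤
        Subgroup.normalizer ((P : Subgroup G) : Set G) := Subgroup.centralizer_le_normalizer _
    have h2 := Subgroup.relIndex_mul_relIndex ⊥
      (Subgroup.centralizer ((P : Subgroup G) : Set G))
      (Subgroup.normalizer ((P : Subgroup G) : Set G)) bot_le hCN
    rw [Subgroup.relIndex_bot_left, Subgroup.relIndex_bot_left] at h2
    have h3 : q ^ 2 ∣ Nat.card (Subgroup.centralizer ((P : Subgroup G) : Set G)) := by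
      rw [← hP]
      exact Subgroup.card_dvd_of_le hPC
    have h4 : q ^ 3 ∣ Nat.card (Subgroup.normalizer ((P : Subgroup G) : Set G)) := by
      rw [← h2, pow_succ]
      exact Nat.mul_dvd_mul h3 hqd
    have h5 : q ^ 3 ∣ Nat.card G := dvd_trans h4 (Subgroup.card_subgroup_dvd_card _)
    have h6 := P.pow_dvd_card_of_pow_dvd_card h5
    rw [hP] at h6
    have h7 := Nat.le_of_dvd (pow_pos hq.pos 2) h6
    have h8 : q ^ 2 < q ^ 3 := Nat.pow_lt_pow_right hq.one_lt (by norm_num)
    omega
  · exact h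

/-- G5 packaged with Burnside transfer: the `p'`-part of `|N(P)|` is not prime to `p ^ 2 - 1`. -/
theorem o83_sq_transfer (p : ℕ) [Fact p.Prime] (P : Sylow p G) (hP : Nat.card (P : Subgroup G) = p ^ 2)
    (hpG : Nat.card G ≠ p ^ 2) :
    ¬ Nat.Coprime (Nat.card (Subgroup.normalizer ((P : Subgroup G) : Set G)) / p ^ 2) (p ^ 2 - 1) := by
  intro hcop
  have hp : p.Prime := Fact.out
  have hPC := o83_sq_le_centralizer p P hP
  have hCN : Subgroup.centralizer ((P : Subgroup G) : Set G) ≤
      Subgroup.normalizer ((P : Subgroup G) : Set G) := Subgroup.centralizer_le_normalizer _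
  have h2 := Subgroup.relIndex_mul_relIndex ⊥
    (Subgroup.centralizer ((P : Subgroup G) : Set G))
    (Subgroup.normalizer ((P : Subgroup G) : Set G)) bot_le hCN
  rw [Subgroup.relIndex_bot_left, Subgroup.relIndex_bot_left] at h2
  obtain ⟨c, hc⟩ : p ^ 2 ∣ Nat.card (Subgroup.centralizer ((P : Subgroup G) : Set G)) := by
    rw [← hP]
    exact Subgroup.card_dvd_of_le hPC
  -- `|N(P)| / p ^ 2 = c * |N : C|`
  have hdiv : Nat.card (Subgroup.normalizer ((P : Subgroup G) : Set G)) / p ^ 2 =
      c * (Subgroup.centralizer ((P : Subgroup G) : Set G)).relIndex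
        (Subgroup.normalizer ((P : Subgroup G) : Set G)) := by
    rw [← h2, hc, mul_assoc]
    exact Nat.mul_div_cancel_left _ (pow_pos hp.pos 2)
  have hrel : (Subgroup.centralizer ((P : Subgroup G) : Set G)).relIndex
      (Subgroup.normalizer ((P : Subgroup G) : Set G)) = 1 := by
    by_contra hne
    obtain ⟨q, hq, hqd⟩ := Nat.exists_prime_and_dvd hne
    have h3 := o83_sq_prime p P hP q hq hqd
    have h4 : q ∣ Nat.card (Subgroup.normalizer ((P : Subgroup G) : Set G)) / p ^ 2 := by
      rw [hdiv]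
      exact Dvd.dvd.mul_left hqd c
    have h5 := Nat.dvd_gcd h4 h3
    rw [hcop.gcd_eq_one] at h5
    exact hq.one_lt.ne' (Nat.dvd_one.mp h5)
  have hle : Subgroup.normalizer ((P : Subgroup G) : Set G) ≤
      Subgroup.centralizer ((P : Subgroup G) : Set G) := Subgroup.relIndex_eq_one.mp hrel
  refine Cfsg.Agent.Helper2.SimpleSmall2.false_of_normalizer_le_centralizer P ?_ ?_ hle
  · rw [hP]
    have := Nat.one_lt_pow (n := 2) (by norm_num) hp.one_lt
    omega
  · rw [hP]
    exact fun h => hpG h.symm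

end Cfsg.Agent.O83
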