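import Mathlib
import Cfsg.Agent.O83.Basic
import Cfsg.Agent.O83.Sq

/-!
# S0983, order 4095 = 3^2 * 5 * 7 * 13 (helper3)

Sylow `3`: `n_3 ∣ 455`, `n_3 ≡ 1 (mod 3)`, `n_3 ≠ 1` leaves `n_3 ∈ {7, 13, 91}`.  `n_3 = 7`: the index test
(`2 * 4095 ∤ 7!`).  `n_3 ∈ {13, 91}`: `|N(P)| / 9 ∈ {35, 5}` is coprime to `8 = 3 ^ 2 - 1`, so `N(P) = C(P)` with `P`
abelian and Burnside's transfer theorem (`o83_sq_transfer`) gives a normal `3`-complement.
-/

set_option autoImplicit false

namespace Cfsg.Agent.O83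

open Cfsg

theorem o83_n4095 {G : Type*} [Group G] [Finite G] [IsSimpleGroup G] : Nat.card G ≠ 4095 := by
  intro hG
  have hna : ¬ IsMulCommutative G := o83_noncomm hG (by norm_num)
  have : Fact (Nat.Prime 3) := ⟨by norm_num⟩
  let P : Sylow 3 G := default
  obtain ⟨hP, d, hd, hd1, hd2, hd3, hd4, hN⟩ :=
    o83_syl hna 3 2 455 (by rw [hG]; norm_num) (by norm_num) (by norm_num) (by norm_num) P
  have hd455 : d ≤ 455 := Nat.le_of_dvd (by norm_num) hd1
  have htr := o83_sq_transfer 3 P hP (by rw [hG]; norm_num)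
  have hcases : d = 7 ∨ d = 13 ∨ d = 91 := by
    interval_cases d <;> omega
  rcases hcases with rfl | rfl | rfl
  · revert hd4; decide
  · have hNc : Nat.card (Subgroup.normalizer ((P : Subgroup G) : Set G)) = 315 := by omega
    rw [hNc] at htr
    exact htr (by decide)
  · have hNc : Nat.card (Subgroup.normalizer ((P : Subgroup G) : Set G)) = 45 := by omega
    rw [hNc] at htr
    exact htr (by decide)

end Cfsg.Agent.O83
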