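import Mathlib
import Cfsg.Agent.O83.Basic
import Cfsg.Agent.O83.Block

/-!
# S0983, order 4160 = 2^6 * 5 * 13 (helper3)

Sylow `13`: `n_13 ∣ 320`, `n_13 ≡ 1 (mod 13)`, `n_13 ≠ 1` forces `n_13 = 40`, `|N(P)| = 104 = 13 * 8`; `e = |N : C|`
divides `12` and `8` and is not `1`, so `e ∈ {2, 4}`.  Principal `13`-block:
* `e = 2`: `f ∣ 80`, `f ≡ ±1 (mod 13)` gives `f = 40`, `sg = 1`; `θ ∣ 80`, `θ ≡ ±2` gives `θ ∈ {2, 80}`, `s = 1`; but
  `θ = 1 + 40`.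
* `e = 4`: `f_i ∣ 160`, `f_i ≡ ±1 (mod 13)` gives `f_i = 40`, `sg_i = 1`; `θ ∣ 160`, `θ ≡ ±4` gives `θ ∈ {4, 160}`,
  `s = 1`; but `θ = 1 + 120`.
-/

set_option autoImplicit false

namespace Cfsg.Agent.O83

open Cfsg

/-- divisors of `160` that are `≡ ±1 (mod 13)` -/
private theorem o83_n4160_f (f : ℕ) (sg : ℤ) (hf2 : 2 ≤ f) (hfd : f ∣ 160) (hsg : sg = 1 ∨ sg = -1)
    (hfm : (f : ℤ) ≡ sg [ZMOD (13 : ℕ)]) : f = 40 ∧ sg = 1 := by
  have hf160 : f ≤ 160 := Nat.le_of_dvd (by norm_num) hfd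
  unfold Int.ModEq at hfm
  have hfm' : f % 13 = 1 ∨ f % 13 = 12 := by
    rcases hsg with rfl | rfl <;> omega
  have hfc : f = 40 := by
    interval_cases f <;> omega
  subst hfc
  refine ⟨rfl, ?_⟩
  rcases hsg with rfl | rfl
  · rfl
  · omega

theorem o83_n4160 {G : Type*} [Group G] [Finite G] [IsSimpleGroup G] : Nat.card G ≠ 4160 := by
  intro hG
  have hna : ¬ IsMulCommutative G := o83_noncomm hG (by norm_num)
  have : Fact (Nat.Prime 13) := ⟨by norm_num⟩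
  let P : Sylow 13 G := default
  obtain ⟨hP, d, hd, hd1, hd2, hd3, hd4, hN⟩ :=
    o83_syl hna 13 1 320 (by rw [hG]; norm_num) (by norm_num) (by norm_num) (by norm_num) P
  rw [pow_one] at hP
  have hd320 : d ≤ 320 := Nat.le_of_dvd (by norm_num) hd1
  have hd40 : d = 40 := by
    interval_cases d <;> omega
  subst hd40
  have hNc : Nat.card (Subgroup.normalizer ((P : Subgroup G) : Set G)) = 104 := by omega
  obtain ⟨c, e, -, hNce, hrel, he1, he2, -⟩ := o83_nc 13 P hP (by rw [hG]; norm_num)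
  rw [hNc] at hNce
  have hce : c * e = 8 := by
    have : 13 * (c * e) = 13 * 8 := by rw [← mul_assoc]; omega
    exact Nat.eq_of_mul_eq_mul_left (by norm_num) this
  have he : e = 2 ∨ e = 4 := by
    have he12 : e ≤ 12 := Nat.le_of_dvd (by norm_num) he1
    have he8 : e ∣ 8 := Dvd.intro_left c hce
    interval_cases e <;> omega
  rcases he with rfl | rfl
  · -- `e = 2`
    obtain ⟨f, sg, th, s, hf2, hfd, hsg, hfm, hth2, hthd, hs, hthm, hrel1, -, -⟩ :=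
      o83_b0_e2 hna 13 (by norm_num) P hP 40 hrel hd
    obtain ⟨rfl, rfl⟩ := o83_n4160_f f sg hf2 (dvd_trans hfd (by norm_num)) hsg hfm
    have hth : (th : ℤ) = 41 ∨ (th : ℤ) = -41 := by
      rcases hs with rfl | rfl <;> omega
    have hth41 : th = 41 := by omega
    subst hth41
    omega
  · -- `e = 4`
    obtain ⟨f₁, f₂, f₃, sg₁, sg₂, sg₃, th, s, hf2₁, hfd₁, hsg₁, hfm₁, hf2₂, hfd₂, hsg₂, hfm₂,
      hf2₃, hfd₃, hsg₃, hfm₃, hth2, hthd, hs, hthm, hrel1, -, -⟩ :=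
      o83_b0_e4 hna 13 (by norm_num) P hP 40 hrel hd
    obtain ⟨rfl, rfl⟩ := o83_n4160_f f₁ sg₁ hf2₁ hfd₁ hsg₁ hfm₁
    obtain ⟨rfl, rfl⟩ := o83_n4160_f f₂ sg₂ hf2₂ hfd₂ hsg₂ hfm₂
    obtain ⟨rfl, rfl⟩ := o83_n4160_f f₃ sg₃ hf2₃ hfd₃ hsg₃ hfm₃
    have hth : (th : ℤ) = 121 ∨ (th : ℤ) = -121 := by
      rcases hs with rfl | rfl <;> omega
    have hth121 : th = 121 := by omega
    subst hth121
    omega

end Cfsg.Agent.O83
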