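import Mathlib
import Cfsg.Agent.O83.Basic
import Cfsg.Agent.O83.Cent
import Cfsg.Agent.O83.Block

/-!
# S0983, order 4200 = 2^3 * 3 * 5^2 * 7 (lead)

At `p = 7`: `n_7 ∈ {8, 15, 50, 120}`.  `8`: index; `15`: `c e = 40` but `c ∣ 2!`; `120`: `c e = 5`
with `e ∣ 6`, `e ≠ 1`; `50`: `c e = 12`, `e ∈ {2, 3, 6}` and `C(P)` has an involution `u`.
The `B_0(7)` degrees divide `300`, are `≡ ± 1 (mod 7)` and at most `64`, so they lie in
`{6, 15, 20, 50}`; the value at `u` of a character of degree `6` would be `≡ 6 (mod 28)`,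
impossible; the remaining degrees are all divisible by `5`, and the degree equation dies.
-/

set_option autoImplicit false

namespace Cfsg.Agent.O83

open Cfsg Cfsg.Agent.Helper2

/-- the possible (degree, sign) pairs -/
theorem o83_n4200_pair (f : ℕ) (sg : ℤ) (h2 : 2 ≤ f) (hf : f ∣ 300) (hsg : sg = 1 ∨ sg = -1)
    (hm : (f : ℤ) ≡ sg [ZMOD ((7 : ℕ) : ℤ)]) (h64 : f ≤ 64) :
    (f = 6 ∧ sg = -1) ∨ (f = 15 ∧ sg = 1) ∨ (f = 20 ∧ sg = -1) ∨ (f = 50 ∧ sg = 1) := by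
  have hm' := hm.eq
  rcases hsg with rfl | rfl <;> interval_cases f <;> omega

/-- the value at an involution: degree `6` is impossible, and `sg * m ≡ 1 (mod 7)` -/
theorem o83_n4200_inv (f : ℕ) (sg m : ℤ) (hsg : sg = 1 ∨ sg = -1)
    (h1 : m ≡ sg [ZMOD ((7 : ℕ) : ℤ)]) (h2 : m ≡ (f : ℤ) [ZMOD 4]) (h3 : |m| ≤ (f : ℤ))
    (h4 : m ≠ (f : ℤ)) : ¬ (f = 6 ∧ sg = -1) ∧ ∃ l : ℤ, sg * m = 1 + 7 * l := by
  have h1' := h1.eq
  have h2' := h2.eq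
  have h3' := abs_le.mp h3
  refine ⟨?_, ?_⟩
  · rintro ⟨rfl, rfl⟩
    omega
  · rcases hsg with rfl | rfl
    · exact ⟨(m - 1) / 7, by omega⟩
    · exact ⟨(-m - 1) / 7, by omega⟩

/-- a pair that is not `(6, -1)`: the signed degree is divisible by 5 -/
theorem o83_n4200_five (f : ℕ) (sg : ℤ)
    (h : (f = 6 ∧ sg = -1) ∨ (f = 15 ∧ sg = 1) ∨ (f = 20 ∧ sg = -1) ∨ (f = 50 ∧ sg = 1))
    (h6 : ¬ (f = 6 ∧ sg = -1)) : ∃ k : ℤ, sg * (f : ℤ) = 5 * k := by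
  rcases h with h | ⟨rfl, rfl⟩ | ⟨rfl, rfl⟩ | ⟨rfl, rfl⟩
  · exact absurd h h6
  · exact ⟨3, by norm_num⟩
  · exact ⟨-4, by norm_num⟩
  · exact ⟨10, by norm_num⟩

/-- `e = 2`: the degree equation alone -/
theorem o83_n4200_e2 (f : ℕ) (sg : ℤ) (th : ℕ) (s : ℤ)
    (hf2 : 2 ≤ f) (hfd : f ∣ 100) (hsg : sg = 1 ∨ sg = -1)
    (hfm : (f : ℤ) ≡ sg [ZMOD ((7 : ℕ) : ℤ)])
    (ht2 : 2 ≤ th) (htd : th ∣ 100) (hs : s = 1 ∨ s = -1)
    (htm : (th : ℤ) ≡ s * 2 [ZMOD ((7 : ℕ) : ℤ)])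
    (hrel : s * th = 1 + sg * (f : ℤ)) (hsq : 1 + f ^ 2 + 3 * th ^ 2 ≤ 4200) : False := by
  have hfm' := hfm.eq
  have htm' := htm.eq
  have hf64 : f ≤ 64 := by
    by_contra hcon
    have : 65 ≤ f := by omega
    nlinarith
  rcases hsg with rfl | rfl <;> rcases hs with rfl | rfl
  · have hth : th = f + 1 := by omega
    subst hth
    interval_cases f <;> omega
  · exfalso; omega
  · exfalso; omega
  · have hth : f = th + 1 := by omega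
    subst hth
    have : th ≤ 63 := by omega
    interval_cases th <;> omega

/-- `e = 3`: degrees in `{6, 15, 50}`, `6` dies at the involution -/
theorem o83_n4200_e3 (f₁ f₂ : ℕ) (sg₁ sg₂ : ℤ) (th : ℕ) (s : ℤ) (m₁ m₂ : ℤ)
    (a1 : 2 ≤ f₁) (a2 : f₁ ∣ 150) (a3 : sg₁ = 1 ∨ sg₁ = -1)
    (a4 : (f₁ : ℤ) ≡ sg₁ [ZMOD ((7 : ℕ) : ℤ)])
    (a5 : 2 ≤ f₂) (a6 : f₂ ∣ 150) (a7 : sg₂ = 1 ∨ sg₂ = -1)
    (a8 : (f₂ : ℤ) ≡ sg₂ [ZMOD ((7 : ℕ) : ℤ)])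
    (h3 : th ∣ 150)
    (h6 : s * th = 1 + (sg₁ * (f₁ : ℤ) + sg₂ * (f₂ : ℤ)))
    (h4 : s = 1 ∨ s = -1)
    (h7 : 1 + (f₁ ^ 2 + f₂ ^ 2) + 2 * th ^ 2 ≤ 4200)
    (c1 : m₁ ≡ sg₁ [ZMOD ((7 : ℕ) : ℤ)]) (c2 : m₁ ≡ (f₁ : ℤ) [ZMOD 4]) (c3 : |m₁| ≤ (f₁ : ℤ))
    (c4 : m₁ ≠ (f₁ : ℤ))
    (c5 : m₂ ≡ sg₂ [ZMOD ((7 : ℕ) : ℤ)]) (c6 : m₂ ≡ (f₂ : ℤ) [ZMOD 4]) (c7 : |m₂| ≤ (f₂ : ℤ))
    (c8 : m₂ ≠ (f₂ : ℤ)) : False := by
  have hf1 : f₁ ≤ 64 := by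
    by_contra hcon
    have : 65 ≤ f₁ := by omega
    nlinarith
  have hf2 : f₂ ≤ 64 := by
    by_contra hcon
    have : 65 ≤ f₂ := by omega
    nlinarith
  have hth : th ≤ 45 := by
    by_contra hcon
    have : 46 ≤ th := by omega
    nlinarith
  have p1 := o83_n4200_pair f₁ sg₁ a1 (a2.trans (by norm_num)) a3 a4 hf1
  have p2 := o83_n4200_pair f₂ sg₂ a5 (a6.trans (by norm_num)) a7 a8 hf2
  obtain ⟨n1, -⟩ := o83_n4200_inv f₁ sg₁ m₁ a3 c1 c2 c3 c4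
  obtain ⟨n2, -⟩ := o83_n4200_inv f₂ sg₂ m₂ a7 c5 c6 c7 c8
  rcases p1 with h | ⟨rfl, rfl⟩ | ⟨rfl, rfl⟩ | ⟨rfl, rfl⟩
  · exact n1 h
  · rcases p2 with h | ⟨rfl, rfl⟩ | ⟨rfl, rfl⟩ | ⟨rfl, rfl⟩
    · exact n2 h
    · rcases h4 with rfl | rfl <;> interval_cases th <;> omega
    · omega
    · rcases h4 with rfl | rfl <;> interval_cases th <;> omega
  · omega
  · rcases p2 with h | ⟨rfl, rfl⟩ | ⟨rfl, rfl⟩ | ⟨rfl, rfl⟩
    · exact n2 h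
    · rcases h4 with rfl | rfl <;> interval_cases th <;> omega
    · omega
    · rcases h4 with rfl | rfl <;> interval_cases th <;> omega

/-- `e = 6` -/
theorem o83_n4200_e6 (f : Fin 5 → ℕ) (sg m : Fin 5 → ℤ) (th : ℕ) (s mt : ℤ)
    (h1 : ∀ i, 2 ≤ f i ∧ f i ∣ 300 ∧ (sg i = 1 ∨ sg i = -1) ∧
      (f i : ℤ) ≡ sg i [ZMOD ((7 : ℕ) : ℤ)])
    (h2 : 2 ≤ th) (h3 : th ∣ 300) (h4 : s = 1 ∨ s = -1)
    (h5 : (th : ℤ) ≡ s * 6 [ZMOD ((7 : ℕ) : ℤ)])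
    (h6 : s * th = 1 + ∑ i, sg i * (f i : ℤ)) (h7 : 1 + ∑ i, f i ^ 2 + th ^ 2 ≤ 4200)
    (b1 : ∀ i, m i ≡ sg i [ZMOD ((7 : ℕ) : ℤ)] ∧ m i ≡ (f i : ℤ) [ZMOD 4] ∧
      |m i| ≤ (f i : ℤ) ∧ m i ≠ (f i : ℤ))
    (b2 : mt ≡ (th : ℤ) [ZMOD 4]) (b3 : |mt| ≤ (th : ℤ)) (b4 : mt ≠ (th : ℤ))
    (b5 : s * mt = 1 + ∑ i, sg i * m i) : False := by
  have hf64 : ∀ i, f i ≤ 64 := by
    intro i
    have hle : f i ^ 2 ≤ ∑ j, f j ^ 2 :=
      Finset.single_le_sum (f := fun j => f j ^ 2) (fun j _ => Nat.zero_le _) (Finset.mem_univ i)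
    by_contra hcon
    have h65 : 65 ≤ f i := by omega
    have : 65 ^ 2 ≤ f i ^ 2 := Nat.pow_le_pow_left h65 2
    omega
  have hth64 : th ≤ 64 := by
    by_contra hcon
    have h65 : 65 ≤ th := by omega
    have : 65 ^ 2 ≤ th ^ 2 := Nat.pow_le_pow_left h65 2
    omega
  have key : ∀ i, ∃ k l : ℤ, sg i * (f i : ℤ) = 5 * k ∧ sg i * m i = 1 + 7 * l := by
    intro i
    obtain ⟨a1, a2, a3, a4⟩ := h1 i
    obtain ⟨c1, c2, c3, c4⟩ := b1 i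
    have pr := o83_n4200_pair (f i) (sg i) a1 a2 a3 a4 (hf64 i)
    obtain ⟨n1, l, hl⟩ := o83_n4200_inv (f i) (sg i) (m i) a3 c1 c2 c3 c4
    obtain ⟨k, hk⟩ := o83_n4200_five (f i) (sg i) pr n1
    exact ⟨k, l, hk, hl⟩
  rw [Fin.sum_univ_five] at h6 b5
  obtain ⟨k0, l0, hk0, hl0⟩ := key 0
  obtain ⟨k1, l1, hk1, hl1⟩ := key 1
  obtain ⟨k2, l2, hk2, hl2⟩ := key 2
  obtain ⟨k3, l3, hk3, hl3⟩ := key 3
  obtain ⟨k4, l4, hk4, hl4⟩ := key 4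
  rw [hk0, hk1, hk2, hk3, hk4] at h6
  rw [hl0, hl1, hl2, hl3, hl4] at b5
  have h5' := h5.eq
  have b2' := b2.eq
  have b3' := abs_le.mp b3
  rcases h4 with rfl | rfl <;> interval_cases th <;> omega

theorem o83_n4200 {G : Type*} [Group G] [Finite G] [IsSimpleGroup G] : Nat.card G ≠ 4200 := by
  intro hG
  have : Fact (Nat.Prime 7) := ⟨by norm_num⟩
  have : Fact (Nat.Prime 2) := ⟨Nat.prime_two⟩
  have hna : ¬ IsMulCommutative G := o83_noncomm hG (by norm_num)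
  let P : Sylow 7 G := default
  obtain ⟨hP, d, hd, hdm, hd7, hd1, hdf, hN⟩ :=
    o83_syl hna 7 1 600 (by rw [hG]; norm_num) (by norm_num) (by norm_num) (by norm_num) P
  rw [pow_one] at hP
  obtain ⟨c, e, hC, hNc, hrel, he6, he1, -⟩ := o83_nc 7 P hP (by rw [hG]; norm_num)
  have he : e = 2 ∨ e = 3 ∨ e = 6 := by
    have h6 : e ∣ 6 := he6
    have hle : e ≤ 6 := Nat.le_of_dvd (by norm_num) h6
    interval_cases e <;> omega
  rw [hNc] at hN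
  obtain ⟨t, ht⟩ := hdm
  have ht75 : t ≤ 75 := by
    by_contra hcon
    have : 76 ≤ t := by omega
    have : 8 ≤ d := by omega
    nlinarith
  have hcases : d = 8 ∨ d = 15 ∨ d = 50 ∨ d = 120 := by
    interval_cases t <;> omega
  rcases hcases with rfl | rfl | rfl | rfl
  · -- d = 8 : index
    norm_num [Nat.factorial] at hdf
  · -- d = 15 : c * e = 40, c ∣ 2!
    have hc := o83_cent_factorial hna 7 P hP 2 c (by rw [hd]) hC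
    have hc2 : c ≤ 2 := Nat.le_of_dvd (by norm_num) (by simpa using hc)
    rcases he with rfl | rfl | rfl <;> omega
  · -- d = 50 : c * e = 12
    have h2C : 2 ∣ Nat.card (Subgroup.centralizer ((P : Subgroup G) : Set G)) := by
      rw [hC]
      rcases he with rfl | rfl | rfl <;> omega
    obtain ⟨x, hx⟩ := exists_prime_orderOf_dvd_card' 2 h2C
    have hu : (x : G) ∈ Subgroup.centralizer ((P : Subgroup G) : Set G) := x.2
    have hu1 : (x : G) ≠ 1 := by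
      intro h
      have : x = 1 := Subtype.ext h
      rw [this, orderOf_one] at hx
      omega
    have hu2 : (x : G) * (x : G) = 1 := by
      have h1 : x ^ 2 = 1 := hx ▸ pow_orderOf_eq_one x
      have h2 := congrArg Subtype.val h1
      simpa [pow_two] using h2
    rcases he with rfl | rfl | rfl
    · -- e = 2
      obtain ⟨f, sg, th, s, hf2, hfd, hsg, hfm, ht2, htd, hs, htm, hr, hsq, -⟩ :=
        o83_b0_e2 hna 7 (by norm_num) P hP 50 hrel hd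
      rw [hG] at hsq
      have h3 : (7 - 1) / 2 = 3 := by norm_num
      rw [h3] at hsq
      exact o83_n4200_e2 f sg th s hf2 (by simpa using hfd) hsg hfm ht2 (by simpa using htd) hs
        htm hr hsq
    · -- e = 3
      obtain ⟨f₁, f₂, sg₁, sg₂, th, s, a1, a2, a3, a4, a5, a6, a7, a8, h2, h3, h4, h5, h6, h7,
        h8⟩ := o83_b0_e3 hna 7 (by norm_num) P hP 50 hrel hd
      obtain ⟨m₁, m₂, mt, c1, c2, c3, c4, c5, c6, c7, c8, -, -, -, -⟩ := h8 x hu hu1 hu2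
      rw [hG] at h7
      have h2' : (7 - 1) / 3 = 2 := by norm_num
      rw [h2'] at h7
      exact o83_n4200_e3 f₁ f₂ sg₁ sg₂ th s m₁ m₂ a1 (by simpa using a2) a3 a4 a5
        (by simpa using a6) a7 a8 (by simpa using h3) h6 h4 h7 c1 c2 c3 c4 c5 c6 c7 c8
    · -- e = 6
      obtain ⟨f, sg, th, s, h1, h2, h3, h4, h5, h6, h7, h8⟩ :=
        o83_b0 hna 7 (by norm_num) P hP 6 50 hrel hd
      obtain ⟨m, mt, b1, b2, b3, b4, b5⟩ := h8 x hu hu1 hu2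
      rw [hG] at h7
      have h1' : (7 - 1) / 6 = 1 := by norm_num
      rw [h1', one_mul] at h7
      have h300 : 6 * 50 = 300 := by norm_num
      rw [h300] at h1 h3
      exact o83_n4200_e6 f sg m th s mt h1 h2 h3 h4 (by exact_mod_cast h5) h6 h7 b1 b2 b3 b4 b5
  · -- d = 120 : c * e = 5
    rcases he with rfl | rfl | rfl <;> omega

end Cfsg.Agent.O83
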