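import Mathlib
import Cfsg.Agent.O83.Basic
import Cfsg.Agent.S0904
import Cfsg.Agent.Helper4.CaminaLemma
import Cfsg.Agent.Helper2.CyclicSylow2

/-!
# S0983: no simple group of order 4212 = 2^2 * 3^4 * 13 (helper8)

`S0904` gives `C(P) = P` for a Sylow 13-subgroup `P`, so `|N(P)| = 13 e` with `e ∣ 12`, and
`n_13 = 324 / e = 1 (mod 13)` forces `e = 12`, `n_13 = 27`.  The index of `N(P)` is odd, so `N(P)`
contains a Sylow 2-subgroup `T` of `G`; `T ∩ C(P) = 1`, so `T` embeds in the cyclic group
`Aut(P)` and is cyclic, which is impossible in a simple group of even order.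
-/

set_option autoImplicit false

namespace Cfsg.Agent.O83

theorem o83_n4212 {G : Type*} [Group G] [Finite G] [IsSimpleGroup G] : Nat.card G ≠ 4212 := by
  intro h
  have hna : ¬ IsMulCommutative G := o83_noncomm h (by norm_num)
  haveI : Fact (Nat.Prime 13) := ⟨by norm_num⟩
  haveI : Fact (Nat.Prime 2) := ⟨Nat.prime_two⟩
  let P : Sylow 13 G := default
  have hcent : Subgroup.centralizer ((P : Subgroup G) : Set G) = (P : Subgroup G) :=
    Cfsg.Agent.S0904.result 2 3 13 2 4 (by norm_num) (by norm_num) (by norm_num) (by norm_num)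
      (by norm_num) (by rw [h]; norm_num) P
  obtain ⟨hP, d, hdS, -, hd13, -, -, hNd⟩ :=
    o83_syl hna 13 1 324 (by rw [h]; norm_num) (by norm_num) (by norm_num) (by norm_num) P
  rw [pow_one] at hP hNd
  obtain ⟨c, e, hC, hN, -, he, he1, -⟩ := o83_nc 13 P hP (by rw [h]; norm_num)
  rw [hcent, hP] at hC
  have hc : c = 1 := by omega
  subst hc
  rw [hN] at hNd
  have he12 : e ∣ 12 := he
  have hele : e ≤ 12 := Nat.le_of_dvd (by norm_num) he12
  have hd27 : d = 27 := by
    interval_cases e <;> omega
  subst hd27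
  -- a Sylow 2-subgroup inside `N(P)`
  have hidx : (Subgroup.normalizer ((P : Subgroup G) : Set G)).index = 27 := by
    have := Sylow.card_eq_index_normalizer P
    rw [hdS] at this
    exact this.symm
  have hNi : ¬ 2 ∣ (Subgroup.normalizer ((P : Subgroup G) : Set G)).index := by
    rw [hidx]; norm_num
  obtain ⟨T, hTN⟩ := Cfsg.Agent.Helper4.CaminaLemma.exists_sylow_le_of_not_dvd_index 2
    (Subgroup.normalizer ((P : Subgroup G) : Set G)) hNi
  have hTC : (T : Subgroup G) ⊓ Subgroup.centralizer ((P : Subgroup G) : Set G) = ⊥ := by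
    apply Subgroup.inf_eq_bot_of_coprime
    obtain ⟨k, hk⟩ := IsPGroup.iff_card.1 T.isPGroup'
    rw [hk, hcent, hP]
    apply Nat.Coprime.pow_left
    norm_num
  have hcyc : IsCyclic (P : Subgroup G) := by
    haveI : Fact (Nat.card (P : Subgroup G)).Prime := ⟨by rw [hP]; norm_num⟩
    exact isCyclic_of_prime_card rfl
  have hTcyc : IsCyclic (T : Subgroup G) := by
    haveI : Fact (Nat.card (P : Subgroup G)).Prime := ⟨by rw [hP]; norm_num⟩
    haveI : IsCyclic (P : Subgroup G) := hcyc
    haveI : IsCyclic (MulAut (P : Subgroup G)) :=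
      isCyclic_of_injective (IsCyclic.mulAutMulEquiv (P : Subgroup G)).toMonoidHom
        (IsCyclic.mulAutMulEquiv (P : Subgroup G)).injective
    apply isCyclic_of_injective
      (((P : Subgroup G).normalizerMonoidHom).comp (Subgroup.inclusion hTN))
    rw [injective_iff_map_eq_one]
    intro x hx
    rw [MonoidHom.comp_apply] at hx
    have hker : Subgroup.inclusion hTN x ∈ ((P : Subgroup G).normalizerMonoidHom).ker := hx
    rw [Subgroup.normalizerMonoidHom_ker, Subgroup.mem_subgroupOf] at hker
    have : (x : G) ∈ (T : Subgroup G) ⊓ Subgroup.centralizer ((P : Subgroup G) : Set G) :=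
      ⟨x.2, hker⟩
    rw [hTC, Subgroup.mem_bot] at this
    exact Subtype.ext this
  obtain ⟨H, hH⟩ := Cfsg.Agent.Helper2.exists_index_two_of_cyclic_sylow_two
    (by rw [h]; decide) T hTcyc
  haveI : H.Normal := Subgroup.normal_of_index_eq_two hH
  rcases o83_normal H inferInstance with hb | ht
  · rw [hb, Subgroup.index_bot, h] at hH
    omega
  · rw [ht, Subgroup.index_top] at hH
    omega
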