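import Mathlib
import Cfsg.Agent.O83.Basic
import Cfsg.Agent.O83.Cent

/-!
# S0983, order 4224 = 2^7 * 3 * 11 (helper3)

Sylow `11`: `n_11 ∣ 384`, `n_11 ≡ 1 (mod 11)`, `n_11 ≠ 1` forces `n_11 = 12 = 1 + 1 * 11`, so `|N(P)| = 352 = 11 * 32`.
`e = |N : C|` divides `10` and `32` and is not `1`, so `e = 2` and `|C(P)| = 11 * 16`.  The centralizer bound
(`o83_cent_factorial`, `k = 1`) says `16 ∣ 1!`.
-/

set_option autoImplicit false

namespace Cfsg.Agent.O83

open Cfsg

theorem o83_n4224 {G : Type*} [Group G] [Finite G] [IsSimpleGroup G] : Nat.card G ≠ 4224 := by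
  intro hG
  have hna : ¬ IsMulCommutative G := o83_noncomm hG (by norm_num)
  have : Fact (Nat.Prime 11) := ⟨by norm_num⟩
  let P : Sylow 11 G := default
  obtain ⟨hP, d, hd, hd1, hd2, hd3, hd4, hN⟩ :=
    o83_syl hna 11 1 384 (by rw [hG]; norm_num) (by norm_num) (by norm_num) (by norm_num) P
  rw [pow_one] at hP
  have hd384 : d ≤ 384 := Nat.le_of_dvd (by norm_num) hd1
  have hd12 : d = 12 := by
    interval_cases d <;> omega
  subst hd12
  have hNc : Nat.card (Subgroup.normalizer ((P : Subgroup G) : Set G)) = 352 := by omega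
  obtain ⟨c, e, hC, hNce, -, he1, he2, -⟩ := o83_nc 11 P hP (by rw [hG]; norm_num)
  rw [hNc] at hNce
  have hce : c * e = 32 := by
    have : 11 * (c * e) = 11 * 32 := by rw [← mul_assoc]; omega
    exact Nat.eq_of_mul_eq_mul_left (by norm_num) this
  have he : e = 2 := by
    have he10 : e ≤ 10 := Nat.le_of_dvd (by norm_num) he1
    have he32 : e ∣ 32 := Dvd.intro_left c hce
    interval_cases e <;> omega
  subst he
  have hc : c = 16 := by omega
  subst hc
  have h := o83_cent_factorial hna 11 P hP 1 16 (by rw [hd]) hC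
  revert h; decide

end Cfsg.Agent.O83
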