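import Mathlib
import Cfsg.Agent.S0985
import Cfsg.Agent.Helper2.SmallOrder

/-!
# S0983, order 4312 = 2^3 * 7^2 * 11 (helper3)

`n_7 ∈ {8, 22}`.  `n_7 = 8`: `4312` does not divide `8!`.  `n_7 = 22 ≢ 1 (mod 49)`: landed `S0985`
gives Sylow `7`-subgroups `P ≠ R` with `|P : P ∩ R| ≤ 7`, so `D = P ∩ R` has order `7`; `P`, `R` are
abelian, so both normalise `D`, `|N(D)| ≥ |R| · |P : P ∩ R| = 343`, the index of `N(D)` is at most
`12`, and `4312` does not divide `12!`.
-/

set_option autoImplicit false

namespace Cfsg.Agent.O83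

open Cfsg.Agent.Helper2.SmallOrder

/-- the Sylow `7`-subgroups of a group of order `4312` have order `49` -/
theorem o83_n4312_cardP {G : Type*} [Group G] [Finite G] (hG : Nat.card G = 4312)
    (P : Sylow 7 G) : Nat.card (P : Subgroup G) = 49 := by
  haveI : Fact (Nat.Prime 7) := ⟨by norm_num⟩
  rw [Sylow.card_eq_multiplicity, hG]
  have h : (4312 : ℕ).factorization 7 = 2 := by
    have h1 : (4312 : ℕ) = 7 ^ 2 * 88 := by norm_num
    have h2 : (88 : ℕ).factorization 7 = 0 :=
      Nat.factorization_eq_zero_of_not_dvd (by norm_num)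
    rw [h1, Nat.factorization_mul (by norm_num) (by norm_num), Finsupp.add_apply,
      Nat.Prime.factorization_pow (by norm_num), Finsupp.single_eq_same, h2]
  rw [h]
  norm_num

/-- a subgroup of a commutative subgroup is normalised by it -/
theorem o83_n4312_le_normalizer {G : Type*} [Group G] (P D : Subgroup G) (hDP : D ≤ P)
    (hcomm : ∀ a b : P, a * b = b * a) : P ≤ Subgroup.normalizer (D : Set G) := by
  intro x hx
  rw [Subgroup.mem_normalizer_iff]
  intro d
  constructor
  · intro hd
    have h1 := hcomm ⟨x, hx⟩ ⟨d, hDP hd⟩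
    have h2 : x * d = d * x := congrArg Subtype.val h1
    have h3 : x * d * x⁻¹ = d := by rw [h2, mul_inv_cancel_right]
    rw [h3]
    exact hd
  · intro hd
    have hdP : x * d * x⁻¹ ∈ P := hDP hd
    have hdP' : d ∈ P := by
      have := P.mul_mem (P.mul_mem (P.inv_mem hx) hdP) hx
      simpa [mul_assoc] using this
    have h1 := hcomm ⟨x, hx⟩ ⟨d, hdP'⟩
    have h2 : x * d = d * x := congrArg Subtype.val h1
    have h3 : x * d * x⁻¹ = d := by rw [h2, mul_inv_cancel_right]
    rw [h3] at hd
    exact hd

/-- **no simple group has order 4312** -/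
theorem o83_n4312 {G : Type*} [Group G] [Finite G] [IsSimpleGroup G] : Nat.card G ≠ 4312 := by
  intro hG
  haveI : Fact (Nat.Prime 7) := ⟨by norm_num⟩
  obtain ⟨P0⟩ : Nonempty (Sylow 7 G) := inferInstance
  have hP0 := o83_n4312_cardP hG P0
  -- the number of Sylow 7-subgroups
  have hidx : (P0 : Subgroup G).index = 88 := by
    have := Subgroup.card_mul_index (P0 : Subgroup G)
    rw [hP0, hG] at this
    omega
  have hdvd : Nat.card (Sylow 7 G) ∣ 88 := by
    have := Sylow.card_dvd_index P0
    rwa [hidx] at this
  have hmod : Nat.card (Sylow 7 G) % 7 = 1 := card_sylow_modEq_one 7 G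
  have hne1 : Nat.card (Sylow 7 G) ≠ 1 :=
    card_sylow_ne_one P0 (by rw [hP0]; norm_num) (by rw [hP0, hG]; norm_num)
  have hcases : Nat.card (Sylow 7 G) = 8 ∨ Nat.card (Sylow 7 G) = 22 := by
    have hle : Nat.card (Sylow 7 G) ≤ 88 := Nat.le_of_dvd (by norm_num) hdvd
    generalize Nat.card (Sylow 7 G) = n at hdvd hmod hne1 hle
    interval_cases n <;> omega
  rcases hcases with h8 | h22
  · -- index 8
    have hNidx : (Subgroup.normalizer ((P0 : Subgroup G) : Set G)).index =
        Nat.card (Sylow 7 G) := (Sylow.card_eq_index_normalizer P0).symm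
    have hNtop : Subgroup.normalizer ((P0 : Subgroup G) : Set G) ≠ ⊤ := by
      intro h
      rw [h, Subgroup.index_top] at hNidx
      exact hne1 hNidx.symm
    have h1 := card_dvd_factorial_index _ hNtop
    rw [hNidx, h8, hG] at h1
    revert h1
    decide
  · -- n_7 = 22 is not 1 mod 49
    have hnot : ¬ Nat.card (Sylow 7 G) ≡ 1 [MOD 7 ^ 2] := by
      rw [h22]
      decide
    obtain ⟨P, R, hPR, hle⟩ := Cfsg.Agent.S0985.result 7 2 hnot
    have hP := o83_n4312_cardP hG P
    have hR := o83_n4312_cardP hG R
    have hrel : (R : Subgroup G).relIndex (P : Subgroup G) = 7 := by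
      have h1 : (R : Subgroup G).relIndex (P : Subgroup G) ≤ 7 := by
        have : (R : Subgroup G).relIndex (P : Subgroup G) ≤ 7 ^ (2 - 1) := hle
        simpa using this
      have h2 : (R : Subgroup G).relIndex (P : Subgroup G) ∣ 49 := by
        have := Subgroup.relIndex_dvd_card (R : Subgroup G) (P : Subgroup G)
        rwa [hP] at this
      have h3 : (R : Subgroup G).relIndex (P : Subgroup G) ≠ 1 := by
        intro h
        rw [Subgroup.relIndex_eq_one] at h
        apply hPR
        apply Sylow.ext
        exact Subgroup.eq_of_le_of_card_ge h (by rw [hP, hR])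
      generalize (R : Subgroup G).relIndex (P : Subgroup G) = r at h1 h2 h3
      interval_cases r <;> omega
    -- D = P ∩ R
    set D : Subgroup G := (P : Subgroup G) ⊓ (R : Subgroup G) with hD
    have hDrel : D.relIndex (P : Subgroup G) = 7 := by
      rw [hD, Subgroup.inf_relIndex_left, hrel]
    have hDcard : Nat.card D = 7 := by
      have h2 := Subgroup.relIndex_mul_relIndex ⊥ D (P : Subgroup G) bot_le inf_le_left
      rw [Subgroup.relIndex_bot_left, Subgroup.relIndex_bot_left, hDrel, hP] at h2
      omega
    have hcommP : ∀ a b : (P : Subgroup G), a * b = b * a :=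
      IsPGroup.commutative_of_card_eq_prime_sq (p := 7) (by rw [hP]; norm_num)
    have hcommR : ∀ a b : (R : Subgroup G), a * b = b * a :=
      IsPGroup.commutative_of_card_eq_prime_sq (p := 7) (by rw [hR]; norm_num)
    have hPN : (P : Subgroup G) ≤ Subgroup.normalizer (D : Set G) :=
      o83_n4312_le_normalizer _ D inf_le_left hcommP
    have hRN : (R : Subgroup G) ≤ Subgroup.normalizer (D : Set G) :=
      o83_n4312_le_normalizer _ D inf_le_right hcommR
    -- |N(D)| ≥ 343
    have hNpos : (R : Subgroup G).relIndex (Subgroup.normalizer (D : Set G)) ≠ 0 :=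
      Subgroup.index_ne_zero_of_finite
    have h7 : 7 ≤ (R : Subgroup G).relIndex (Subgroup.normalizer (D : Set G)) := by
      have := Subgroup.relIndex_le_of_le_right (H := (R : Subgroup G)) hPN hNpos
      rwa [hrel] at this
    have hNcard : 343 ≤ Nat.card (Subgroup.normalizer (D : Set G)) := by
      have h2 := Subgroup.relIndex_mul_relIndex ⊥ (R : Subgroup G)
        (Subgroup.normalizer (D : Set G)) bot_le hRN
      rw [Subgroup.relIndex_bot_left, Subgroup.relIndex_bot_left, hR] at h2
      nlinarith
    -- N(D) is proper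
    have hNtop : Subgroup.normalizer (D : Set G) ≠ ⊤ := by
      intro h
      rw [Subgroup.normalizer_eq_top_iff] at h
      rcases h.eq_bot_or_eq_top with h' | h'
      · rw [h', Subgroup.card_bot] at hDcard
        omega
      · rw [h', Subgroup.card_top, hG] at hDcard
        omega
    have hm := Subgroup.card_mul_index (Subgroup.normalizer (D : Set G))
    rw [hG] at hm
    have hm12 : (Subgroup.normalizer (D : Set G)).index ≤ 12 := by
      by_contra hlt
      push Not at hlt
      nlinarith
    have h1 := card_dvd_factorial_index _ hNtop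
    rw [hG] at h1
    have h2 : (Subgroup.normalizer (D : Set G)).index.factorial ∣ (12 : ℕ).factorial :=
      Nat.factorial_dvd_factorial hm12
    have h3 := dvd_trans h1 h2
    revert h3
    decide

end Cfsg.Agent.O83
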