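import Mathlib
import Cfsg.Agent.O83.Basic
import Cfsg.Agent.O83.Block

/-!
# S0983, order 4368 = 2^4 * 3 * 7 * 13 (helper4)

Sylow `7`: `n_7 ∈ {8, 78, 624}`.  `8` fails the index test, `624` gives `|N(P)| = 7` (Burnside transfer).  For `n_7 = 78`:
`|N(P)| = 56`, `e = 2`, `|C(P)| = 28`.  The principal `7`-block (`o83_b0_e2`): `f ∣ 156`, `f ≡ ±1 (mod 7)` gives
`f ∈ {6, 13, 78}`; `θ = |1 ± f| ∈ {5, 12, 79}` divides `156` only for `f = 13`, `sg = -1`, `θ = 12`.  An involution `u` of
`C(P)` then has `χ(u) ≡ -1 (mod 7)`, `≡ 13 (mod 4)`, `|χ(u)| ≤ 13`, `χ(u) ≠ 13`: impossible.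
-/

set_option autoImplicit false

namespace Cfsg.Agent.O83

open Cfsg

theorem o83_n4368 {G : Type*} [Group G] [Finite G] [IsSimpleGroup G] : Nat.card G ≠ 4368 := by
  intro hG
  have hna : ¬ IsMulCommutative G := o83_noncomm hG (by norm_num)
  have : Fact (Nat.Prime 7) := ⟨by norm_num⟩
  have : Fact (Nat.Prime 2) := ⟨by norm_num⟩
  let P : Sylow 7 G := default
  obtain ⟨hP, d, hd, hd1, hd2, hd3, hd4, hN⟩ :=
    o83_syl hna 7 1 624 (by rw [hG]; norm_num) (by norm_num) (by norm_num) (by norm_num) P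
  rw [pow_one] at hP
  obtain ⟨c, e, hCc, hNce, hrel, he1, he2, -⟩ := o83_nc 7 P hP (by rw [hG]; norm_num)
  have he6 : e ≤ 6 := Nat.le_of_dvd (by norm_num) he1
  have hd624 : d ≤ 624 := Nat.le_of_dvd (by norm_num) hd1
  have hdc : d = 8 ∨ d = 78 ∨ d = 624 := by
    interval_cases d <;> omega
  rcases hdc with rfl | rfl | rfl
  · -- index test
    have h8 : (8 : ℕ).factorial = 40320 := by decide
    rw [h8] at hd4; omega
  · -- `n_7 = 78`
    have hNc : Nat.card (Subgroup.normalizer ((P : Subgroup G) : Set G)) = 56 := by omega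
    rw [hNc] at hNce
    have hce : c * e = 8 := by
      have : 7 * (c * e) = 7 * 8 := by rw [← mul_assoc]; omega
      exact Nat.eq_of_mul_eq_mul_left (by norm_num) this
    have he : e = 2 := by
      have he8 : e ∣ 8 := Dvd.intro_left c hce
      interval_cases e <;> omega
    subst he
    have hc4 : c = 4 := by omega
    subst hc4
    -- an involution of `C(P)`
    obtain ⟨u, huC, hu1, hu2⟩ : ∃ u : G, u ∈ Subgroup.centralizer ((P : Subgroup G) : Set G) ∧ u ≠ 1 ∧
        u * u = 1 := by
      obtain ⟨y, hy⟩ := exists_prime_orderOf_dvd_card'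
        (G := Subgroup.centralizer ((P : Subgroup G) : Set G)) 2 (by rw [hCc]; norm_num)
      refine ⟨(y : G), y.2, ?_, ?_⟩
      · intro h1
        have : y = 1 := Subtype.ext h1
        rw [this, orderOf_one] at hy
        omega
      · have h2 : y ^ 2 = 1 := by rw [← hy]; exact pow_orderOf_eq_one y
        have h3 : ((y ^ 2 : Subgroup.centralizer ((P : Subgroup G) : Set G)) : G) = 1 := by rw [h2]; rfl
        rw [pow_two] at h3
        exact h3
    -- the principal block
    obtain ⟨f, sg, th, s, hf2, hfd, hsg, hfm, hth2, hthd, hs, -, hrel1, -, hu⟩ :=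
      o83_b0_e2 hna 7 (by norm_num) P hP 78 hrel hd
    obtain ⟨m, mt, hm7, hm4, hmabs, hmne, -, -, -, -⟩ := hu u huC hu1 hu2
    have hf156 : f ≤ 156 := Nat.le_of_dvd (by norm_num) hfd
    unfold Int.ModEq at hfm hm7 hm4
    have hfm' : f % 7 = 1 ∨ f % 7 = 6 := by
      rcases hsg with rfl | rfl <;> omega
    have hfc : f = 6 ∨ f = 13 ∨ f = 78 := by
      interval_cases f <;> omega
    rcases hfc with rfl | rfl | rfl
    · have hth : th = 5 := by
        rcases hsg with rfl | rfl <;> rcases hs with rfl | rfl <;> omega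
      subst hth
      omega
    · -- `f = 13`, `sg = -1`: the involution value
      have hsg1 : sg = -1 := by rcases hsg with rfl | rfl <;> omega
      subst hsg1
      have h1 := abs_le.mp hmabs
      push_cast at hm4 h1 hmne
      omega
    · have hth : th = 79 := by
        rcases hsg with rfl | rfl <;> rcases hs with rfl | rfl <;> omega
      subst hth
      omega
  · -- `|N(P)| = 7`: `e = 1`
    have hNc : Nat.card (Subgroup.normalizer ((P : Subgroup G) : Set G)) = 7 := by omega
    rw [hNc] at hNce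
    have hce : c * e = 1 := by
      have : 7 * (c * e) = 7 * 1 := by rw [← mul_assoc]; omega
      exact Nat.eq_of_mul_eq_mul_left (by norm_num) this
    have := Nat.eq_one_of_mul_eq_one_left hce
    exact he2 this

end Cfsg.Agent.O83
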