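import Mathlib
import Cfsg.Agent.O83.Basic
import Cfsg.Agent.O83.Block

/-!
# S0983, order 4400 = 2^4 * 5^2 * 11 (helper4)

Sylow `11`: `n_11 = 100`, `|N(P)| = 44`, so `e = |N : C| = 2` (`e ∣ 10`, `e ≠ 1`, `e ∣ 4`).  The principal `11`-block
(`o83_b0_e2`): `f ∣ 200`, `f ≡ ±1 (mod 11)` gives `f ∈ {10, 100}`, and `θ = |1 ± f| ∈ {9, 101}` does not divide `200`.
-/

set_option autoImplicit false

namespace Cfsg.Agent.O83

open Cfsg

theorem o83_n4400 {G : Type*} [Group G] [Finite G] [IsSimpleGroup G] : Nat.card G ≠ 4400 := by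
  intro hG
  have hna : ¬ IsMulCommutative G := o83_noncomm hG (by norm_num)
  have : Fact (Nat.Prime 11) := ⟨by norm_num⟩
  let P : Sylow 11 G := default
  obtain ⟨hP, d, hd, hd1, hd2, hd3, hd4, hN⟩ :=
    o83_syl hna 11 1 400 (by rw [hG]; norm_num) (by norm_num) (by norm_num) (by norm_num) P
  rw [pow_one] at hP
  -- `n_11 = 100`
  have hd400 : d ≤ 400 := Nat.le_of_dvd (by norm_num) hd1
  have hd100 : d = 100 := by
    interval_cases d <;> omega
  subst hd100
  have hNc : Nat.card (Subgroup.normalizer ((P : Subgroup G) : Set G)) = 44 := by omega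
  -- `e = 2`
  obtain ⟨c, e, -, hNce, hrel, he1, he2, -⟩ := o83_nc 11 P hP (by rw [hG]; norm_num)
  rw [hNc] at hNce
  have he : e = 2 := by
    have he10 : e ≤ 10 := Nat.le_of_dvd (by norm_num) he1
    have hce : c * e = 4 := by
      have : 11 * (c * e) = 11 * 4 := by rw [← mul_assoc]; omega
      exact Nat.eq_of_mul_eq_mul_left (by norm_num) this
    have he4 : e ∣ 4 := Dvd.intro_left c hce
    interval_cases e <;> omega
  subst he
  -- the principal block
  obtain ⟨f, sg, th, s, hf2, hfd, hsg, hfm, hth2, hthd, hs, -, hrel1, -, -⟩ :=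
    o83_b0_e2 hna 11 (by norm_num) P hP 100 hrel hd
  have hf200 : f ≤ 200 := Nat.le_of_dvd (by norm_num) hfd
  have hfm' : f % 11 = 1 ∨ f % 11 = 10 := by
    unfold Int.ModEq at hfm
    rcases hsg with rfl | rfl <;> omega
  have hfc : f = 10 ∨ f = 100 := by
    interval_cases f <;> omega
  unfold Int.ModEq at hfm
  rcases hfc with rfl | rfl
  · have hth : th = 9 := by
      rcases hsg with rfl | rfl <;> rcases hs with rfl | rfl <;> omega
    subst hth
    omega
  · have hth : th = 101 := by
      rcases hsg with rfl | rfl <;> rcases hs with rfl | rfl <;> omega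
    subst hth
    omega

end Cfsg.Agent.O83
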