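import Mathlib
import Cfsg.Agent.Helper2.SimpleSmall2

/-!
# S0983, order 4455 = 3^4 * 5 * 11 (helper4)

`|G|` is odd, so for a Sylow `5`-subgroup `P` (of order 5) the index `|N(P) : C(P)|` divides `gcd(4, |N(P)|) = 1`:
Burnside's transfer theorem (packaged in `Helper2.SimpleSmall2.sylow_count2`).
-/

set_option autoImplicit false

namespace Cfsg.Agent.O83

open Cfsg Cfsg.Agent.Helper2

theorem o83_n4455 {G : Type*} [Group G] [Finite G] [IsSimpleGroup G] : Nat.card G ≠ 4455 := by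
  intro hG
  have : Fact (Nat.Prime 5) := ⟨by norm_num⟩
  obtain ⟨d, -, hd1, -, -, -, hd5⟩ :=
    SimpleSmall2.sylow_count2 (G := G) 5 1 891 (by rw [hG]; norm_num) (by norm_num) (by norm_num) (by norm_num)
  apply hd5 rfl
  -- `5 ^ 1 * 891 / d` divides `4455`, an odd number
  have h1 : (5 ^ 1 * 891 / d) ∣ 4455 := by
    have hd : d ∣ 5 ^ 1 * 891 := Dvd.dvd.mul_left hd1 _
    exact Nat.div_dvd_of_dvd hd
  have hodd : Nat.Coprime 4455 4 := by norm_num
  exact Nat.Coprime.coprime_dvd_left h1 hodd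

end Cfsg.Agent.O83
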