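import Mathlib
import Cfsg.Agent.Helper2.SimpleSmall2

/-!
# S0983, order 4480 = 2^7 * 5 * 7 (helper4)

Sylow `2`: `n_2 ∈ {5, 7, 35}`; `5, 7` fail the index test (`4480 ∤ 7!`), `35 ≢ 1 (mod 4)` gives (S0985) two Sylow
`2`-subgroups meeting in a subgroup `D` of index 2, and `N(D)` has index `1, 5` or `7`
(`Helper2.SimpleSmall2.sylow_count3`).
-/

set_option autoImplicit false

namespace Cfsg.Agent.O83

open Cfsg Cfsg.Agent.Helper2

theorem o83_n4480 {G : Type*} [Group G] [Finite G] [IsSimpleGroup G] : Nat.card G ≠ 4480 := by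
  intro hG
  have hna : ¬ IsMulCommutative G := by
    intro hc
    let _ : CommGroup G := { (inferInstance : Group G) with mul_comm := hc.is_comm.comm }
    have hp : (Nat.card G).Prime := IsSimpleGroup.prime_card
    rw [hG] at hp
    norm_num at hp
  have : Fact (Nat.Prime 2) := ⟨by norm_num⟩
  obtain ⟨d, -, hd1, hd2, hd3, hd4, -, -, hd7, -, -⟩ :=
    SimpleSmall2.sylow_count3 (G := G) hna 2 7 35 (by rw [hG]; norm_num) (by norm_num) (by norm_num)
      (by norm_num)
  have hd35 : d ≤ 35 := Nat.le_of_dvd (by norm_num) hd1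
  have h5 : (5 : ℕ).factorial = 120 := by decide
  have h7 : (7 : ℕ).factorial = 5040 := by decide
  have hcases : d = 5 ∨ d = 7 ∨ d = 35 := by
    interval_cases d <;> omega
  rcases hcases with rfl | rfl | rfl
  · rw [h5] at hd4; omega
  · rw [h7] at hd4; omega
  · obtain ⟨j, -, k, -, hjk, hj1, hfac, e, -, hek, he2, he1⟩ := hd7 (by norm_num) (by norm_num)
    have hj35 : j ∣ 35 := Dvd.intro _ hjk
    have hjle : j ≤ 35 := Nat.le_of_dvd (by norm_num) hj35
    have hjc : j = 5 ∨ j = 7 ∨ j = 35 := by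
      interval_cases j <;> omega
    rcases hjc with rfl | rfl | rfl
    · rw [h5] at hfac; omega
    · rw [h7] at hfac; omega
    · have hk1 : k = 1 := by omega
      subst hk1
      have := Nat.le_of_dvd (by norm_num) hek
      omega

end Cfsg.Agent.O83
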