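import Mathlib
import Cfsg.Agent.Helper2.SimpleSmall2

/-!
# S0983, order 4500 = 2^2 * 3^2 * 5^3 (helper4)

Sylow `5`: `n_5 ∈ {6, 36}`; `6` fails the index test, `36 ≢ 1 (mod 25)` gives (S0985) two Sylow `5`-subgroups meeting in a
subgroup `D` of index 5, `N(D)` has order `125 k` with more than one Sylow `5`-subgroup, so `k ∈ {6, 12, 18, 36}` and the
index `36 / k ≤ 6` is too small (`Helper2.SimpleSmall2.sylow_count3`).
-/

set_option autoImplicit false

namespace Cfsg.Agent.O83

open Cfsg Cfsg.Agent.Helper2

theorem o83_n4500 {G : Type*} [Group G] [Finite G] [IsSimpleGroup G] : Nat.card G ≠ 4500 := by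
  intro hG
  have hna : ¬ IsMulCommutative G := by
    intro hc
    let _ : CommGroup G := { (inferInstance : Group G) with mul_comm := hc.is_comm.comm }
    have hp : (Nat.card G).Prime := IsSimpleGroup.prime_card
    rw [hG] at hp
    norm_num at hp
  have : Fact (Nat.Prime 5) := ⟨by norm_num⟩
  obtain ⟨d, -, hd1, hd2, hd3, hd4, -, -, hd7, -, -⟩ :=
    SimpleSmall2.sylow_count3 (G := G) hna 5 3 36 (by rw [hG]; norm_num) (by norm_num) (by norm_num)
      (by norm_num)
  have hd36 : d ≤ 36 := Nat.le_of_dvd (by norm_num) hd1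
  have hcases : d = 6 ∨ d = 36 := by
    interval_cases d <;> omega
  rcases hcases with rfl | rfl
  · have h6 : (6 : ℕ).factorial = 720 := by decide
    rw [h6] at hd4; omega
  · obtain ⟨j, -, k, -, hjk, hj1, hfac, e, -, hek, he2, he1⟩ := hd7 (by norm_num) (by norm_num)
    have hj36 : j ∣ 36 := Dvd.intro _ hjk
    have hjle : j ≤ 36 := Nat.le_of_dvd (by norm_num) hj36
    -- `125 ∣ j!` forces `15 ≤ j`
    have hj15 : 15 ≤ j := by
      by_contra hcon
      have hj14 : j ≤ 14 := by omega
      have h1 : j.factorial ∣ (14 : ℕ).factorial := Nat.factorial_dvd_factorial hj14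
      have h2 : 5 ^ 3 ∣ (14 : ℕ).factorial := Dvd.dvd.trans (Dvd.intro _ rfl) (hfac.trans h1)
      have h14 : (14 : ℕ).factorial = 87178291200 := by decide
      rw [h14] at h2
      omega
    have hjc : j = 18 ∨ j = 36 := by
      interval_cases j <;> omega
    rcases hjc with rfl | rfl
    · have hk2 : k = 2 := by omega
      subst hk2
      have := Nat.le_of_dvd (by norm_num) hek
      omega
    · have hk1 : k = 1 := by omega
      subst hk1
      have := Nat.le_of_dvd (by norm_num) hek
      omega

end Cfsg.Agent.O83
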