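import Mathlib
import Cfsg.Agent.O83.Basic
import Cfsg.Agent.S0904

/-!
# S0983: no simple group of order 4536 = 2^3 * 3^4 * 7 (helper8)

`S0904` gives `C(P) = P` for a Sylow 7-subgroup, so `|N(P)| = 7 e` with `e ∣ 6`, `e ≠ 1`, and the
number of Sylow 7-subgroups `648 / e` is never `1` modulo `7`.
-/

set_option autoImplicit false

namespace Cfsg.Agent.O83

theorem o83_n4536 {G : Type*} [Group G] [Finite G] [IsSimpleGroup G] : Nat.card G ≠ 4536 := by
  intro h
  have hna : ¬ IsMulCommutative G := o83_noncomm h (by norm_num)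
  haveI : Fact (Nat.Prime 7) := ⟨by norm_num⟩
  let P : Sylow 7 G := default
  have hcent : Subgroup.centralizer ((P : Subgroup G) : Set G) = (P : Subgroup G) :=
    Cfsg.Agent.S0904.result 2 3 7 3 4 (by norm_num) (by norm_num) (by norm_num) (by norm_num)
      (by norm_num) (by rw [h]; norm_num) P
  obtain ⟨hP, d, -, -, hd7, -, -, hNd⟩ :=
    o83_syl hna 7 1 648 (by rw [h]; norm_num) (by norm_num) (by norm_num) (by norm_num) P
  rw [pow_one] at hP hNd
  obtain ⟨c, e, hC, hN, -, he, he1, -⟩ := o83_nc 7 P hP (by rw [h]; norm_num)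
  rw [hcent, hP] at hC
  have hc : c = 1 := by omega
  subst hc
  rw [hN] at hNd
  have he6 : e ∣ 6 := he
  have hele : e ≤ 6 := Nat.le_of_dvd (by norm_num) he6
  interval_cases e <;> omega
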