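import Mathlib
import Cfsg.Agent.O83.ToolsH1
import Cfsg.Agent.O83.N3696
import Cfsg.Agent.O83.N3780

/-!
# S0983: no simple group of order 4620 = 2^2 · 3 · 5 · 7 · 11 (helper1)

* `n_11 ∈ {12, 210}`; `12` dies by S4700, so `|N(P_11)| = 22` and `C(P_11) = P_11`;
* `n_7 ∈ {15, 22, 330}`; `15`, `22` die by S4700, so `|N(P_7)| = 14` and `C(P_7) = P_7`;
* `n_5 ∈ {6, 11, 21, 66, 231}`; in the first four cases `7` or `11` divides `|C(P_5)|`, so an element
  of order `7` or `11` commutes with `P_5`, against `C(P_7) = P_7`, `C(P_11) = P_11`;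
* `n_5 = 231`: there are at least `2100 + 1980 + 924 > 4620` elements of order `11`, `7`, `5`.
-/

set_option autoImplicit false
set_option linter.style.haveILetI false

namespace Cfsg.Agent.O83

open Cfsg Cfsg.Agent.Helper2

universe u

theorem o83_n4620_cands11 (d : ℕ) (hd : d ∣ 420) (h1 : d % 11 = 1) :
    d = 1 ∨ d = 12 ∨ d = 210 := by
  have hle : d ≤ 420 := Nat.le_of_dvd (by norm_num) hd
  interval_cases d <;> omega

theorem o83_n4620_cands7 (d : ℕ) (hd : d ∣ 660) (h1 : d % 7 = 1) :
    d = 1 ∨ d = 15 ∨ d = 22 ∨ d = 330 := by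
  have hle : d ≤ 660 := Nat.le_of_dvd (by norm_num) hd
  interval_cases d <;> omega

theorem o83_n4620_cands5 (d : ℕ) (hd : d ∣ 924) (h1 : d % 5 = 1) :
    d = 1 ∨ d = 6 ∨ d = 11 ∨ d = 21 ∨ d = 66 ∨ d = 231 := by
  have hle : d ≤ 924 := Nat.le_of_dvd (by norm_num) hd
  interval_cases d <;> omega

theorem o83_n4620_fform7 (k h u : ℕ) (hk : k ≤ 3) (hh : 0 < h) (hu : 0 < u) :
    k * (u + 1) ≠ h * u * 7 + u ^ 2 + u + h := by
  intro heq
  have h1 : u ≤ h * u := Nat.le_mul_of_pos_left u hh
  have h2 : u ≤ u ^ 2 := by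
    rw [pow_two]
    exact Nat.le_mul_of_pos_left u hu
  interval_cases k <;> omega

/-- if `q` divides `|C(P)| / p` then some Sylow `q`-subgroup of order `q` has a centralizer of
order divisible by `p` -/
theorem o83_n4620_cross {G : Type u} [Group G] [Finite G] {p q : ℕ} [Fact p.Prime]
    [Fact q.Prime] (hqG : ∀ Q : Sylow q G, Nat.card (Q : Subgroup G) = q)
    (hqC : ∀ Q : Sylow q G, Nat.card ↥(Subgroup.centralizer ((Q : Subgroup G) : Set G)) = q)
    (hpq : p ≠ q) (P : Sylow p G) (hP : Nat.card (P : Subgroup G) = p) (c : ℕ)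
    (hC : Nat.card ↥(Subgroup.centralizer ((P : Subgroup G) : Set G)) = p * c) (hqc : q ∣ c) :
    False := by
  have hp := (Fact.out : p.Prime)
  have hq := (Fact.out : q.Prime)
  obtain ⟨y', hy'⟩ := exists_prime_orderOf_dvd_card'
    (G := ↥(Subgroup.centralizer ((P : Subgroup G) : Set G))) q
    (by rw [hC]; exact Dvd.dvd.mul_left hqc p)
  obtain ⟨y, hydef⟩ : ∃ y : G, y = (y' : G) := ⟨_, rfl⟩
  have hyo : orderOf y = q := by rw [hydef, Subgroup.orderOf_coe]; exact hy'
  have hyC : y ∈ Subgroup.centralizer ((P : Subgroup G) : Set G) := by rw [hydef]; exact y'.2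
  have hpg : IsPGroup q ↥(Subgroup.zpowers y) := by
    apply IsPGroup.of_card (n := 1)
    rw [Nat.card_zpowers, hyo, pow_one]
  obtain ⟨Q, hQ⟩ := hpg.exists_le_sylow
  have hQeq : Subgroup.zpowers y = (Q : Subgroup G) := by
    apply Subgroup.eq_of_le_of_card_ge hQ
    rw [hqG Q, Nat.card_zpowers, hyo]
  have hPC : (P : Subgroup G) ≤ Subgroup.centralizer ((Q : Subgroup G) : Set G) := by
    intro x hx
    rw [Subgroup.mem_centralizer_iff]
    intro h hh
    rw [SetLike.mem_coe, ← hQeq, Subgroup.mem_zpowers_iff] at hh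
    obtain ⟨k, rfl⟩ := hh
    rw [Subgroup.mem_centralizer_iff] at hyC
    have h1 : Commute y x := (hyC x hx).symm
    exact (h1.zpow_left k).eq
  have h2 := Subgroup.card_dvd_of_le hPC
  rw [hP, hqC Q] at h2
  exact hpq ((Nat.prime_dvd_prime_iff_eq hp hq).mp h2)

/-- at least `n_p (p - 1)` elements of order `p` when the Sylow `p`-subgroups have order `p` -/
theorem o83_n4620_count {G : Type u} [Group G] [Fintype G] [DecidableEq G] {p : ℕ}
    [Fact p.Prime] (hpG : ∀ P : Sylow p G, Nat.card (P : Subgroup G) = p) :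
    Nat.card (Sylow p G) * (p - 1) ≤ (Finset.univ.filter (fun g : G => orderOf g = p)).card := by
  classical
  have hp := (Fact.out : p.Prime)
  -- a generator of each Sylow subgroup
  have hgen : ∀ P : Sylow p G, ∃ x : G, x ∈ (P : Subgroup G) ∧ orderOf x = p := by
    intro P
    obtain ⟨x', hx'⟩ := exists_prime_orderOf_dvd_card' (G := ↥(P : Subgroup G)) p
      (by rw [hpG P])
    exact ⟨(x' : G), x'.2, by rw [Subgroup.orderOf_coe]; exact hx'⟩
  choose x hxP hxo using hgen
  haveI : Fintype (Sylow p G) := Fintype.ofFinite _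
  rw [Nat.card_eq_fintype_card]
  have hcard : Fintype.card (Sylow p G) * (p - 1) =
      (Finset.univ ×ˢ Finset.range (p - 1) : Finset (Sylow p G × ℕ)).card := by
    rw [Finset.card_product, Finset.card_univ, Finset.card_range]
  rw [hcard]
  apply Finset.card_le_card_of_injOn (fun Pi : Sylow p G × ℕ => x Pi.1 ^ (Pi.2 + 1))
  · intro Pi hPi
    rw [Finset.mem_coe, Finset.mem_product, Finset.mem_range] at hPi
    rw [Finset.mem_coe, Finset.mem_filter]
    refine ⟨Finset.mem_univ _, ?_⟩
    have hcop : Nat.Coprime (orderOf (x Pi.1)) (Pi.2 + 1) := by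
      rw [hxo, Nat.Prime.coprime_iff_not_dvd hp]
      intro hdvd
      have := Nat.le_of_dvd (Nat.succ_pos _) hdvd
      omega
    rw [hcop.orderOf_pow, hxo]
  · intro Pi hPi Qj hQj heq
    rw [Finset.mem_coe, Finset.mem_product, Finset.mem_range] at hPi hQj
    have heq' : x Pi.1 ^ (Pi.2 + 1) = x Qj.1 ^ (Qj.2 + 1) := heq
    -- the common element generates both Sylow subgroups
    have hord : orderOf (x Pi.1 ^ (Pi.2 + 1)) = p := by
      have hcop : Nat.Coprime (orderOf (x Pi.1)) (Pi.2 + 1) := by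
        rw [hxo, Nat.Prime.coprime_iff_not_dvd hp]
        intro hdvd
        have := Nat.le_of_dvd (Nat.succ_pos _) hdvd
        omega
      rw [hcop.orderOf_pow, hxo]
    have hz1 : Subgroup.zpowers (x Pi.1 ^ (Pi.2 + 1)) = (Pi.1 : Subgroup G) := by
      apply Subgroup.eq_of_le_of_card_ge
      · rw [Subgroup.zpowers_le]
        exact Subgroup.pow_mem _ (hxP Pi.1) _
      · rw [hpG, Nat.card_zpowers, hord]
    have hz2 : Subgroup.zpowers (x Pi.1 ^ (Pi.2 + 1)) = (Qj.1 : Subgroup G) := by
      rw [heq']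
      apply Subgroup.eq_of_le_of_card_ge
      · rw [Subgroup.zpowers_le]
        exact Subgroup.pow_mem _ (hxP Qj.1) _
      · rw [hpG, Nat.card_zpowers, ← heq', hord]
    have hPQ : Pi.1 = Qj.1 := Sylow.ext (hz1.symm.trans hz2)
    have hij : Pi.2 + 1 = Qj.2 + 1 := by
      rw [← hPQ] at heq'
      have h1 : Pi.2 + 1 < orderOf (x Pi.1) := by rw [hxo]; omega
      have h2 : Qj.2 + 1 < orderOf (x Pi.1) := by rw [hxo]; omega
      exact pow_injOn_Iio_orderOf h1 h2 heq'
    exact Prod.ext hPQ (by omega)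

set_option maxHeartbeats 1600000 in
theorem o83_n4620 {G : Type*} [Group G] [Finite G] [IsSimpleGroup G] : Nat.card G ≠ 4620 := by
  classical
  intro hG
  haveI : Fact (Nat.Prime 11) := ⟨by norm_num⟩
  haveI : Fact (Nat.Prime 7) := ⟨by norm_num⟩
  haveI : Fact (Nat.Prime 5) := ⟨by norm_num⟩
  haveI : Fintype G := Fintype.ofFinite G
  have hperf : commutator G = ⊤ := BrTI.perfect_of_simple (by rw [hG]; norm_num)
  have hn11 : 4620 = 11 * 420 := by norm_num
  have hn7 : 4620 = 7 * 660 := by norm_num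
  have hn5 : 4620 = 5 * 924 := by norm_num
  -- the prime `11`
  have h11G : ∀ Q : Sylow 11 G, Nat.card (Q : Subgroup G) = 11 := fun Q =>
    o83_h1_cardP hG hn11 (by norm_num) Q
  have h11 : ∀ Q : Sylow 11 G, Nat.card (Sylow 11 G) = 210 ∧
      Nat.card ↥(Subgroup.centralizer ((Q : Subgroup G) : Set G)) = 11 := by
    intro Q
    obtain ⟨hdvd, hmod, hne1, hNn⟩ := o83_h1_nsyl hG hn11 (by norm_num) (by norm_num) Q
    rcases o83_n4620_cands11 _ hdvd hmod with h | h | h
    · exact absurd h hne1
    · exact absurd (o83_h1_s4700 hG (by norm_num) (by decide) Q (h11G Q) 1 (by rw [h])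
        (by norm_num) o83_n3696_eleven
        (fun h' u hh hu => o83_n3696_fform 1 h' u (by norm_num) hh hu)) id
    · refine ⟨h, ?_⟩
      rw [h] at hNn
      obtain ⟨e, c, hce, hep, he1, hc, -⟩ := o83_h1_e hperf Q (h11G Q) 2 (by omega)
      have hc1 : c = 1 := by
        rcases Nat.eq_zero_or_pos c with h0 | h0
        · rw [h0, zero_mul] at hce
          omega
        · have hc2 : c ≤ 2 := Nat.le_of_dvd (by norm_num) ⟨e, hce.symm⟩
          interval_cases c
          · rfl
          · omega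
      rw [hc, hc1]
  -- the prime `7`
  have h7G : ∀ Q : Sylow 7 G, Nat.card (Q : Subgroup G) = 7 := fun Q =>
    o83_h1_cardP hG hn7 (by norm_num) Q
  have h7 : ∀ Q : Sylow 7 G, Nat.card (Sylow 7 G) = 330 ∧
      Nat.card ↥(Subgroup.centralizer ((Q : Subgroup G) : Set G)) = 7 := by
    intro Q
    obtain ⟨hdvd, hmod, hne1, hNn⟩ := o83_h1_nsyl hG hn7 (by norm_num) (by norm_num) Q
    rcases o83_n4620_cands7 _ hdvd hmod with h | h | h | h
    · exact absurd h hne1
    · exact absurd (o83_h1_s4700 hG (by norm_num) (by decide) Q (h7G Q) 2 (by rw [h])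
        (by norm_num) o83_n3780_seven
        (fun h' u hh hu => o83_n4620_fform7 2 h' u (by norm_num) hh hu)) id
    · exact absurd (o83_h1_s4700 hG (by norm_num) (by decide) Q (h7G Q) 3 (by rw [h])
        (by norm_num) o83_n3780_seven
        (fun h' u hh hu => o83_n4620_fform7 3 h' u (by norm_num) hh hu)) id
    · refine ⟨h, ?_⟩
      rw [h] at hNn
      obtain ⟨e, c, hce, hep, he1, hc, -⟩ := o83_h1_e hperf Q (h7G Q) 2 (by omega)
      have hc1 : c = 1 := by
        rcases Nat.eq_zero_or_pos c with h0 | h0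
        · rw [h0, zero_mul] at hce
          omega
        · have hc2 : c ≤ 2 := Nat.le_of_dvd (by norm_num) ⟨e, hce.symm⟩
          interval_cases c
          · rfl
          · omega
      rw [hc, hc1]
  -- the prime `5`
  let P : Sylow 5 G := default
  have h5G : ∀ Q : Sylow 5 G, Nat.card (Q : Subgroup G) = 5 := fun Q =>
    o83_h1_cardP hG hn5 (by norm_num) Q
  obtain ⟨hdvd, hmod, hne1, hNn⟩ := o83_h1_nsyl hG hn5 (by norm_num) (by norm_num) P
  have hdvdN : 5 ∣ Nat.card ↥(Subgroup.normalizer ((P : Subgroup G) : Set G)) := by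
    have h := Subgroup.card_dvd_of_le (Subgroup.le_normalizer (H := (P : Subgroup G)))
    rwa [h5G P] at h
  obtain ⟨a, ha⟩ := hdvdN
  obtain ⟨e, c, hce, hep, he1, hc, -⟩ := o83_h1_e hperf P (h5G P) a ha
  have he4 : e ∣ 4 := hep
  have hcross7 : ¬ 7 ∣ c := fun h =>
    o83_n4620_cross h7G (fun Q => (h7 Q).2) (by norm_num) P (h5G P) c hc h
  have hcross11 : ¬ 11 ∣ c := fun h =>
    o83_n4620_cross h11G (fun Q => (h11 Q).2) (by norm_num) P (h5G P) c hc h
  have hcop7 : Nat.Coprime 7 e := Nat.Coprime.coprime_dvd_right he4 (by norm_num)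
  have hcop11 : Nat.Coprime 11 e := Nat.Coprime.coprime_dvd_right he4 (by norm_num)
  rw [ha] at hNn
  rcases o83_n4620_cands5 _ hdvd hmod with h | h | h | h | h | h
  · exact hne1 h
  · -- `n_5 = 6`, `a = 154`
    rw [h] at hNn
    have ha' : a = 154 := by omega
    apply hcross7
    apply hcop7.dvd_of_dvd_mul_right
    rw [hce, ha']
    norm_num
  · rw [h] at hNn
    have ha' : a = 84 := by omega
    apply hcross7
    apply hcop7.dvd_of_dvd_mul_right
    rw [hce, ha']
    norm_num
  · rw [h] at hNn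
    have ha' : a = 44 := by omega
    apply hcross11
    apply hcop11.dvd_of_dvd_mul_right
    rw [hce, ha']
    norm_num
  · rw [h] at hNn
    have ha' : a = 14 := by omega
    apply hcross7
    apply hcop7.dvd_of_dvd_mul_right
    rw [hce, ha']
    norm_num
  · -- `n_5 = 231`: counting
    have c11 := o83_n4620_count (G := G) h11G
    have c7 := o83_n4620_count (G := G) h7G
    have c5 := o83_n4620_count (G := G) h5G
    rw [(h11 default).1] at c11
    rw [(h7 default).1] at c7
    rw [h] at c5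
    have hd1 : Disjoint (Finset.univ.filter (fun g : G => orderOf g = 11))
        (Finset.univ.filter (fun g : G => orderOf g = 7)) := by
      rw [Finset.disjoint_filter]
      intro g _ h1 h2
      omega
    have hd2 : Disjoint (Finset.univ.filter (fun g : G => orderOf g = 11) ∪
        Finset.univ.filter (fun g : G => orderOf g = 7))
        (Finset.univ.filter (fun g : G => orderOf g = 5)) := by
      rw [Finset.disjoint_union_left, Finset.disjoint_filter, Finset.disjoint_filter]
      constructor <;> intro g _ h1 h2 <;> omega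
    have htot := Finset.card_le_card (Finset.subset_univ
      ((Finset.univ.filter (fun g : G => orderOf g = 11) ∪
        Finset.univ.filter (fun g : G => orderOf g = 7)) ∪
        Finset.univ.filter (fun g : G => orderOf g = 5)))
    rw [Finset.card_union_of_disjoint hd2, Finset.card_union_of_disjoint hd1, Finset.card_univ,
      ← Nat.card_eq_fintype_card, hG] at htot
    omega

end Cfsg.Agent.O83
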