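import Mathlib
import Cfsg.Agent.O83.Basic
import Cfsg.Agent.O83.Block

/-!
# S0983, order 4680 = 2^3 * 3^2 * 5 * 13 (helper4)

Sylow `13`: `n_13 = 40`, `|N(P)| = 117`, so `e = |N : C| = 3` (`e ∣ 12`, `e ≠ 1`, `e ∣ 9`).  The principal `13`-block
(`o83_b0`, `e = 3`): `f_i ∣ 120`, `f_i ≡ ±1 (mod 13)` gives `f_i ∈ {12, 40}`, and
`θ = |1 ± f_1 ± f_2| ∈ {23, 29, 81}` does not divide `120`.
-/

set_option autoImplicit false

namespace Cfsg.Agent.O83

open Cfsg

/-- the admissible non-exceptional degrees -/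
theorem o83_n4680_deg (f : ℕ) (sg : ℤ) (h2 : 2 ≤ f) (hd : f ∣ 3 * 40) (hsg : sg = 1 ∨ sg = -1)
    (hm : (f : ℤ) ≡ sg [ZMOD 13]) : (f = 12 ∧ sg = -1) ∨ (f = 40 ∧ sg = 1) := by
  have hf120 : f ≤ 120 := Nat.le_of_dvd (by norm_num) hd
  unfold Int.ModEq at hm
  have hfm' : f % 13 = 1 ∨ f % 13 = 12 := by
    rcases hsg with rfl | rfl <;> omega
  have hfc : f = 12 ∨ f = 40 := by
    interval_cases f <;> omega
  rcases hfc with rfl | rfl <;> rcases hsg with rfl | rfl <;> omega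

theorem o83_n4680 {G : Type*} [Group G] [Finite G] [IsSimpleGroup G] : Nat.card G ≠ 4680 := by
  intro hG
  have hna : ¬ IsMulCommutative G := o83_noncomm hG (by norm_num)
  have : Fact (Nat.Prime 13) := ⟨by norm_num⟩
  let P : Sylow 13 G := default
  obtain ⟨hP, d, hd, hd1, hd2, hd3, hd4, hN⟩ :=
    o83_syl hna 13 1 360 (by rw [hG]; norm_num) (by norm_num) (by norm_num) (by norm_num) P
  rw [pow_one] at hP
  -- `n_13 = 40`
  have hd360 : d ≤ 360 := Nat.le_of_dvd (by norm_num) hd1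
  have hd40 : d = 40 := by
    interval_cases d <;> omega
  subst hd40
  have hNc : Nat.card (Subgroup.normalizer ((P : Subgroup G) : Set G)) = 117 := by omega
  -- `e = 3`
  obtain ⟨c, e, -, hNce, hrel, he1, he2, -⟩ := o83_nc 13 P hP (by rw [hG]; norm_num)
  rw [hNc] at hNce
  have he : e = 3 := by
    have he12 : e ≤ 12 := Nat.le_of_dvd (by norm_num) he1
    have hce : c * e = 9 := by
      have : 13 * (c * e) = 13 * 9 := by rw [← mul_assoc]; omega
      exact Nat.eq_of_mul_eq_mul_left (by norm_num) this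
    have he9 : e ∣ 9 := Dvd.intro_left c hce
    interval_cases e <;> omega
  subst he
  -- the principal block
  obtain ⟨f, sg, th, s, hf, hth2, hthd, hs, -, hrel1, -, -⟩ :=
    o83_b0 hna 13 (by norm_num) P hP 3 40 hrel hd
  have hsum : ∑ i : Fin (3 - 1), sg i * (f i : ℤ) = sg 0 * (f 0 : ℤ) + sg 1 * (f 1 : ℤ) :=
    Fin.sum_univ_two (fun i : Fin (3 - 1) => sg i * (f i : ℤ))
  rw [hsum] at hrel1
  obtain ⟨h02, h0d, h0s, h0m⟩ := hf 0
  obtain ⟨h12, h1d, h1s, h1m⟩ := hf 1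
  have hth120 : th ≤ 120 := Nat.le_of_dvd (by norm_num) hthd
  rcases o83_n4680_deg (f 0) (sg 0) h02 h0d h0s h0m with ⟨ha, hb⟩ | ⟨ha, hb⟩ <;>
  rcases o83_n4680_deg (f 1) (sg 1) h12 h1d h1s h1m with ⟨ha', hb'⟩ | ⟨ha', hb'⟩ <;>
  rw [ha, hb, ha', hb'] at hrel1
  · have hth : th = 23 := by rcases hs with rfl | rfl <;> omega
    subst hth; omega
  · have hth : th = 29 := by rcases hs with rfl | rfl <;> omega
    subst hth; omega
  · have hth : th = 29 := by rcases hs with rfl | rfl <;> omega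
    subst hth; omega
  · have hth : th = 81 := by rcases hs with rfl | rfl <;> omega
    subst hth; omega

end Cfsg.Agent.O83
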