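import Mathlib
import Cfsg.Agent.O83.Basic
import Cfsg.Agent.Helper2.SimpleSmall2

/-!
# S0983: no simple group of order 4725 = 3^3 * 5^2 * 7  (helper5)

`n_5` divides 189 and is `1 mod 5`, so `n_5 = 21`, which is not `1 mod 25`: two Sylow 5-subgroups
meet in a subgroup `D` of order 5 (S0985, packaged in `sylow_count3`), `N(D)` has `e > 1`,
`e = 1 mod 5` Sylow 5-subgroups with `e | k`, `j k = 189`, `j = |G : N(D)| > 1` and `|G| | j!`.
Then `e = 21`, `j ∈ {3, 9}` and `25` does not divide `9!`.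
-/

set_option autoImplicit false

namespace Cfsg.Agent.O83

theorem o83_n4725 {G : Type*} [Group G] [Finite G] [IsSimpleGroup G] : Nat.card G ≠ 4725 := by
  intro h
  have hna : ¬ IsMulCommutative G := o83_noncomm h (by norm_num)
  have : Fact (Nat.Prime 5) := ⟨by norm_num⟩
  obtain ⟨d, -, h1, h2, h3, -, -, -, h7, -⟩ :=
    Cfsg.Agent.Helper2.SimpleSmall2.sylow_count3 (G := G) hna 5 2 189 (h.trans (by norm_num))
      (by norm_num) (by norm_num) (by norm_num)
  have hle : d ≤ 189 := Nat.le_of_dvd (by norm_num) h1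
  have hd25 : d % 5 ^ 2 ≠ 1 := by
    have key : ∀ d ≤ 189, d ∣ 189 → d % 5 = 1 → d ≠ 1 → d % 5 ^ 2 ≠ 1 := by decide +kernel
    exact key d hle h1 h2 h3
  obtain ⟨j, hj, k, hk, hjk, hj1, hf, e, he, hek, he5, he1⟩ := h7 (by norm_num) hd25
  have hk189 : k ∣ 189 := Dvd.intro_left j hjk
  have he189 : e ∣ 189 := hek.trans hk189
  have hele : e ≤ 189 := Nat.le_of_dvd (by norm_num) he189
  have key1 : ∀ e ≤ 189, e ∣ 189 → e % 5 = 1 → 1 < e → e = 21 := by decide +kernel
  have he21 : e = 21 := key1 e hele he189 he5 he1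
  subst he21
  obtain ⟨t, rfl⟩ := hek
  have hjt : j * t = 9 := by
    have : 21 * (j * t) = 21 * 9 := by
      have e1 : 21 * (j * t) = j * (21 * t) := by ring
      rw [e1, hjk]
    exact Nat.eq_of_mul_eq_mul_left (by norm_num) this
  have hj9 : j ≤ 9 := Nat.le_of_dvd (by norm_num) (Dvd.intro t hjt)
  have key2 : ∀ j ≤ 9, 1 < j → ¬ (5 ^ 2 * 189 ∣ j.factorial) := by decide +kernel
  exact key2 j hj9 hj1 hf

end Cfsg.Agent.O83
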