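import Mathlib
import Cfsg.Agent.O83.Basic
import Cfsg.Agent.Helper2.SimpleSmall2

/-!
# S0983: no simple group of order 4851 = 3^2 * 7^2 * 11  (helper5)

`n_11` divides 441 and is `1 mod 11`, so `n_11 = 441`, `|N(P_11)| = 11`: Burnside transfer.
-/

set_option autoImplicit false

namespace Cfsg.Agent.O83

theorem o83_n4851 {G : Type*} [Group G] [Finite G] [IsSimpleGroup G] : Nat.card G ≠ 4851 := by
  intro h
  have hna : ¬ IsMulCommutative G := o83_noncomm h (by norm_num)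
  have : Fact (Nat.Prime 11) := ⟨by norm_num⟩
  obtain ⟨d, -, h1, h2, h3, -, h5, -⟩ :=
    Cfsg.Agent.Helper2.SimpleSmall2.sylow_count3 (G := G) hna 11 1 441 (h.trans (by norm_num))
      (by norm_num) (by norm_num) (by norm_num)
  have hle : d ≤ 441 := Nat.le_of_dvd (by norm_num) h1
  have key : ∀ d ≤ 441, ¬ (d ∣ 441 ∧ d % 11 = 1 ∧ d ≠ 1 ∧
      (1 = 1 → ¬ Nat.Coprime (11 ^ 1 * 441 / d) (11 - 1))) := by decide +kernel
  exact key d hle ⟨h1, h2, h3, h5⟩

end Cfsg.Agent.O83
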