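import Mathlib
import Cfsg.Agent.O83.Basic
import Cfsg.Agent.S0992

/-!
# S0983: no simple group of order 4900 = 2^2 * 5^2 * 7^2  (helper5)

`8` does not divide `4900`, so (S0992) `|N(T) : C(T)| = 3` for a Sylow 2-subgroup `T`; but `3` does
not divide `4900`.
-/

set_option autoImplicit false

namespace Cfsg.Agent.O83

theorem o83_n4900 {G : Type*} [Group G] [Finite G] [IsSimpleGroup G] : Nat.card G ≠ 4900 := by
  intro h
  have hna : ¬ IsMulCommutative G := o83_noncomm h (by norm_num)
  have : Fact (Nat.Prime 2) := ⟨by norm_num⟩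
  obtain ⟨-, h3⟩ := Cfsg.Agent.S0992.result (G := G) hna (by rw [h]; decide) (by rw [h]; decide)
    (default : Sylow 2 G)
  set T : Sylow 2 G := default
  have hd1 : (Subgroup.centralizer ((T : Subgroup G) : Set G)).relIndex
      (Subgroup.normalizer ((T : Subgroup G) : Set G)) ∣
      Nat.card (Subgroup.normalizer ((T : Subgroup G) : Set G)) := by
    rw [Subgroup.relIndex]
    exact Subgroup.index_dvd_card _
  have hd2 : Nat.card (Subgroup.normalizer ((T : Subgroup G) : Set G)) ∣ Nat.card G :=
    Subgroup.card_subgroup_dvd_card _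
  have h3' : 3 ∣ 4900 := by
    rw [← h, ← h3]
    exact hd1.trans hd2
  omega

end Cfsg.Agent.O83
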