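import Mathlib
import Cfsg.Agent.O83.Basic
import Cfsg.Agent.O83.Cent
import Cfsg.Agent.O83.Block

/-!
# S0983: no simple group of order 4928 = 2^6 * 7 * 11  (helper5)

`n_7 ∈ {8, 22, 64, 176}`.  8: index test (`11` does not divide `8!`).  With `|C(P_7)| = 7 c`,
`|N(P_7)| = 7 c e`, `e | 6`, `e ≠ 1`:
* 22 = 1 + 3 * 7: `c e = 32`, so `e = 2`, `c = 16`, which does not divide `3!`;
* 64: `c e = 11`, impossible;
* 176: `c e = 4`, so `e = 2`; the principal 7-block has degrees `1, f, th` with `f | 352`,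
  `f = ±1 mod 7`, `th | 352`, `± th = 1 ± f`: `f ∈ {8, 22, 176}` with sign `+`, and `th = f + 1`
  does not divide 352.
-/

set_option autoImplicit false
set_option synthInstance.maxSize 2048

namespace Cfsg.Agent.O83

theorem o83_n4928 {G : Type*} [Group G] [Finite G] [IsSimpleGroup G] : Nat.card G ≠ 4928 := by
  intro h
  have hna : ¬ IsMulCommutative G := o83_noncomm h (by norm_num)
  have : Fact (Nat.Prime 7) := ⟨by norm_num⟩
  let P : Sylow 7 G := default
  obtain ⟨hP, d, hd, h1, h2, h3, h4, hN⟩ :=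
    o83_syl (G := G) hna 7 1 704 (h.trans (by norm_num)) (by norm_num) (by norm_num)
      (by norm_num) P
  rw [pow_one] at hP
  have hle : d ≤ 704 := Nat.le_of_dvd (by norm_num) h1
  have h4' : d ≤ 10 → 2 * (7 ^ 1 * 704) ∣ d.factorial := fun _ => h4
  have key1 : ∀ d ≤ 704, d ∣ 704 → d % 7 = 1 → d ≠ 1 →
      (d ≤ 10 → 2 * (7 ^ 1 * 704) ∣ d.factorial) → d = 22 ∨ d = 64 ∨ d = 176 := by
    decide +kernel
  obtain ⟨c, e, hC, hNc, hrel, he6, he1, -⟩ := o83_nc (G := G) 7 P hP (by rw [h]; norm_num)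
  rw [hNc] at hN
  have he6' : e ∣ 6 := he6
  have he6le : e ≤ 6 := Nat.le_of_dvd (by norm_num) he6'
  rcases key1 d hle h1 h2 h3 h4' with rfl | rfl | rfl
  · -- d = 22
    have hce : c * e = 32 := by
      have h' : 154 * (c * e) = 154 * 32 := by linarith [hN]
      exact Nat.eq_of_mul_eq_mul_left (by norm_num) h'
    have hc16 : c = 16 := by interval_cases e <;> omega
    subst hc16
    have hfac := o83_cent_factorial (G := G) hna 7 P hP 3 16 (by rw [hd]) hC
    revert hfac
    decide
  · -- d = 64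
    have hce : c * e = 11 := by
      have h' : 448 * (c * e) = 448 * 11 := by linarith [hN]
      exact Nat.eq_of_mul_eq_mul_left (by norm_num) h'
    interval_cases e <;> omega
  · -- d = 176
    have hce : c * e = 4 := by
      have h' : 1232 * (c * e) = 1232 * 4 := by linarith [hN]
      exact Nat.eq_of_mul_eq_mul_left (by norm_num) h'
    have he2 : e = 2 := by interval_cases e <;> omega
    subst he2
    obtain ⟨f, sg, th, s, hf2, hfd, hsg, hfm, hth2, hthd, hs, -, hrel', -, -⟩ :=
      o83_b0_e2 (G := G) hna 7 (by norm_num) P hP 176 hrel hd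
    have hf352 : f ≤ 352 := Nat.le_of_dvd (by norm_num) hfd
    have hth352 : th ≤ 352 := Nat.le_of_dvd (by norm_num) hthd
    have keyf : ∀ f ≤ 352, f ∣ 2 * 176 → 2 ≤ f → (f % 7 = 1 ∨ f % 7 = 6) →
        f % 7 = 1 ∧ (f = 8 ∨ f = 22 ∨ f = 176) := by decide +kernel
    have hfmod : f % 7 = 1 ∨ f % 7 = 6 := by
      unfold Int.ModEq at hfm
      rcases hsg with rfl | rfl <;> omega
    obtain ⟨hf1, hfv⟩ := keyf f hf352 hfd hf2 hfmod
    have hsg1 : sg = 1 := by
      unfold Int.ModEq at hfm
      rcases hsg with rfl | rfl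
      · rfl
      · omega
    subst hsg1
    have hth : (th : ℤ) = 1 + f ∨ (th : ℤ) = -(1 + f) := by
      rcases hs with rfl | rfl
      · left; linarith
      · right; linarith
    have hthv : th = 1 + f := by
      rcases hth with h' | h' <;> omega
    subst hthv
    rcases hfv with rfl | rfl | rfl <;> revert hthd <;> decide

end Cfsg.Agent.O83
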