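import Mathlib
import Cfsg.Agent.O83.Basic
import Cfsg.Agent.Helper2.SimpleSmall3

/-!
# S0983: no simple group of order 5148 = 2^2 * 3^2 * 11 * 13 (helper8)

`n_11 = 78`, `|N(P)| = 66`, `|C(P)| = 33` for a Sylow 11-subgroup `P`; so there are `x ∈ P` of order
`11` and `z ∈ C(P)` of order `3`, and `x z` has order `33`.  `M = C(z)` contains `P` and an (abelian)
Sylow 3-subgroup, so `|M| = 99 b`; Sylow counting inside `M` leaves only `|G : M| = 13`; but the
symmetric group of degree `13` has no element of order `33`.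
-/

set_option autoImplicit false

namespace Cfsg.Agent.O83

/-- A permutation of `13` points does not have order `33`. -/
theorem o83_n5148_perm {α : Type*} [Fintype α] [DecidableEq α] (hα : Fintype.card α = 13)
    (σ : Equiv.Perm α) (hσ : orderOf σ = 33) : False := by
  have hl : σ.cycleType.lcm = 33 := by rw [Equiv.Perm.lcm_cycleType, hσ]
  have hs : σ.cycleType.sum ≤ 13 := hα ▸ Equiv.Perm.sum_cycleType_le σ
  have hdvd : ∀ a ∈ σ.cycleType, a ∣ 33 := fun a ha => hσ ▸ Equiv.Perm.dvd_of_mem_cycleType ha
  have hle : ∀ a ∈ σ.cycleType, a ≤ 13 := fun a ha =>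
    le_trans (Multiset.le_sum_of_mem ha) hs
  obtain ⟨a, ha, ha11⟩ : ∃ a ∈ σ.cycleType, 11 ∣ a := by
    by_contra hno
    push Not at hno
    have h3 : σ.cycleType.lcm ∣ 3 := by
      apply Multiset.lcm_dvd.2
      intro a ha
      have h1 := hdvd a ha
      have h2 := hno a ha
      have h3 := hle a ha
      interval_cases a <;> omega
    rw [hl] at h3
    omega
  obtain ⟨b, hb, hb3⟩ : ∃ b ∈ σ.cycleType, 3 ∣ b := by
    by_contra hno
    push Not at hno
    have h3 : σ.cycleType.lcm ∣ 11 := by
      apply Multiset.lcm_dvd.2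
      intro a ha
      have h1 := hdvd a ha
      have h2 := hno a ha
      have h3 := hle a ha
      interval_cases a <;> omega
    rw [hl] at h3
    omega
  have ha' : a = 11 := by
    have h1 := hdvd a ha
    have h3 := hle a ha
    interval_cases a <;> omega
  have hb' : b = 3 := by
    have h1 := hdvd b hb
    have h3 := hle b hb
    interval_cases b <;> omega
  subst ha' hb'
  obtain ⟨t, ht⟩ := Multiset.exists_cons_of_mem ha
  rw [ht] at hb hs
  rw [Multiset.mem_cons] at hb
  rcases hb with hb | hb
  · omega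
  · have := Multiset.le_sum_of_mem hb
    rw [Multiset.sum_cons] at hs
    omega

theorem o83_n5148 {G : Type*} [Group G] [Finite G] [IsSimpleGroup G] : Nat.card G ≠ 5148 := by
  intro h
  classical
  have hna : ¬ IsMulCommutative G := o83_noncomm h (by norm_num)
  haveI : Fact (Nat.Prime 11) := ⟨by norm_num⟩
  haveI : Fact (Nat.Prime 3) := ⟨by norm_num⟩
  let P : Sylow 11 G := default
  obtain ⟨hP, d, hdS, hd468, hd11, hd1, hdf, hNd⟩ :=
    o83_syl hna 11 1 468 (by rw [h]; norm_num) (by norm_num) (by norm_num) (by norm_num) P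
  rw [pow_one] at hP hNd hdf
  have h12 : ¬ 2 * (11 * 468) ∣ Nat.factorial 12 := by decide
  -- `n_11 = 78`
  have hd78 : d = 78 := by
    have hdle : d ≤ 468 := Nat.le_of_dvd (by norm_num) hd468
    have hne12 : d ≠ 12 := by
      rintro rfl
      exact h12 hdf
    obtain ⟨q, rfl⟩ : ∃ q, d = 11 * q + 1 := ⟨d / 11, by omega⟩
    have hq : q ≤ 42 := by omega
    interval_cases q <;> omega
  subst hd78
  obtain ⟨c, e, hC, hN, -, he, he1, -⟩ := o83_nc 11 P hP (by rw [h]; norm_num)
  rw [hN] at hNd
  have he10 : e ∣ 10 := he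
  have hele : e ≤ 10 := Nat.le_of_dvd (by norm_num) he10
  have hc3 : c = 3 := by
    interval_cases e <;> omega
  subst hc3
  have he2 : e = 2 := by omega
  subst he2
  -- the elements `x`, `z`, `y = x z`
  obtain ⟨z, hz⟩ := exists_prime_orderOf_dvd_card'
    (G := (Subgroup.centralizer ((P : Subgroup G) : Set G))) 3 (by rw [hC]; norm_num)
  obtain ⟨x, hx⟩ := exists_prime_orderOf_dvd_card' (G := (P : Subgroup G)) 11 (by rw [hP])
  have hzG : orderOf (z : G) = 3 := by rw [Subgroup.orderOf_coe]; exact hz
  have hxG : orderOf (x : G) = 11 := by rw [Subgroup.orderOf_coe]; exact hx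
  have hcomm : ∀ g ∈ (P : Subgroup G), g * (z : G) = (z : G) * g :=
    fun g hg => Subgroup.mem_centralizer_iff.1 z.2 g hg
  have hy : orderOf ((x : G) * (z : G)) = 33 := by
    have := Commute.orderOf_mul_eq_mul_orderOf_of_coprime
      (show Commute (x : G) (z : G) from hcomm x x.2) (by rw [hxG, hzG]; norm_num)
    rw [this, hxG, hzG]
  -- `M = C(z)`
  set M : Subgroup G := Subgroup.centralizer ({(z : G)} : Set G) with hM
  have hmemM : ∀ g : G, g * (z : G) = (z : G) * g → g ∈ M := by
    intro g hg
    rw [hM, Subgroup.mem_centralizer_iff]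
    intro k hk
    rw [Set.mem_singleton_iff] at hk
    rw [hk]
    exact hg.symm
  have hPM : (P : Subgroup G) ≤ M := fun g hg => hmemM g (hcomm g hg)
  have hzM : (z : G) ∈ M := hmemM _ rfl
  -- an abelian Sylow 3-subgroup containing `z`
  have hzp : IsPGroup 3 (Subgroup.zpowers (z : G)) := by
    apply IsPGroup.of_card (n := 1)
    rw [Nat.card_zpowers, hzG, pow_one]
  obtain ⟨Q, hQ⟩ := hzp.exists_le_sylow
  obtain ⟨hQ9, -⟩ :=
    o83_syl hna 3 2 572 (by rw [h]; norm_num) (by norm_num) (by norm_num) (by norm_num) Q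
  have hzQ : (z : G) ∈ (Q : Subgroup G) := hQ (Subgroup.mem_zpowers _)
  have hQM : (Q : Subgroup G) ≤ M := by
    intro g hg
    apply hmemM
    have := IsPGroup.commutative_of_card_eq_prime_sq hQ9
      (⟨g, hg⟩ : (Q : Subgroup G)) ⟨(z : G), hzQ⟩
    exact congrArg Subtype.val this
  have h9M : 9 ∣ Nat.card M := by
    have := Subgroup.card_dvd_of_le hQM
    rwa [hQ9] at this
  have h11M : 11 ∣ Nat.card M := by
    have := Subgroup.card_dvd_of_le hPM
    rwa [hP] at this
  have h99M : 99 ∣ Nat.card M :=
    (Nat.Coprime.mul_dvd_of_dvd_of_dvd (by norm_num : Nat.Coprime 9 11) h9M h11M)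
  have hMi : Nat.card M * M.index = 5148 := by rw [Subgroup.card_mul_index, h]
  -- Sylow counting inside `M`
  have hcount := Cfsg.Agent.Helper2.SimpleSmall2.card_sylow_subgroup_mul P M hPM
  have hmod : Nat.card (Sylow 11 M) ≡ 1 [MOD 11] := card_sylow_modEq_one 11 M
  set R : Subgroup G := Subgroup.normalizer ((P : Subgroup G) : Set G) ⊓ M with hR
  have hR66 : Nat.card R ∣ 66 := by
    have := Subgroup.card_dvd_of_le (inf_le_left :
      Subgroup.normalizer ((P : Subgroup G) : Set G) ⊓ M ≤ Subgroup.normalizer ((P : Subgroup G) : Set G))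
    rw [hN] at this
    exact this
  have hR11 : 11 ∣ Nat.card R := by
    have hle : (P : Subgroup G) ≤ R := le_inf Subgroup.le_normalizer hPM
    have := Subgroup.card_dvd_of_le hle
    rwa [hP] at this
  have hR3 : 3 ∣ Nat.card R := by
    have hle : Subgroup.zpowers (z : G) ≤ R := by
      rw [Subgroup.zpowers_le]
      exact ⟨Subgroup.centralizer_le_normalizer _ z.2, hzM⟩
    have := Subgroup.card_dvd_of_le hle
    rwa [Nat.card_zpowers, hzG] at this
  have hR33 : 33 ∣ Nat.card R :=
    (Nat.Coprime.mul_dvd_of_dvd_of_dvd (by norm_num : Nat.Coprime 3 11) hR3 hR11)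
  -- `M` is a proper subgroup
  have hMtop : M ≠ ⊤ := by
    intro htop
    have hcen : Subgroup.zpowers (z : G) ≤ Subgroup.center G := by
      rw [Subgroup.zpowers_le, Subgroup.mem_center_iff]
      intro g
      have hg : g ∈ M := by rw [htop]; exact Subgroup.mem_top g
      rw [hM, Subgroup.mem_centralizer_iff] at hg
      exact (hg _ rfl).symm
    have hnorm : (Subgroup.zpowers (z : G)).Normal := by
      constructor
      intro n hn g
      have := Subgroup.mem_center_iff.1 (hcen hn) g
      rw [this, mul_inv_cancel_right]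
      exact hn
    have hcard : Nat.card (Subgroup.zpowers (z : G)) = 3 := by rw [Nat.card_zpowers, hzG]
    rcases o83_normal _ hnorm with hb | ht
    · rw [hb, Subgroup.card_bot] at hcard
      omega
    · rw [ht, Subgroup.card_top, h] at hcard
      omega
  have hidx := o83_index hna M hMtop
  rw [h] at hidx
  -- arithmetic: the index is `13`
  have hi13 : M.index = 13 := by
    obtain ⟨b, hb⟩ := h99M
    obtain ⟨k, hk⟩ := hR33
    have hRpos : 0 < Nat.card R := Nat.card_pos
    have hRle : Nat.card R ≤ 66 := Nat.le_of_dvd (by norm_num) hR66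
    have hk12 : k = 1 ∨ k = 2 := by omega
    have hbi : b * M.index = 52 := by
      rw [hb] at hMi
      have : 99 * (b * M.index) = 99 * 52 := by rw [← mul_assoc]; omega
      omega
    have hi52 : M.index ≤ 52 := Nat.le_of_dvd (by norm_num) ⟨b, by rw [mul_comm]; exact hbi.symm⟩
    have hi13 : 13 ≤ M.index := by
      by_contra hlt
      push Not at hlt
      exact h12 (Dvd.dvd.trans hidx (Nat.factorial_dvd_factorial (by omega)))
    have hmod' : Nat.card (Sylow 11 M) % 11 = 1 := by
      have := hmod
      unfold Nat.ModEq at this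
      omega
    rw [hb, hk] at hcount
    generalize Nat.card (Sylow 11 M) = s at hcount hmod'
    generalize M.index = i at hbi hi52 hi13 ⊢
    have hb4 : b ≤ 4 := by
      by_contra hlt
      push Not at hlt
      have : 5 * 13 ≤ b * i := Nat.mul_le_mul hlt hi13
      omega
    interval_cases b
    · omega
    · rcases hk12 with rfl | rfl <;> omega
    · rcases hk12 with rfl | rfl <;> omega
    · omega
    · rcases hk12 with rfl | rfl <;> omega
  -- the permutation representation on the cosets of `M`
  have hker : (MulAction.toPermHom G (G ⧸ M)).ker = ⊥ := by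
    rcases o83_normal _ (MonoidHom.normal_ker (MulAction.toPermHom G (G ⧸ M))) with hb | ht
    · exact hb
    · exfalso
      apply hMtop
      rw [eq_top_iff, ← ht, ← Subgroup.normalCore_eq_ker]
      exact Subgroup.normalCore_le M
  have hinj : Function.Injective (MulAction.toPermHom G (G ⧸ M)) :=
    (MonoidHom.ker_eq_bot_iff _).mp hker
  haveI : Fintype (G ⧸ M) := Fintype.ofFinite _
  have hcard13 : Fintype.card (G ⧸ M) = 13 := by
    rw [← Nat.card_eq_fintype_card, ← Subgroup.index, hi13]
  refine o83_n5148_perm hcard13 (MulAction.toPermHom G (G ⧸ M) ((x : G) * (z : G))) ?_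
  rw [orderOf_injective _ hinj, hy]
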