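import Mathlib
import Cfsg.Agent.O83.Basic
import Cfsg.Agent.O83.Cent

/-!
# S0983: no simple group of order 5200 = 2^4 * 5^2 * 13  (helper5)

`n_13` divides 400 and is `1 mod 13`, so `n_13 = 40 = 1 + 3 * 13`, `|N(P_13)| = 130`,
`|N : C|` divides 12 and 10 and is not 1, so it is 2 and `|C(P_13)| = 13 * 5`; but `5` does not
divide `3!` (`o83_cent_factorial`).
-/

set_option autoImplicit false

namespace Cfsg.Agent.O83

theorem o83_n5200 {G : Type*} [Group G] [Finite G] [IsSimpleGroup G] : Nat.card G ≠ 5200 := by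
  intro h
  have hna : ¬ IsMulCommutative G := o83_noncomm h (by norm_num)
  have : Fact (Nat.Prime 13) := ⟨by norm_num⟩
  let P : Sylow 13 G := default
  obtain ⟨hP, d, hd, h1, h2, h3, -, hN⟩ :=
    o83_syl (G := G) hna 13 1 400 (h.trans (by norm_num)) (by norm_num) (by norm_num)
      (by norm_num) P
  rw [pow_one] at hP
  have hle : d ≤ 400 := Nat.le_of_dvd (by norm_num) h1
  have key1 : ∀ d ≤ 400, d ∣ 400 → d % 13 = 1 → d ≠ 1 → d = 40 := by decide +kernel
  have hd40 : d = 40 := key1 d hle h1 h2 h3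
  subst hd40
  obtain ⟨c, e, hC, hNc, -, he12, he1, -⟩ := o83_nc (G := G) 13 P hP (by rw [h]; norm_num)
  rw [hNc] at hN
  have hce : c * e = 10 := by
    have h' : 520 * (c * e) = 520 * 10 := by linarith [hN]
    exact Nat.eq_of_mul_eq_mul_left (by norm_num) h'
  have he10 : e ≤ 10 := Nat.le_of_dvd (by norm_num) (Dvd.intro_left c hce)
  have hc5 : c = 5 := by
    have he12' : e ∣ 12 := he12
    interval_cases e <;> omega
  subst hc5
  have hfac := o83_cent_factorial (G := G) hna 13 P hP 3 5 (by rw [hd]) hC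
  revert hfac
  decide

end Cfsg.Agent.O83
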