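import Mathlib
import Cfsg.Agent.O83.Basic
import Cfsg.Agent.S0992

/-!
# S0983: no simple group of order `5236 = 2^2 · 7 · 11 · 17`

The order is even and not divisible by `8`, so by S0992 the centralizer of a Sylow `2`-subgroup `T` has
index `3` in its normalizer; but `3` does not divide `5236`.
-/

set_option autoImplicit false
set_option linter.style.haveILetI false

namespace Cfsg.Agent.O83

set_option maxRecDepth 100000 in
/-- there is no simple group of order `5236` -/
theorem o83_n5236 {G : Type*} [Group G] [Finite G] [IsSimpleGroup G] : Nat.card G ≠ 5236 := by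
  intro h
  have hna : ¬ IsMulCommutative G := o83_noncomm h (by norm_num)
  haveI : Fact (Nat.Prime 2) := ⟨Nat.prime_two⟩
  let T : Sylow 2 G := default
  obtain ⟨-, h3⟩ := Cfsg.Agent.S0992.result hna (by rw [h]; decide) (by rw [h]; decide) T
  have hd1 : (Subgroup.centralizer ((T : Subgroup G) : Set G)).relIndex
      (Subgroup.normalizer ((T : Subgroup G) : Set G)) ∣
      Nat.card (Subgroup.normalizer ((T : Subgroup G) : Set G)) :=
    Subgroup.relIndex_dvd_card _ _
  have hd2 : Nat.card (Subgroup.normalizer ((T : Subgroup G) : Set G)) ∣ Nat.card G :=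
    Subgroup.card_subgroup_dvd_card _
  rw [h3] at hd1
  have := hd1.trans hd2
  rw [h] at this
  omega

end Cfsg.Agent.O83
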