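import Mathlib
import Cfsg.Agent.O83.Basic
import Cfsg.Agent.Helper2.SimpleSmall2

/-!
# S0983: no simple group of order `5265 = 3^4 · 5 · 13`

At `p = 5` the admissible Sylow numbers are `n_5 = 81, 351`; then `|N(P)| = 65, 15` is prime to `4`, so
`N(P) = C(P)` and Burnside's transfer theorem applies (transfer test inside `sylow_count3`).
-/

set_option autoImplicit false
set_option linter.style.haveILetI false

namespace Cfsg.Agent.O83

open Cfsg.Agent.Helper2.SimpleSmall2

set_option maxRecDepth 100000 in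
/-- there is no simple group of order `5265` -/
theorem o83_n5265 {G : Type*} [Group G] [Finite G] [IsSimpleGroup G] : Nat.card G ≠ 5265 := by
  intro h
  have hna : ¬ IsMulCommutative G := o83_noncomm h (by norm_num)
  haveI : Fact (Nat.Prime 5) := ⟨by norm_num⟩
  have hcard : Nat.card G = 5 ^ 1 * 1053 := h.trans (by norm_num)
  obtain ⟨d, -, h1, h2, h3, -, h5, -, -⟩ :=
    sylow_count3 (G := G) hna 5 1 1053 hcard (by norm_num) (by norm_num) (by norm_num)
  have hle : d ≤ 1053 := Nat.le_of_dvd (by norm_num) h1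
  have key : ∀ d ≤ 1053, (d ∣ 1053 ∧ d % 5 = 1 ∧ d ≠ 1 ∧
      (1 = 1 → ¬ Nat.Coprime (5 ^ 1 * 1053 / d) (5 - 1))) → False := by decide
  exact key d hle ⟨h1, h2, h3, h5⟩

end Cfsg.Agent.O83
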