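import Mathlib
import Cfsg.Agent.O83.Basic
import Cfsg.Agent.Helper2.SimpleSmall2

/-!
# S0983, order 5292 = 2^2 * 3^3 * 7^2 (helper4)

Sylow `7`: `n_7 = 36 ≢ 1 (mod 49)` gives (S0985) two Sylow `7`-subgroups meeting in a subgroup `D` of order 7;
`N(D)` has order `49 k` with a number `e > 1`, `e ≡ 1 (mod 7)`, `e ∣ k` of Sylow `7`-subgroups, so `36 ∣ k ∣ 108` and the index
`108 / k ≤ 3` is too small (`Helper2.SimpleSmall2.sylow_count3`).
-/

set_option autoImplicit false

namespace Cfsg.Agent.O83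

open Cfsg Cfsg.Agent.Helper2

theorem o83_n5292 {G : Type*} [Group G] [Finite G] [IsSimpleGroup G] : Nat.card G ≠ 5292 := by
  intro hG
  have hna : ¬ IsMulCommutative G := o83_noncomm hG (by norm_num)
  have : Fact (Nat.Prime 7) := ⟨by norm_num⟩
  obtain ⟨d, -, hd1, hd2, hd3, -, -, -, hd7, -, -⟩ :=
    SimpleSmall2.sylow_count3 (G := G) hna 7 2 108 (by rw [hG]; norm_num) (by norm_num) (by norm_num)
      (by norm_num)
  have hd108 : d ≤ 108 := Nat.le_of_dvd (by norm_num) hd1
  have hd36 : d = 36 := by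
    interval_cases d <;> omega
  subst hd36
  obtain ⟨j, -, k, -, hjk, hj1, hfac, e, -, hek, he7, he1⟩ := hd7 (by norm_num) (by norm_num)
  have hk108 : k ∣ 108 := Dvd.intro_left j hjk
  have he108 : e ∣ 108 := hek.trans hk108
  have hele : e ≤ 108 := Nat.le_of_dvd (by norm_num) he108
  have he36 : e = 36 := by
    interval_cases e <;> omega
  subst he36
  have hkle : k ≤ 108 := Nat.le_of_dvd (by norm_num) hk108
  have hj3 : j ≤ 3 := by
    obtain ⟨t, rfl⟩ := hek
    have : j * t ≤ 3 := by nlinarith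
    have ht : 0 < t := by
      rcases Nat.eq_zero_or_pos t with h | h
      · subst h; omega
      · exact h
    nlinarith
  have h3 : j.factorial ∣ (3 : ℕ).factorial := Nat.factorial_dvd_factorial hj3
  have h6 : (3 : ℕ).factorial = 6 := by decide
  rw [h6] at h3
  have := Nat.le_of_dvd (by norm_num) (hfac.trans h3)
  omega

end Cfsg.Agent.O83
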