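import Mathlib
import Cfsg.Agent.O83.Basic
import Cfsg.Agent.O83.Block

/-!
# S0983, order 5376 = 2^8 * 3 * 7 (helper4)

Sylow `7`: `n_7 ∈ {8, 64}`; `8` fails the index test.  For `n_7 = 64`: `|N(P)| = 84`, `c e = 12`, `e ∈ {2, 3, 6}`.
* `e = 2`: `f ∣ 128`, `f ≡ ±1 (mod 7)` gives `f ∈ {8, 64}`, `θ = 1 + f ∈ {9, 65}` does not divide `128`.
* `e = 3`: `f_i ∣ 192` gives `f_i ∈ {6, 8, 48, 64}` (signs `-, +, -, +`).  `|C(P)| = 28` is even and the value `m` of a
  character of degree `6` or `8` at an involution of `C(P)` would have `m ≡ ∓1 (mod 7)`, `m ≡ f (mod 4)`, `|m| ≤ f`, `m ≠ f`: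
  impossible; so `f_i ∈ {48, 64}` and `θ = |1 ± f_1 ± f_2| ∈ {95, 17, 129}` does not divide `192`.
* `e = 6`: all `f_i ∣ 384` with `f_i ≡ ±1 (mod 7)` are even, so `θ` is odd, `θ ∣ 384` gives `θ = 3`, not `≡ ±6 (mod 7)`.
-/

set_option autoImplicit false

namespace Cfsg.Agent.O83

open Cfsg

/-- non-exceptional degrees for `e = 3` -/
theorem o83_n5376_deg3 (f : ℕ) (sg : ℤ) (h2 : 2 ≤ f) (hd : f ∣ 3 * 64) (hsg : sg = 1 ∨ sg = -1)
    (hm : (f : ℤ) ≡ sg [ZMOD 7]) :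
    (f = 6 ∧ sg = -1) ∨ (f = 8 ∧ sg = 1) ∨ (f = 48 ∧ sg = -1) ∨ (f = 64 ∧ sg = 1) := by
  have hf192 : f ≤ 192 := Nat.le_of_dvd (by norm_num) hd
  unfold Int.ModEq at hm
  have hfm' : f % 7 = 1 ∨ f % 7 = 6 := by
    rcases hsg with rfl | rfl <;> omega
  have hfc : f = 6 ∨ f = 8 ∨ f = 48 ∨ f = 64 := by
    interval_cases f <;> omega
  rcases hfc with rfl | rfl | rfl | rfl <;> rcases hsg with rfl | rfl <;> omega

/-- non-exceptional degrees for `e = 6` are even -/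
theorem o83_n5376_deg6 (f : ℕ) (sg : ℤ) (h2 : 2 ≤ f) (hd : f ∣ 6 * 64) (hsg : sg = 1 ∨ sg = -1)
    (hm : (f : ℤ) ≡ sg [ZMOD 7]) : (sg * (f : ℤ)) % 2 = 0 := by
  have hf384 : f ≤ 384 := Nat.le_of_dvd (by norm_num) hd
  unfold Int.ModEq at hm
  have hfm' : f % 7 = 1 ∨ f % 7 = 6 := by
    rcases hsg with rfl | rfl <;> omega
  have hfc : f % 2 = 0 := by
    interval_cases f <;> omega
  rcases hsg with rfl | rfl <;> omega

theorem o83_n5376 {G : Type*} [Group G] [Finite G] [IsSimpleGroup G] : Nat.card G ≠ 5376 := by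
  intro hG
  have hna : ¬ IsMulCommutative G := o83_noncomm hG (by norm_num)
  have : Fact (Nat.Prime 7) := ⟨by norm_num⟩
  have : Fact (Nat.Prime 2) := ⟨by norm_num⟩
  let P : Sylow 7 G := default
  obtain ⟨hP, d, hd, hd1, hd2, hd3, hd4, hN⟩ :=
    o83_syl hna 7 1 768 (by rw [hG]; norm_num) (by norm_num) (by norm_num) (by norm_num) P
  rw [pow_one] at hP
  obtain ⟨c, e, hCc, hNce, hrel, he1, he2, -⟩ := o83_nc 7 P hP (by rw [hG]; norm_num)
  have he6 : e ≤ 6 := Nat.le_of_dvd (by norm_num) he1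
  have hd768 : d ≤ 768 := Nat.le_of_dvd (by norm_num) hd1
  have hdc : d = 8 ∨ d = 64 := by
    clear hd4
    interval_cases d <;> omega
  rcases hdc with rfl | rfl
  · -- index test
    have h8 : (8 : ℕ).factorial = 40320 := by decide
    rw [h8] at hd4; omega
  -- `n_7 = 64`
  have hNc : Nat.card (Subgroup.normalizer ((P : Subgroup G) : Set G)) = 84 := by omega
  rw [hNc] at hNce
  have hce : c * e = 12 := by
    have : 7 * (c * e) = 7 * 12 := by rw [← mul_assoc]; omega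
    exact Nat.eq_of_mul_eq_mul_left (by norm_num) this
  have hec : e = 2 ∨ e = 3 ∨ e = 6 := by
    have he12 : e ∣ 12 := Dvd.intro_left c hce
    interval_cases e <;> omega
  rcases hec with rfl | rfl | rfl
  · -- `e = 2`
    obtain ⟨f, sg, th, s, hf2, hfd, hsg, hfm, hth2, hthd, hs, -, hrel1, -, -⟩ :=
      o83_b0_e2 hna 7 (by norm_num) P hP 64 hrel hd
    have hf128 : f ≤ 128 := Nat.le_of_dvd (by norm_num) hfd
    unfold Int.ModEq at hfm
    have hfm' : f % 7 = 1 ∨ f % 7 = 6 := by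
      rcases hsg with rfl | rfl <;> omega
    have hfc : f = 8 ∨ f = 64 := by
      interval_cases f <;> omega
    rcases hfc with rfl | rfl
    · have hth : th = 9 := by
        rcases hsg with rfl | rfl <;> rcases hs with rfl | rfl <;> omega
      subst hth
      omega
    · have hth : th = 65 := by
        rcases hsg with rfl | rfl <;> rcases hs with rfl | rfl <;> omega
      subst hth
      omega
  · -- `e = 3`, `c = 4`
    have hc4 : c = 4 := by omega
    subst hc4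
    obtain ⟨u, huC, hu1, hu2⟩ : ∃ u : G, u ∈ Subgroup.centralizer ((P : Subgroup G) : Set G) ∧ u ≠ 1 ∧
        u * u = 1 := by
      obtain ⟨y, hy⟩ := exists_prime_orderOf_dvd_card'
        (G := Subgroup.centralizer ((P : Subgroup G) : Set G)) 2 (by rw [hCc]; norm_num)
      refine ⟨(y : G), y.2, ?_, ?_⟩
      · intro h1
        have : y = 1 := Subtype.ext h1
        rw [this, orderOf_one] at hy
        omega
      · have h2 : y ^ 2 = 1 := by rw [← hy]; exact pow_orderOf_eq_one y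
        have h3 : ((y ^ 2 : Subgroup.centralizer ((P : Subgroup G) : Set G)) : G) = 1 := by rw [h2]; rfl
        rw [pow_two] at h3
        exact h3
    obtain ⟨f₁, f₂, sg₁, sg₂, th, s, h12, h1d, h1s, h1m, h22, h2d, h2s, h2m, hth2, hthd, hs, -, hrel1, -,
      hu⟩ := o83_b0_e3 hna 7 (by norm_num) P hP 64 hrel hd
    obtain ⟨m₁, m₂, mt, hm17, hm14, hm1a, hm1n, hm27, hm24, hm2a, hm2n, -, -, -, -⟩ := hu u huC hu1 hu2
    have hth192 : th ≤ 192 := Nat.le_of_dvd (by norm_num) hthd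
    unfold Int.ModEq at hm17 hm14 hm27 hm24
    have hA1 := abs_le.mp hm1a
    have hA2 := abs_le.mp hm2a
    rcases o83_n5376_deg3 f₁ sg₁ h12 h1d h1s h1m with ⟨ha, hb⟩ | ⟨ha, hb⟩ | ⟨ha, hb⟩ | ⟨ha, hb⟩ <;>
    rcases o83_n5376_deg3 f₂ sg₂ h22 h2d h2s h2m with ⟨ha', hb'⟩ | ⟨ha', hb'⟩ | ⟨ha', hb'⟩ | ⟨ha', hb'⟩ <;>
    subst ha hb ha' hb' <;>
    first
      | (push_cast at hA1 hA2 hm14 hm24 hm1n hm2n; omega)
      | (have hth : th = 17 := by rcases hs with rfl | rfl <;> omega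
         subst hth; omega)
      | (have hth : th = 95 := by rcases hs with rfl | rfl <;> omega
         subst hth; omega)
      | (have hth : th = 129 := by rcases hs with rfl | rfl <;> omega
         subst hth; omega)
  · -- `e = 6`
    obtain ⟨f, sg, th, s, hf, hth2, hthd, hs, hthm, hrel1, -, -⟩ :=
      o83_b0 hna 7 (by norm_num) P hP 6 64 hrel hd
    have hsum : ∑ i : Fin (6 - 1), sg i * (f i : ℤ) =
        sg 0 * (f 0 : ℤ) + sg 1 * (f 1 : ℤ) + sg 2 * (f 2 : ℤ) + sg 3 * (f 3 : ℤ) + sg 4 * (f 4 : ℤ) :=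
      Fin.sum_univ_five (fun i : Fin (6 - 1) => sg i * (f i : ℤ))
    rw [hsum] at hrel1
    have e0 := o83_n5376_deg6 (f 0) (sg 0) (hf 0).1 (hf 0).2.1 (hf 0).2.2.1 (hf 0).2.2.2
    have e1 := o83_n5376_deg6 (f 1) (sg 1) (hf 1).1 (hf 1).2.1 (hf 1).2.2.1 (hf 1).2.2.2
    have e2 := o83_n5376_deg6 (f 2) (sg 2) (hf 2).1 (hf 2).2.1 (hf 2).2.2.1 (hf 2).2.2.2
    have e3 := o83_n5376_deg6 (f 3) (sg 3) (hf 3).1 (hf 3).2.1 (hf 3).2.2.1 (hf 3).2.2.2
    have e4 := o83_n5376_deg6 (f 4) (sg 4) (hf 4).1 (hf 4).2.1 (hf 4).2.2.1 (hf 4).2.2.2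
    -- `θ` is odd and divides `384 = 2^7 * 3`, so `θ = 3`
    have hodd : th % 2 = 1 := by
      rcases hs with rfl | rfl <;> omega
    have hth384 : th ≤ 384 := Nat.le_of_dvd (by norm_num) hthd
    have hth3 : th = 3 := by
      clear hrel1 hthm
      interval_cases th <;> omega
    subst hth3
    unfold Int.ModEq at hthm
    rcases hs with rfl | rfl <;> omega

end Cfsg.Agent.O83
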