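import Mathlib
import Cfsg.Agent.S0985
import Cfsg.Agent.Helper2.SmallOrder
import Cfsg.Agent.Helper2.SylowExact2
import Cfsg.Agent.Helper2.SimpleSmall2
import Cfsg.Agent.Helper2.CyclicSylow2
import Cfsg.Agent.Helper5.ProdCard

/-!
# No simple group of order 5400 (lead, for S0983)

`5400 = 2^3 * 3^3 * 5^2`.  `n_5 = 36`; two Sylow 5-subgroups `P`, `R` meet in `D` of order 5
(S0985); `H = C(D)` has order 300; a conjugate `D1` of `D` with `D ≰ C(D1) = H1`;
`L = H ⊓ H1` has order 60, `H = D L`, `H1 = D1 L`, so `L` is normal in both and `N(L)` has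
index at most 9: contradiction.
-/

set_option autoImplicit false

namespace Cfsg.Agent.O83

open Subgroup
open scoped Pointwise

/-- the order of a join `A ⊔ N` when `A` normalises `N` and `A ⊓ N = ⊥` -/
theorem o83_n5400_card_sup {G : Type*} [Group G] [Finite G] (A N : Subgroup G)
    (hAN : A ≤ normalizer (N : Set G)) (h : A ⊓ N = ⊥) :
    Nat.card (A ⊔ N : Subgroup G) = Nat.card A * Nat.card N := by
  have h1 := Cfsg.Agent.Helper5.card_mul_set_mul_card_inf A N
  rw [h, Subgroup.card_bot, mul_one] at h1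
  rw [← h1]
  have h2 : ((A ⊔ N : Subgroup G) : Set G) = (A : Set G) * (N : Set G) :=
    Subgroup.coe_mul_of_left_le_normalizer_right A N hAN
  exact Nat.card_congr (Equiv.setCongr h2)

/-- a subgroup of order 5 not contained in `K` meets `K` trivially -/
theorem o83_n5400_inf_bot {G : Type*} [Group G] [Finite G] (D K : Subgroup G)
    (hD : Nat.card D = 5) (h : ¬ D ≤ K) : D ⊓ K = ⊥ := by
  have h1 : Nat.card (D ⊓ K : Subgroup G) ∣ 5 := hD ▸ Subgroup.card_dvd_of_le inf_le_left
  rcases (Nat.dvd_prime (by norm_num : Nat.Prime 5)).mp h1 with h2 | h2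
  · exact Subgroup.card_eq_one.mp h2
  · exfalso
    apply h
    have h3 : D ⊓ K = D := Subgroup.eq_of_le_of_card_ge inf_le_left (by rw [h2, hD])
    rw [← h3]
    exact inf_le_right

/-- a group of order 150 or 450 has only one Sylow 5-subgroup -/
theorem o83_n5400_uniq {X : Type*} [Group X] [Finite X]
    (hX : Nat.card X = 150 ∨ Nat.card X = 450) : Subsingleton (Sylow 5 X) := by
  have : Fact (Nat.Prime 2) := ⟨Nat.prime_two⟩
  have : Fact (Nat.Prime 5) := ⟨by norm_num⟩
  -- the Sylow 2-subgroup has order 2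
  let T : Sylow 2 X := default
  have hT : Nat.card (T : Subgroup X) = 2 := by
    rcases hX with h | h
    · have := Cfsg.Agent.Helper2.SylowExact.card_sylow_of_exact_pow (s := 2) (k := 1) (m := 75)
        (by rw [h]; norm_num) (by norm_num) T
      simpa using this
    · have := Cfsg.Agent.Helper2.SylowExact.card_sylow_of_exact_pow (s := 2) (k := 1) (m := 225)
        (by rw [h]; norm_num) (by norm_num) T
      simpa using this
  have hTc : IsCyclic (T : Subgroup X) := isCyclic_of_prime_card hT
  have heven : Even (Nat.card X) := by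
    rcases hX with h | h <;> rw [h] <;> decide
  obtain ⟨Y, hY⟩ := Cfsg.Agent.Helper2.exists_index_two_of_cyclic_sylow_two heven T hTc
  have hYc : Nat.card Y * 2 = Nat.card X := by rw [← hY]; exact Y.card_mul_index
  -- `Y` has only one Sylow 5-subgroup
  have hsubY : Subsingleton (Sylow 5 Y) := by
    let Q : Sylow 5 Y := default
    have hmod := card_sylow_modEq_one 5 Y
    have hdvd := Sylow.card_dvd_index Q
    have hQi := (Q : Subgroup Y).card_mul_index
    rcases hX with h | h
    · have hYc' : Nat.card Y = 5 ^ 2 * 3 := by omega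
      have hQ := Cfsg.Agent.Helper2.SylowExact.card_sylow_of_exact_pow hYc' (by norm_num) Q
      have hidx : (Q : Subgroup Y).index = 3 := by
        rw [hQ, hYc'] at hQi; omega
      rw [hidx] at hdvd
      have hle : Nat.card (Sylow 5 Y) ≤ 3 := Nat.le_of_dvd (by norm_num) hdvd
      have h1 : Nat.card (Sylow 5 Y) = 1 := by
        have h5 : Nat.card (Sylow 5 Y) % 5 = 1 := hmod
        omega
      exact (Nat.card_eq_one_iff_unique.mp h1).1
    · have hYc' : Nat.card Y = 5 ^ 2 * 9 := by omega
      have hQ := Cfsg.Agent.Helper2.SylowExact.card_sylow_of_exact_pow hYc' (by norm_num) Q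
      have hidx : (Q : Subgroup Y).index = 9 := by
        rw [hQ, hYc'] at hQi; omega
      rw [hidx] at hdvd
      have hle : Nat.card (Sylow 5 Y) ≤ 9 := Nat.le_of_dvd (by norm_num) hdvd
      have h1 : Nat.card (Sylow 5 Y) = 1 := by
        have h5 : Nat.card (Sylow 5 Y) % 5 = 1 := hmod
        have : Nat.card (Sylow 5 Y) ≠ 6 := by
          intro h6; rw [h6] at hdvd; omega
        omega
      exact (Nat.card_eq_one_iff_unique.mp h1).1
  -- every Sylow 5-subgroup of `X` lies in `Y`
  have hle : ∀ P : Sylow 5 X, (P : Subgroup X) ≤ Y := by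
    intro P g hg
    have hP : Nat.card (P : Subgroup X) = 5 ^ 2 := by
      rcases hX with h | h
      · exact Cfsg.Agent.Helper2.SylowExact.card_sylow_of_exact_pow (s := 5) (k := 2) (m := 6)
          (by rw [h]; norm_num) (by norm_num) P
      · exact Cfsg.Agent.Helper2.SylowExact.card_sylow_of_exact_pow (s := 5) (k := 2) (m := 18)
          (by rw [h]; norm_num) (by norm_num) P
    have h25 : g ^ 25 = 1 := by
      have h1 : (⟨g, hg⟩ : (P : Subgroup X)) ^ Nat.card (P : Subgroup X) = 1 := pow_card_eq_one'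
      rw [hP] at h1
      have h2 := congrArg Subtype.val h1
      simpa using h2
    have h2 : g ^ 2 ∈ Y := Subgroup.sq_mem_of_index_two hY g
    have h3 : g = (g ^ 2) ^ 13 := by
      rw [← pow_mul]
      calc g = g ^ 25 * g := by rw [h25, one_mul]
        _ = g ^ (2 * 13) := by rw [← pow_succ]
    rw [h3]
    exact Y.pow_mem h2 13
  refine ⟨fun P R => ?_⟩
  exact Sylow.subtype_injective (Subsingleton.elim (P.subtype (hle P)) (R.subtype (hle R)))

/-- a subgroup containing two distinct Sylow 5-subgroups of order 25 -/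
theorem o83_n5400_two {G : Type*} [Group G] [Finite G] (P R : Sylow 5 G)
    (hP : Nat.card (P : Subgroup G) = 25) (hPR : P ≠ R) (X : Subgroup G)
    (hPX : (P : Subgroup G) ≤ X) (hRX : (R : Subgroup G) ≤ X) :
    (∃ j e : ℕ, Nat.card X = 25 * j ∧ e ∣ j ∧ e % 5 = 1 ∧ 1 < e) ∧
      Nat.card X ≠ 150 ∧ Nat.card X ≠ 450 := by
  have : Fact (Nat.Prime 5) := ⟨by norm_num⟩
  have hne : P.subtype hPX ≠ R.subtype hRX := fun h => hPR (Sylow.subtype_injective h)
  refine ⟨?_, ?_, ?_⟩
  · refine ⟨((P.subtype hPX : Sylow 5 X) : Subgroup X).index, Nat.card (Sylow 5 X), ?_,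
      Sylow.card_dvd_index _, card_sylow_modEq_one 5 X, ?_⟩
    · have h3 := Subgroup.card_mul_index ((P.subtype hPX : Sylow 5 X) : Subgroup X)
      rw [Sylow.coe_subtype, Nat.card_congr (Subgroup.subgroupOfEquivOfLe hPX).toEquiv, hP] at h3
      rw [← h3, Sylow.coe_subtype]
    · by_contra hcon
      push Not at hcon
      have h1 : Nat.card (Sylow 5 X) = 1 := le_antisymm hcon Nat.card_pos
      have hsub : Subsingleton (Sylow 5 X) := (Nat.card_eq_one_iff_unique.mp h1).1
      exact hne (Subsingleton.elim _ _)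
  · intro h
    have hsub := o83_n5400_uniq (X := X) (Or.inl h)
    exact hne (Subsingleton.elim _ _)
  · intro h
    have hsub := o83_n5400_uniq (X := X) (Or.inr h)
    exact hne (Subsingleton.elim _ _)

/-- In a simple group of order 5400 the centraliser of a subgroup `D` of order 5 contained in two
distinct Sylow 5-subgroups has order 300. -/
theorem o83_n5400_cent {G : Type*} [Group G] [Finite G] [IsSimpleGroup G]
    (hG : Nat.card G = 5400) (D : Subgroup G) (hD : Nat.card D = 5) (P R : Sylow 5 G)
    (hPR : P ≠ R) (hDP : D ≤ (P : Subgroup G)) (hDR : D ≤ (R : Subgroup G)) :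
    (P : Subgroup G) ≤ centralizer (D : Set G) ∧ (R : Subgroup G) ≤ centralizer (D : Set G) ∧
      Nat.card (centralizer (D : Set G)) = 300 := by
  have : Fact (Nat.Prime 5) := ⟨by norm_num⟩
  have hcard : Nat.card G = 5 ^ 2 * 216 := by rw [hG]; norm_num
  have hSc : ∀ S : Sylow 5 G, Nat.card (S : Subgroup G) = 5 ^ 2 := fun S =>
    Cfsg.Agent.Helper2.SylowExact.card_sylow_of_exact_pow hcard (by norm_num) S
  have hcomm : ∀ S : Sylow 5 G, D ≤ (S : Subgroup G) →
      (S : Subgroup G) ≤ centralizer (D : Set G) := by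
    intro S hDS x hx
    rw [Subgroup.mem_centralizer_iff]
    intro d hd
    have h1 := (IsPGroup.isMulCommutative_of_card_eq_prime_sq (hSc S)).is_comm.comm
      (⟨d, hDS hd⟩ : (S : Subgroup G)) ⟨x, hx⟩
    exact congrArg Subtype.val h1
  have hPH := hcomm P hDP
  have hRH := hcomm R hDR
  refine ⟨hPH, hRH, ?_⟩
  set H : Subgroup G := centralizer (D : Set G) with hH
  have hHtop : H ≠ ⊤ := by
    intro htop
    have hDn : D.Normal := by
      have h1 : normalizer (D : Set G) = ⊤ :=
        top_le_iff.mp (htop ▸ Subgroup.centralizer_le_normalizer (D : Set G))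
      exact Subgroup.normalizer_eq_top_iff.mp h1
    rcases hDn.eq_bot_or_eq_top with h0 | h0
    · rw [h0, Subgroup.card_bot] at hD; omega
    · rw [h0, Subgroup.card_top, hG] at hD; omega
  have hfact := Cfsg.Agent.Helper2.SmallOrder.card_dvd_factorial_index H hHtop
  rw [hG] at hfact
  obtain ⟨⟨j, e, hj, hej, he5, he1⟩, h150, h450⟩ :=
    o83_n5400_two P R (by rw [hSc P]; norm_num) hPR H hPH hRH
  have hidx := H.card_mul_index
  rw [hG, hj] at hidx
  have hi10 : 10 ≤ H.index := by
    by_contra hcon
    have h9 : H.index ≤ 9 := by omega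
    have := hfact.trans (Nat.factorial_dvd_factorial h9)
    norm_num [Nat.factorial] at this
  have hji : j * H.index = 216 := by nlinarith
  have hj21 : j ≤ 21 := by
    by_contra hcon
    have : 22 ≤ j := by omega
    nlinarith
  have hjpos : 0 < j := by
    rcases Nat.eq_zero_or_pos j with h0 | h0
    · rw [h0] at hji; omega
    · exact h0
  have hej' : e ≤ j := Nat.le_of_dvd hjpos hej
  rw [hj] at h150 h450 ⊢
  generalize H.index = i at hji hi10
  interval_cases j <;> first | omega | (exfalso; interval_cases e <;> omega)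

/-- one half of the symmetric situation: `D` of order 5 central in `H` of order 300 with two Sylow
5-subgroups, `L ≤ H` of order at least 17 meeting `D` trivially: then `|L| = 60` and `L ⊲ H`. -/
theorem o83_n5400_half {G : Type*} [Group G] [Finite G] (D H L : Subgroup G)
    (hD : Nat.card D = 5) (hH : H = centralizer (D : Set G)) (hHc : Nat.card H = 300)
    (P R : Sylow 5 G) (hP : Nat.card (P : Subgroup G) = 25) (hPR : P ≠ R)
    (hPH : (P : Subgroup G) ≤ H) (hRH : (R : Subgroup G) ≤ H) (hDH : D ≤ H) (hLH : L ≤ H)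
    (hLD : L ⊓ D = ⊥) (hL17 : 17 ≤ Nat.card L) :
    Nat.card L = 60 ∧ H ≤ normalizer (L : Set G) := by
  have : Fact (Nat.Prime 5) := ⟨by norm_num⟩
  have hRc : Nat.card (R : Subgroup G) = 25 := by
    rw [← hP, Sylow.card_eq_multiplicity, Sylow.card_eq_multiplicity]
  have hLN : L ≤ normalizer (D : Set G) :=
    hLH.trans (hH ▸ Subgroup.centralizer_le_normalizer (D : Set G))
  have hXc : Nat.card (L ⊔ D : Subgroup G) = Nat.card L * 5 := by
    rw [o83_n5400_card_sup L D hLN hLD, hD]
  set X : Subgroup G := L ⊔ D with hX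
  have hXH : X ≤ H := sup_le hLH hDH
  have hXr : Nat.card X * X.relIndex H = 300 := by
    have h1 := Subgroup.relIndex_mul_relIndex (⊥ : Subgroup G) X H bot_le hXH
    rw [Subgroup.relIndex_bot_left, Subgroup.relIndex_bot_left, hHc] at h1
    exact h1
  have hr3 : X.relIndex H ≤ 3 := by
    by_contra hcon
    have : 4 ≤ X.relIndex H := by omega
    nlinarith
  have hr0 : X.relIndex H ≠ 0 := by
    intro h0; rw [h0] at hXr; omega
  have hSX : ∀ S : Sylow 5 G, Nat.card (S : Subgroup G) = 25 → (S : Subgroup G) ≤ H →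
      (S : Subgroup G) ≤ X := by
    intro S hSc hSH
    have h1 : X.relIndex (S : Subgroup G) ≤ X.relIndex H :=
      Subgroup.relIndex_le_of_le_right hSH hr0
    have h2 : X.relIndex (S : Subgroup G) ∣ 25 := hSc ▸ Subgroup.relIndex_dvd_card X _
    have h3 : X.relIndex (S : Subgroup G) ≤ 3 := h1.trans hr3
    have h4 : X.relIndex (S : Subgroup G) = 1 := by
      have h25 : (25 : ℕ) = 5 ^ 2 := by norm_num
      rw [h25] at h2
      obtain ⟨i, hi, hi2⟩ := (Nat.dvd_prime_pow (by norm_num : Nat.Prime 5)).mp h2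
      rw [hi2] at h3 ⊢
      interval_cases i <;> simp_all
    exact Subgroup.relIndex_eq_one.mp h4
  have hPX := hSX P hP hPH
  have hRX := hSX R hRc hRH
  obtain ⟨⟨j, e, hj, hej, he5, he1⟩, h150, -⟩ := o83_n5400_two P R hP hPR X hPX hRX
  rw [hXc] at hj h150 hXr
  generalize X.relIndex H = r at hXr hr3 hr0
  have hL60 : Nat.card L = 60 := by
    have hjpos : 0 < j := by
      rcases Nat.eq_zero_or_pos j with h0 | h0
      · rw [h0] at hj; omega
      · exact h0
    have hej' : e ≤ j := Nat.le_of_dvd hjpos hej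
    interval_cases r
    · omega
    · have : j = 12 := by omega
      omega
    · exfalso
      have : j = 6 := by omega
      omega
    · exfalso
      have : j = 4 := by omega
      subst this
      interval_cases e <;> omega
  refine ⟨hL60, ?_⟩
  have hXeq : X = H := Subgroup.eq_of_le_of_card_ge hXH (by rw [hXc, hHc, hL60])
  rw [← hXeq, hX]
  refine sup_le Subgroup.le_normalizer ?_
  refine le_trans ?_ (Subgroup.centralizer_le_normalizer (L : Set G))
  intro d hd
  rw [Subgroup.mem_centralizer_iff]
  intro l hl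
  have hlH : l ∈ centralizer (D : Set G) := hH ▸ hLH hl
  exact (Subgroup.mem_centralizer_iff.mp hlH d hd).symm

/-- **No simple group has order 5400.** -/
theorem o83_n5400 {G : Type*} [Group G] [Finite G] [IsSimpleGroup G] : Nat.card G ≠ 5400 := by
  intro hG
  have : Fact (Nat.Prime 5) := ⟨by norm_num⟩
  have hna : ¬ IsMulCommutative G := by
    intro h
    have hc : ∀ a b : G, a * b = b * a := h.is_comm.comm
    let _ : CommGroup G := { (inferInstance : Group G) with mul_comm := hc }
    have h1 := IsSimpleGroup.prime_card (α := G)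
    rw [hG] at h1
    norm_num at h1
  have hcard : Nat.card G = 5 ^ 2 * 216 := by rw [hG]; norm_num
  have hSc : ∀ S : Sylow 5 G, Nat.card (S : Subgroup G) = 25 := fun S => by
    have := Cfsg.Agent.Helper2.SylowExact.card_sylow_of_exact_pow hcard (by norm_num) S
    rw [this]; norm_num
  -- Step 1: n_5 = 36
  obtain ⟨d, hd, hdm, hd5, hd1, hdf, -, -, -, -, hdm'⟩ :=
    Cfsg.Agent.Helper2.SimpleSmall2.sylow_count3 hna 5 2 216 hcard (by norm_num) (by norm_num)
      (by norm_num)
  have hd36 : d = 36 := by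
    have hdne : d ≠ 216 := hdm' rfl
    obtain ⟨t, ht⟩ := hdm
    have ht36 : t ≤ 36 := by
      by_contra hcon
      have : 37 ≤ t := by omega
      have : 6 ≤ d := by omega
      nlinarith
    interval_cases t <;> try omega
    have hd6 : d = 6 := by omega
    subst hd6
    norm_num [Nat.factorial] at hdf
  -- Step 2: two Sylow 5-subgroups meeting in a subgroup of order 5
  have hne : ¬ Nat.card (Sylow 5 G) ≡ 1 [MOD 5 ^ 2] := by
    rw [← hd, hd36]; decide
  obtain ⟨P, R, hPR, hidx⟩ := Cfsg.Agent.S0985.result 5 2 hne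
  set D : Subgroup G := (P : Subgroup G) ⊓ (R : Subgroup G) with hDdef
  have hDP : D ≤ (P : Subgroup G) := inf_le_left
  have hDR : D ≤ (R : Subgroup G) := inf_le_right
  have hD : Nat.card D = 5 := by
    have hrel : (R : Subgroup G).relIndex (P : Subgroup G) = D.relIndex (P : Subgroup G) := by
      rw [hDdef, Subgroup.inf_relIndex_left]
    have hle : D.relIndex (P : Subgroup G) ≤ 5 := by
      rw [← hrel]
      have h2 : ((R : Subgroup G).subgroupOf (P : Subgroup G)).index ≤ 5 := by simpa using hidx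
      exact h2
    have hne1 : D.relIndex (P : Subgroup G) ≠ 1 := by
      intro h1
      have hle : (P : Subgroup G) ≤ D := Subgroup.relIndex_eq_one.mp h1
      have hPR' : (P : Subgroup G) ≤ (R : Subgroup G) := hle.trans hDR
      apply hPR
      apply Sylow.ext
      exact Subgroup.eq_of_le_of_card_ge hPR' (by rw [hSc P, hSc R])
    have hmul := Subgroup.relIndex_mul_relIndex (⊥ : Subgroup G) D (P : Subgroup G) bot_le hDP
    rw [Subgroup.relIndex_bot_left, Subgroup.relIndex_bot_left, hSc P] at hmul
    generalize D.relIndex (P : Subgroup G) = r at hle hne1 hmul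
    interval_cases r <;> omega
  -- Step 3: H = C(D) has order 300
  obtain ⟨hPH, hRH, hHc⟩ := o83_n5400_cent hG D hD P R hPR hDP hDR
  set H : Subgroup G := centralizer (D : Set G) with hH
  have hDH : D ≤ H := hDP.trans hPH
  have hHtop : H ≠ ⊤ := by
    intro htop
    rw [htop, Subgroup.card_top, hG] at hHc
    omega
  -- Step 4: a conjugate `D1` of `D` not centralised by `D`
  have hex : ∃ d ∈ D, ∃ b : G, b * d * b⁻¹ ∉ H := by
    by_contra hcon
    push Not at hcon
    have hDcore : D ≤ H.normalCore := fun d hd b => hcon d hd b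
    rcases (H.normalCore_normal).eq_bot_or_eq_top with h0 | h0
    · rw [h0, le_bot_iff] at hDcore
      rw [hDcore, Subgroup.card_bot] at hD
      omega
    · exact hHtop (top_le_iff.mp (h0 ▸ H.normalCore_le))
  obtain ⟨d0, hd0, b, hb⟩ := hex
  set D1 : Subgroup G := MulAut.conj b • D with hD1def
  have hD1 : Nat.card D1 = 5 := by
    rw [← hD]
    exact (Nat.card_congr (Subgroup.equivSMul (MulAut.conj b) D).toEquiv).symm
  have hP1 : D1 ≤ ((b • P : Sylow 5 G) : Subgroup G) := by
    rw [Sylow.coe_subgroup_smul, hD1def]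
    exact Subgroup.pointwise_smul_le_pointwise_smul_iff.mpr hDP
  have hR1 : D1 ≤ ((b • R : Sylow 5 G) : Subgroup G) := by
    rw [Sylow.coe_subgroup_smul, hD1def]
    exact Subgroup.pointwise_smul_le_pointwise_smul_iff.mpr hDR
  have hPR1 : (b • P : Sylow 5 G) ≠ b • R := (MulAction.injective b).ne hPR
  obtain ⟨hPH1, hRH1, hH1c⟩ := o83_n5400_cent hG D1 hD1 (b • P) (b • R) hPR1 hP1 hR1
  set H1 : Subgroup G := centralizer (D1 : Set G) with hH1
  have hD1H1 : D1 ≤ H1 := hP1.trans hPH1
  have hd1 : b * d0 * b⁻¹ ∈ D1 := by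
    have := Subgroup.smul_mem_pointwise_smul d0 (MulAut.conj b) D hd0
    simpa [MulAut.smul_def, MulAut.conj_apply] using this
  have hD1H : ¬ D1 ≤ H := fun h => hb (h hd1)
  have hDH1 : ¬ D ≤ H1 := by
    intro h
    apply hb
    rw [hH, Subgroup.mem_centralizer_iff]
    intro x hx
    have hx1 : x ∈ centralizer (D1 : Set G) := h hx
    exact (Subgroup.mem_centralizer_iff.mp hx1 _ hd1).symm
  -- Step 5: L = H ⊓ H1
  set L : Subgroup G := H ⊓ H1 with hL
  have hLH : L ≤ H := inf_le_left
  have hLH1 : L ≤ H1 := inf_le_right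
  have hLD : L ⊓ D = ⊥ := by
    rw [eq_bot_iff, ← o83_n5400_inf_bot D H1 hD hDH1]
    exact le_inf inf_le_right (inf_le_left.trans hLH1)
  have hLD1 : L ⊓ D1 = ⊥ := by
    rw [eq_bot_iff, ← o83_n5400_inf_bot D1 H hD1 hD1H]
    exact le_inf inf_le_right (inf_le_left.trans hLH)
  have hHi : H.index = 18 := by
    have := H.card_mul_index
    rw [hHc, hG] at this
    omega
  have hH1i : H1.index = 18 := by
    have := H1.card_mul_index
    rw [hH1c, hG] at this
    omega
  have hL17 : 17 ≤ Nat.card L := by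
    have h1 : L.index ≤ H.index * H1.index := Subgroup.index_inf_le
    rw [hHi, hH1i] at h1
    have h2 := L.card_mul_index
    rw [hG] at h2
    by_contra hcon
    have : Nat.card L ≤ 16 := by omega
    nlinarith
  -- Steps 6, 7
  obtain ⟨hL60, hHN⟩ := o83_n5400_half D H L hD hH hHc P R (hSc P) hPR hPH hRH hDH hLH hLD hL17
  obtain ⟨-, hH1N⟩ := o83_n5400_half D1 H1 L hD1 hH1 hH1c (b • P) (b • R) (hSc _) hPR1 hPH1 hRH1
    hD1H1 hLH1 hLD1 hL17
  set M : Subgroup G := normalizer (L : Set G) with hM
  have hMtop : M ≠ ⊤ := by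
    intro htop
    have hLn : L.Normal := Subgroup.normalizer_eq_top_iff.mp htop
    rcases hLn.eq_bot_or_eq_top with h0 | h0
    · rw [h0, Subgroup.card_bot] at hL60; omega
    · rw [h0, Subgroup.card_top, hG] at hL60; omega
  have hfact := Cfsg.Agent.Helper2.SmallOrder.card_dvd_factorial_index M hMtop
  rw [hG] at hfact
  have hMi : M.index ∣ 18 := hHi ▸ Subgroup.index_dvd_of_le hHN
  have hMne : M.index ≠ 18 := by
    intro h18
    have h1 := M.card_mul_index
    rw [h18, hG] at h1
    have hMc : Nat.card M = 300 := by omega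
    have hMH : H = M := Subgroup.eq_of_le_of_card_ge hHN (by rw [hMc, hHc])
    exact hD1H (hD1H1.trans (hMH ▸ hH1N))
  have hM9 : M.index ≤ 9 := by
    have h18 : M.index ≤ 18 := Nat.le_of_dvd (by norm_num) hMi
    generalize M.index = i at hMi hMne h18
    interval_cases i <;> omega
  have := hfact.trans (Nat.factorial_dvd_factorial hM9)
  norm_num [Nat.factorial] at this

end Cfsg.Agent.O83
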