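import Mathlib
import Cfsg.Agent.Helper2.SimpleSmall2
import Cfsg.Agent.O83.Basic

/-!
# S0983, order `5445 = 3^2 * 5 * 11^2` (helper7)

At `p = 11` (`|P| = 121`): `n_11` divides `45` and is `1 mod 11`, so `n_11 = 45 = |G| / |P|`, i.e.
`P` is self-normalizing and abelian (Burnside).
-/

set_option autoImplicit false
set_option linter.style.haveILetI false

namespace Cfsg.Agent.O83

theorem o83_n5445 {G : Type*} [Group G] [Finite G] [IsSimpleGroup G] : Nat.card G ≠ 5445 := by
  intro hG
  have hna := o83_noncomm hG (by norm_num)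
  haveI : Fact (Nat.Prime 11) := ⟨by norm_num⟩
  obtain ⟨d, -, hdm, hd11, hd1, -, -, -, -, -, hself⟩ :=
    Cfsg.Agent.Helper2.SimpleSmall2.sylow_count3 (G := G) hna 11 2 45 (by rw [hG]; norm_num)
      (by norm_num) (by norm_num) (by norm_num)
  have hd : d = 45 := by
    have hle : d ≤ 45 := Nat.le_of_dvd (by norm_num) hdm
    interval_cases d <;> simp_all
  exact hself rfl hd

end Cfsg.Agent.O83
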