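import Mathlib
import Cfsg.Agent.S0992
import Cfsg.Agent.O83.Basic
import Cfsg.Agent.O83.Cent
import Cfsg.Agent.O83.Block

/-!
# S0983: no simple group of order 5460 = 2^2 * 3 * 5 * 7 * 13  (helper5)

Everything happens at `p = 13`.  `n_13 ∈ {14, 105}`; 14 = 1 + 1 * 13 dies by `o83_cent_factorial`
(`|C(P)| = 13 c` with `c ∣ 1!`, but `c e = 30`, `e ∣ 12`).  So `n_13 = 105`, `|N(P)| = 52`, `c e = 4`.
* `e = 4`: `N(P)/C(P)` embeds in the cyclic group `Aut(P)`, so `N(P)` has an element of order
  divisible by 4; but the Sylow 2-subgroups of `G` are Klein four-groups (S0992).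
* `e = 2`, `|C(P)| = 26`: the principal 13-block (`o83_b0_e2`) has degrees `1, f, th` with
  `f ∣ 210`, `f ≡ ±1`, `th ∣ 210`, `th ≡ ±2 (mod 13)`, `± th = 1 ± f`, hence `f = 14`, `th = 15`;
  the value `m` of the character of degree 14 at the involution of `C(P)` satisfies
  `m ≡ 1 (mod 13)`, `m ≡ 2 (mod 4)`, `|m| ≤ 14`, `m ≠ 14`: impossible.
-/

set_option autoImplicit false
set_option synthInstance.maxSize 2048

namespace Cfsg.Agent.O83

/-- a simple group of order 5460 has no element of order 4 -/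
theorem o83_n5460_no_four {G : Type*} [Group G] [Finite G] [IsSimpleGroup G]
    (h : Nat.card G = 5460) (g : G) : orderOf g ≠ 4 := by
  intro hg
  have hna : ¬ IsMulCommutative G := o83_noncomm h (by norm_num)
  have : Fact (Nat.Prime 2) := ⟨by norm_num⟩
  have hpg : IsPGroup 2 (Subgroup.zpowers g) := by
    apply IsPGroup.of_card (n := 2)
    rw [Nat.card_zpowers, hg]
    norm_num
  obtain ⟨T, hT⟩ := hpg.exists_le_sylow
  obtain ⟨hK, -⟩ := Cfsg.Agent.S0992.result (G := G) hna (by rw [h]; decide) (by rw [h]; decide) T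
  have hgT : g ∈ (T : Subgroup G) := hT (Subgroup.mem_zpowers g)
  have h2 : (⟨g, hgT⟩ : (T : Subgroup G)) ^ 2 = 1 := by
    have := Monoid.pow_exponent_eq_one (⟨g, hgT⟩ : (T : Subgroup G))
    rwa [hK.exponent_two] at this
  have h2' : g ^ 2 = 1 := by
    have := congrArg Subtype.val h2
    simpa using this
  have hdvd : orderOf g ∣ 2 := orderOf_dvd_of_pow_eq_one h2'
  rw [hg] at hdvd
  omega

/-- if `|P|` is a prime and `|N(P) : C(P)| = 4`, some element has order 4 -/
theorem o83_n5460_exists_four {G : Type*} [Group G] [Finite G] (p : ℕ) [hp : Fact p.Prime]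
    (P : Subgroup G) (hP : Nat.card P = p)
    (he : (Subgroup.centralizer (P : Set G)).relIndex (Subgroup.normalizer (P : Set G)) = 4) :
    ∃ g : G, orderOf g = 4 := by
  have hcyc : IsCyclic P := isCyclic_of_prime_card hP
  have hu : IsCyclic (ZMod (Nat.card P))ˣ := by
    rw [hP]
    exact ZMod.isCyclic_units_prime hp.out
  have hA : IsCyclic (MulAut P) :=
    isCyclic_of_surjective (IsCyclic.mulAutMulEquiv P).symm (IsCyclic.mulAutMulEquiv P).symm.surjective
  have hcard : Nat.card P.normalizerMonoidHom.range = 4 := by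
    rw [← Subgroup.index_ker, Subgroup.normalizerMonoidHom_ker, ← Subgroup.relIndex, he]
  obtain ⟨r, hr⟩ := IsCyclic.exists_ofOrder_eq_natCard (α := P.normalizerMonoidHom.range)
  rw [hcard] at hr
  obtain ⟨r, n, rfl⟩ := r
  have hr' : orderOf (P.normalizerMonoidHom n) = 4 := by
    rw [← hr]
    exact (Subgroup.orderOf_mk _ _).symm
  have hdvd : 4 ∣ orderOf (n : G) := by
    rw [Subgroup.orderOf_coe, ← hr']
    exact orderOf_map_dvd _ n
  have hpos : 0 < orderOf (n : G) := orderOf_pos _
  refine ⟨(n : G) ^ (orderOf (n : G) / 4), ?_⟩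
  obtain ⟨k, hk⟩ := hdvd
  have hk0 : 0 < k := by
    rcases Nat.eq_zero_or_pos k with h0 | h0
    · rw [h0, mul_zero] at hk; omega
    · exact h0
  rw [orderOf_pow_of_dvd (by rw [hk, Nat.mul_div_cancel_left _ (by norm_num : 0 < 4)]; omega)
    (by rw [hk, Nat.mul_div_cancel_left _ (by norm_num : 0 < 4)]; exact Dvd.intro_left 4 rfl)]
  rw [hk, Nat.mul_div_cancel_left _ (by norm_num : 0 < 4), Nat.mul_div_cancel _ hk0]

theorem o83_n5460 {G : Type*} [Group G] [Finite G] [IsSimpleGroup G] : Nat.card G ≠ 5460 := by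
  intro h
  have hna : ¬ IsMulCommutative G := o83_noncomm h (by norm_num)
  have : Fact (Nat.Prime 13) := ⟨by norm_num⟩
  let P : Sylow 13 G := default
  obtain ⟨hP, d, hd, h1, h2, h3, -, hN⟩ :=
    o83_syl (G := G) hna 13 1 420 (h.trans (by norm_num)) (by norm_num) (by norm_num)
      (by norm_num) P
  rw [pow_one] at hP
  have hle : d ≤ 420 := Nat.le_of_dvd (by norm_num) h1
  have key1 : ∀ d ≤ 420, d ∣ 420 → d % 13 = 1 → d ≠ 1 → d = 14 ∨ d = 105 := by decide +kernel
  obtain ⟨c, e, hC, hNc, hrel, he12, he1, -⟩ := o83_nc (G := G) 13 P hP (by rw [h]; norm_num)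
  rw [hNc] at hN
  have he12' : e ∣ 12 := he12
  have he12le : e ≤ 12 := Nat.le_of_dvd (by norm_num) he12'
  rcases key1 d hle h1 h2 h3 with rfl | rfl
  · -- n_13 = 14
    have hce : c * e = 30 := by
      have h' : 182 * (c * e) = 182 * 30 := by linarith [hN]
      exact Nat.eq_of_mul_eq_mul_left (by norm_num) h'
    have hfac := o83_cent_factorial (G := G) hna 13 P hP 1 c (by rw [hd]) hC
    have hc1 : c = 1 := by
      have : c ∣ 1 := by simpa using hfac
      exact Nat.dvd_one.mp this
    subst hc1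
    interval_cases e <;> omega
  · -- n_13 = 105
    have hce : c * e = 4 := by
      have h' : 1365 * (c * e) = 1365 * 4 := by linarith [hN]
      exact Nat.eq_of_mul_eq_mul_left (by norm_num) h'
    have hcases : (e = 2 ∧ c = 2) ∨ (e = 4 ∧ c = 1) := by
      interval_cases e <;> omega
    rcases hcases with ⟨rfl, rfl⟩ | ⟨rfl, rfl⟩
    · -- e = 2, |C(P)| = 26
      have h2C : 2 ∣ Nat.card (Subgroup.centralizer ((P : Subgroup G) : Set G)) := by
        rw [hC]; norm_num
      have : Fact (Nat.Prime 2) := ⟨by norm_num⟩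
      obtain ⟨x, hx⟩ := exists_prime_orderOf_dvd_card'
        (G := ↥(Subgroup.centralizer ((P : Subgroup G) : Set G))) 2 h2C
      have hxu : orderOf (x : G) = 2 := by rw [Subgroup.orderOf_coe]; exact hx
      have hu1 : (x : G) ≠ 1 := by
        intro h1'
        rw [h1', orderOf_one] at hxu
        omega
      have huu : (x : G) * (x : G) = 1 := by
        rw [← pow_two, ← hxu]
        exact pow_orderOf_eq_one _
      obtain ⟨f, sg, th, s, hf2, hfd, hsg, hfm, hth2, hthd, hs, hthm, hrel', -, hinv⟩ :=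
        o83_b0_e2 (G := G) hna 13 (by norm_num) P hP 105 hrel hd
      obtain ⟨m, mt, hm13, hm4, hmabs, hmne, -⟩ := hinv (x : G) x.2 hu1 huu
      have hf210 : f ≤ 210 := Nat.le_of_dvd (by norm_num) hfd
      have hth210 : th ≤ 210 := Nat.le_of_dvd (by norm_num) hthd
      unfold Int.ModEq at hfm hthm hm13 hm4
      have keyf : ∀ f ≤ 210, f ∣ 2 * 105 → 2 ≤ f → (f % 13 = 1 ∨ f % 13 = 12) →
          f % 13 = 1 ∧ (f = 14 ∨ f = 105) := by decide +kernel
      have hfmod : f % 13 = 1 ∨ f % 13 = 12 := by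
        rcases hsg with rfl | rfl <;> omega
      obtain ⟨hf1, hfv⟩ := keyf f hf210 hfd hf2 hfmod
      have hsg1 : sg = 1 := by
        rcases hsg with rfl | rfl
        · rfl
        · omega
      subst hsg1
      have hth : (th : ℤ) = 1 + f ∨ (th : ℤ) = -(1 + f) := by
        rcases hs with rfl | rfl
        · left; linarith
        · right; linarith
      have hthv : th = 1 + f := by
        rcases hth with h' | h' <;> omega
      subst hthv
      have hf14 : f = 14 := by
        rcases hfv with rfl | rfl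
        · rfl
        · exfalso; revert hthd; decide
      subst hf14
      rw [abs_le] at hmabs
      push_cast at hm4 hmabs hmne
      omega
    · -- e = 4
      obtain ⟨g, hg⟩ := o83_n5460_exists_four (G := G) 13 (P : Subgroup G) hP hrel
      exact o83_n5460_no_four h g hg

end Cfsg.Agent.O83
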