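import Mathlib
import Cfsg.Agent.Helper2.SimpleSmall2
import Cfsg.Agent.O83.Basic

/-!
# S0983, order `5508 = 2^2 * 3^4 * 17` (helper7)

At `p = 17`: `n_17` divides `324` and is `1 mod 17`, so `n_17 ∈ {18, 324}`.  `18 = p + 1` would
give `2 |N(P)| = 612` dividing `272`; `324` gives `|N(P)| = 17`, coprime to `16` (Burnside).
-/

set_option autoImplicit false
set_option linter.style.haveILetI false

namespace Cfsg.Agent.O83

theorem o83_n5508 {G : Type*} [Group G] [Finite G] [IsSimpleGroup G] : Nat.card G ≠ 5508 := by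
  intro hG
  have hna := o83_noncomm hG (by norm_num)
  haveI : Fact (Nat.Prime 17) := ⟨by norm_num⟩
  obtain ⟨d, -, hdm, hd17, hd1, -, hcop, hsucc, -⟩ :=
    Cfsg.Agent.Helper2.SimpleSmall2.sylow_count3 (G := G) hna 17 1 324 (by rw [hG]; norm_num)
      (by norm_num) (by norm_num) (by norm_num)
  have hd : d = 18 ∨ d = 324 := by
    have hle : d ≤ 324 := Nat.le_of_dvd (by norm_num) hdm
    interval_cases d <;> simp_all
  rcases hd with rfl | rfl
  · have := hsucc rfl (by norm_num) (Or.inr rfl)
    norm_num at this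
  · have := hcop rfl
    norm_num at this

end Cfsg.Agent.O83
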