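import Mathlib
import Cfsg.Agent.O83.Basic
import Cfsg.Agent.O83.Block

/-!
# S0983, order `5600 = 2^5 * 5^2 * 7` (helper7)

At `p = 7`: `n_7 ∈ {8, 50, 400}`; `8` fails the index test.  For `50` (`|N| = 112`) and `400`
(`|N| = 14`) the index `e = |N : C|` divides `6`, is not `1`, and divides `|N| / 7`, so `e = 2`.
The degree equation of the principal `7`-block (`o83_b0_e2`): `f ∣ 2d`, `θ ∣ 2d`, `θ = f ± 1`,
`f ≡ ±1 (7)`, `1 + f² + 3 θ² ≤ 5600` has no solution.
-/

set_option autoImplicit false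
set_option linter.style.haveILetI false

namespace Cfsg.Agent.O83

/-- no solution of the `e = 2` degree system at `p = 7` with `2 d ∈ {100, 800}` -/
theorem o83_n5600_arith (D : ℕ) (hD : D = 100 ∨ D = 800) (f : ℕ) (sg : ℤ) (th : ℕ) (s : ℤ)
    (hf2 : 2 ≤ f) (hfd : f ∣ D) (hsg : sg = 1 ∨ sg = -1) (hfm : (f : ℤ) ≡ sg [ZMOD 7])
    (hth2 : 2 ≤ th) (hthd : th ∣ D) (hs : s = 1 ∨ s = -1)
    (hrel : s * th = 1 + sg * (f : ℤ)) (hsq : 1 + f ^ 2 + 3 * th ^ 2 ≤ 5600) : False := by
  have hf74 : f ≤ 74 := by nlinarith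
  unfold Int.ModEq at hfm
  rcases hsg with rfl | rfl
  · -- `θ = f + 1`
    have hth : th = f + 1 := by
      rcases hs with rfl | rfl <;> omega
    subst hth
    rcases hD with rfl | rfl <;> interval_cases f <;> omega
  · -- `θ = f - 1`
    have hth : th + 1 = f := by
      rcases hs with rfl | rfl <;> omega
    subst hth
    have hth73 : th ≤ 73 := by omega
    rcases hD with rfl | rfl <;> interval_cases th <;> omega

theorem o83_n5600_d (d : ℕ) (hdm : d ∣ 800) (hd7 : d % 7 = 1) (hd1 : d ≠ 1) :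
    d = 8 ∨ d = 50 ∨ d = 400 := by
  have hle : d ≤ 800 := Nat.le_of_dvd (by norm_num) hdm
  interval_cases d <;> omega

theorem o83_n5600 {G : Type*} [Group G] [Finite G] [IsSimpleGroup G] : Nat.card G ≠ 5600 := by
  intro hG
  have hna : ¬ IsMulCommutative G := o83_noncomm hG (by norm_num)
  haveI : Fact (Nat.Prime 7) := ⟨by norm_num⟩
  let P : Sylow 7 G := default
  obtain ⟨hP, d, hd, hdm, hd7, hd1, hfact, hN⟩ :=
    o83_syl hna 7 1 800 (by rw [hG]; norm_num) (by norm_num) (by norm_num) (by norm_num) P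
  rw [pow_one] at hP
  obtain ⟨c, e, hC, hNc, he, he6, he1, -⟩ := o83_nc 7 P hP (by rw [hG]; norm_num)
  rw [hNc] at hN
  have hdcases : d = 8 ∨ d = 50 ∨ d = 400 := o83_n5600_d d hdm hd7 hd1
  have he2 : e = 2 ∧ (d = 50 ∨ d = 400) := by
    have he6' : e ≤ 6 := Nat.le_of_dvd (by norm_num) he6
    rcases hdcases with rfl | rfl | rfl
    · exfalso
      norm_num at hfact
    · refine ⟨?_, Or.inl rfl⟩
      have h16 : c * e = 16 := by
        have : 7 * c * e * 50 = 7 * (c * e) * 50 := by ring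
        omega
      have hed : e ∣ 16 := Dvd.intro_left c h16
      interval_cases e <;> simp_all
    · refine ⟨?_, Or.inr rfl⟩
      have h2 : c * e = 2 := by
        have : 7 * c * e * 400 = 7 * (c * e) * 400 := by ring
        omega
      have hed : e ∣ 2 := Dvd.intro_left c h2
      interval_cases e <;> simp_all
  obtain ⟨rfl, hd'⟩ := he2
  obtain ⟨f, sg, th, s, hf2, hfd, hsg, hfm, hth2, hthd, hs, -, hrel, hsq, -⟩ :=
    o83_b0_e2 hna 7 (by norm_num) P hP d he hd
  rw [hG] at hsq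
  refine o83_n5600_arith (2 * d) ?_ f sg th s hf2 hfd hsg (by exact_mod_cast hfm) hth2 hthd hs hrel
    (by norm_num at hsq; exact hsq)
  rcases hd' with rfl | rfl
  · exact Or.inl rfl
  · exact Or.inr rfl

end Cfsg.Agent.O83
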