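import Mathlib
import Cfsg.Agent.Helper2.SimpleSmall2
import Cfsg.Agent.O83.Basic

/-!
# S0983, order `5824 = 2^6 * 7 * 13` (helper7)

At `p = 13`: `n_13` divides `448` and is `1 mod 13`, so `n_13 = 14 = p + 1`; then
`2 |N(P)| = 832` would divide `13 * 12`.
-/

set_option autoImplicit false
set_option linter.style.haveILetI false

namespace Cfsg.Agent.O83

theorem o83_n5824 {G : Type*} [Group G] [Finite G] [IsSimpleGroup G] : Nat.card G ≠ 5824 := by
  intro hG
  have hna := o83_noncomm hG (by norm_num)
  haveI : Fact (Nat.Prime 13) := ⟨by norm_num⟩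
  obtain ⟨d, -, hdm, hd13, hd1, -, -, hsucc, -⟩ :=
    Cfsg.Agent.Helper2.SimpleSmall2.sylow_count3 (G := G) hna 13 1 448 (by rw [hG]; norm_num)
      (by norm_num) (by norm_num) (by norm_num)
  have hd : d = 14 := by
    have hle : d ≤ 448 := Nat.le_of_dvd (by norm_num) hdm
    interval_cases d <;> simp_all
  subst hd
  have := hsucc rfl (by norm_num) (Or.inr rfl)
  norm_num at this

end Cfsg.Agent.O83
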