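import Mathlib
import Cfsg.Agent.O83.Basic
import Cfsg.Agent.O83.Block
import Cfsg.Agent.O83.Cent

/-!
# S0983, order `5880 = 2^3 * 3 * 5 * 7^2` (helper7)

At `p = 5`: `n_5 ∈ {6, 21, 56, 196, 1176}`.  `6`: index test.  With `|C(P)| = 5 c`,
`|N(P)| = 5 c e`, `e ∣ 4`, `e ≠ 1`:  `21 = 1 + 4 * 5` gives `c e = 56`, so `c ∈ {28, 14}`, but
`c ∣ 4!` (`o83_cent_factorial`);  `56` gives `c e = 21`, `1176` gives `c e = 1`, both force `e = 1`;
`196` gives `c e = 6`, `e = 2`, and the degree equation of the principal `5`-block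
(`o83_b0_e2`): `f, θ ∣ 392`, `θ = f ± 1`, `f ≡ ±1 (5)`, `1 + f² + 2 θ² ≤ 5880` has no solution.
-/

set_option autoImplicit false
set_option linter.style.haveILetI false

namespace Cfsg.Agent.O83

/-- no solution of the `e = 2` degree system at `p = 5` with `2 d = 392` -/
theorem o83_n5880_arith (f : ℕ) (sg : ℤ) (th : ℕ) (s : ℤ)
    (hf2 : 2 ≤ f) (hfd : f ∣ 392) (hsg : sg = 1 ∨ sg = -1) (hfm : (f : ℤ) ≡ sg [ZMOD 5])
    (hth2 : 2 ≤ th) (hthd : th ∣ 392) (hs : s = 1 ∨ s = -1)
    (hrel : s * th = 1 + sg * (f : ℤ)) (hsq : 1 + f ^ 2 + 2 * th ^ 2 ≤ 5880) : False := by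
  have hf76 : f ≤ 76 := by nlinarith
  unfold Int.ModEq at hfm
  rcases hsg with rfl | rfl
  · have hth : th = f + 1 := by
      rcases hs with rfl | rfl <;> omega
    subst hth
    interval_cases f <;> omega
  · have hth : th + 1 = f := by
      rcases hs with rfl | rfl <;> omega
    subst hth
    have hth75 : th ≤ 75 := by omega
    interval_cases th <;> omega

theorem o83_n5880_d (d : ℕ) (hdm : d ∣ 1176) (hd5 : d % 5 = 1) (hd1 : d ≠ 1) :
    d = 6 ∨ d = 21 ∨ d = 56 ∨ d = 196 ∨ d = 1176 := by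
  have hle : d ≤ 1176 := Nat.le_of_dvd (by norm_num) hdm
  interval_cases d <;> omega

theorem o83_n5880 {G : Type*} [Group G] [Finite G] [IsSimpleGroup G] : Nat.card G ≠ 5880 := by
  intro hG
  have hna : ¬ IsMulCommutative G := o83_noncomm hG (by norm_num)
  haveI : Fact (Nat.Prime 5) := ⟨by norm_num⟩
  let P : Sylow 5 G := default
  obtain ⟨hP, d, hd, hdm, hd5, hd1, hfact, hN⟩ :=
    o83_syl hna 5 1 1176 (by rw [hG]; norm_num) (by norm_num) (by norm_num) (by norm_num) P
  rw [pow_one] at hP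
  obtain ⟨c, e, hC, hNc, he, he4, he1, -⟩ := o83_nc 5 P hP (by rw [hG]; norm_num)
  rw [hNc] at hN
  have he4' : e ≤ 4 := Nat.le_of_dvd (by norm_num) he4
  rcases o83_n5880_d d hdm hd5 hd1 with rfl | rfl | rfl | rfl | rfl
  · norm_num at hfact
  · -- `d = 21`
    have h56 : c * e = 56 := by
      have : 5 * c * e * 21 = 5 * (c * e) * 21 := by ring
      omega
    have hck : c ∣ Nat.factorial 4 :=
      o83_cent_factorial hna 5 P hP 4 c (by rw [hd]) hC
    have hc24 : c ∣ 24 := by simpa [Nat.factorial] using hck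
    have hc : c ≤ 24 := Nat.le_of_dvd (by norm_num) hc24
    clear hfact
    interval_cases e <;> first
      | omega
      | (have hc14 : c = 14 := by omega
         subst hc14
         norm_num at hc24)
  · -- `d = 56`
    have h21 : c * e = 21 := by
      have : 5 * c * e * 56 = 5 * (c * e) * 56 := by ring
      omega
    have hed : e ∣ 21 := Dvd.intro_left c h21
    interval_cases e <;> omega
  · -- `d = 196`
    have h6 : c * e = 6 := by
      have : 5 * c * e * 196 = 5 * (c * e) * 196 := by ring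
      omega
    have hed : e ∣ 6 := Dvd.intro_left c h6
    have he2 : e = 2 := by
      interval_cases e <;> omega
    subst he2
    obtain ⟨f, sg, th, s, hf2, hfd, hsg, hfm, hth2, hthd, hs, -, hrel, hsq, -⟩ :=
      o83_b0_e2 hna 5 (by norm_num) P hP 196 he hd
    rw [hG] at hsq
    exact o83_n5880_arith f sg th s hf2 hfd hsg (by exact_mod_cast hfm) hth2 hthd hs hrel
      (by norm_num at hsq; exact hsq)
  · -- `d = 1176`
    have h1 : c * e = 1 := by
      have : 5 * c * e * 1176 = 5 * (c * e) * 1176 := by ring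
      omega
    have := Nat.eq_one_of_mul_eq_one_left h1
    exact he1 this

end Cfsg.Agent.O83
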