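import Mathlib
import Cfsg.Agent.O83.Basic
import Cfsg.Agent.O83.Block
import Cfsg.Agent.Helper2.SimpleSmall2

/-!
# S0983: no simple group of order 5940 = 2^2 * 3^3 * 5 * 11 (helper8)

`n_11 ∈ {12, 45, 540}`.  `12 = p + 1`: `2 |N(P)| = 990` does not divide `110` (S0990).
`540`: `|N(P)| = 11`, Burnside transfer.  `45`: `|N(P)| = 132`, `e = 2`, `|C(P)| = 66`; the principal
11-block has degrees `1, 10, 9 (x5)` (only solution of the degree system), and the value `m` of the
character of degree `10` at an involution of `C(P)` would satisfy `m = -1 (mod 11)`, `m = 10 (mod 4)`,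
`|m| ≤ 10`, `m ≠ 10`.
-/

set_option autoImplicit false

namespace Cfsg.Agent.O83

theorem o83_n5940 {G : Type*} [Group G] [Finite G] [IsSimpleGroup G] : Nat.card G ≠ 5940 := by
  intro h
  have hna : ¬ IsMulCommutative G := o83_noncomm h (by norm_num)
  haveI : Fact (Nat.Prime 11) := ⟨by norm_num⟩
  haveI : Fact (Nat.Prime 2) := ⟨Nat.prime_two⟩
  let P : Sylow 11 G := default
  obtain ⟨hP, d, hdS, hd540, hd11, hd1, -, hNd⟩ :=
    o83_syl hna 11 1 540 (by rw [h]; norm_num) (by norm_num) (by norm_num) (by norm_num) P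
  rw [pow_one] at hP hNd
  obtain ⟨c, e, hC, hN, hrel, he, he1, -⟩ := o83_nc 11 P hP (by rw [h]; norm_num)
  have he10 : e ∣ 10 := he
  have hele : e ≤ 10 := Nat.le_of_dvd (by norm_num) he10
  -- the three candidates for `n_11`
  have hd3 : d = 12 ∨ d = 45 ∨ d = 540 := by
    have hdle : d ≤ 540 := Nat.le_of_dvd (by norm_num) hd540
    obtain ⟨q, rfl⟩ : ∃ q, d = 11 * q + 1 := ⟨d / 11, by omega⟩
    have hq : q ≤ 49 := by omega
    interval_cases q <;> omega
  rcases hd3 with rfl | rfl | rfl
  · -- `d = 12 = p + 1`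
    have h2 := Cfsg.Agent.Helper2.SimpleSmall2.two_mul_card_normalizer_dvd hna (by norm_num) P hP
      (Or.inr hdS)
    have hN495 : Nat.card (Subgroup.normalizer ((P : Subgroup G) : Set G)) = 495 := by omega
    rw [hN495] at h2
    omega
  · -- `d = 45`
    rw [hN] at hNd
    have hc6 : c = 6 := by
      interval_cases e <;> omega
    subst hc6
    have he2 : e = 2 := by omega
    subst he2
    obtain ⟨f, sg, th, s, hf2, hf90, hsg, hfm, hth2, hth90, hs, hthm, heq, -, hinv⟩ :=
      o83_b0_e2 hna 11 (by norm_num) P hP 45 hrel hdS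
    have hfle : f ≤ 90 := Nat.le_of_dvd (by norm_num) hf90
    have hthle : th ≤ 90 := Nat.le_of_dvd (by norm_num) hth90
    unfold Int.ModEq at hfm hthm
    have hkey : f = 10 ∧ sg = -1 := by
      rcases hsg with rfl | rfl
      · exfalso
        have hf45 : f = 45 := by
          interval_cases f <;> omega
        subst hf45
        rcases hs with rfl | rfl
        · interval_cases th <;> omega
        · interval_cases th <;> omega
      · refine ⟨?_, rfl⟩
        interval_cases f <;> omega
    obtain ⟨rfl, rfl⟩ := hkey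
    obtain ⟨u, hu⟩ := exists_prime_orderOf_dvd_card'
      (G := (Subgroup.centralizer ((P : Subgroup G) : Set G))) 2 (by rw [hC]; norm_num)
    have huG : orderOf (u : G) = 2 := by rw [Subgroup.orderOf_coe]; exact hu
    have hu1 : (u : G) ≠ 1 := by
      intro h1
      rw [h1, orderOf_one] at huG
      omega
    have hu2 : (u : G) * (u : G) = 1 := by
      have := pow_orderOf_eq_one (u : G)
      rwa [huG, pow_two] at this
    obtain ⟨m, mt, hm11, hm4, hmabs, hmne, -⟩ := hinv (u : G) u.2 hu1 hu2
    unfold Int.ModEq at hm11 hm4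
    have := abs_le.1 hmabs
    omega
  · -- `d = 540`
    rw [hN] at hNd
    have h3 : 11 * c * e * 540 = (c * e) * 5940 := by ring
    have : c * e = 1 := by omega
    have : e = 1 := Nat.eq_one_of_mul_eq_one_left this
    exact he1 this
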