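import Mathlib
import Cfsg.Agent.O83.Basic
import Cfsg.Agent.Helper2.SimpleSmall2

/-!
# S0983: no simple group of order 6000 = 2^4 * 3 * 5^3 (helper8)

`n_5 ∈ {6, 16}`: `6` fails the index test, and `16 ≠ 1 (mod 25)` gives (S0985) two Sylow
5-subgroups with an intersection of index `5`, whose normalizer has index `j` with `j k = 48`,
`6000 ∣ j!` (so `j ≥ 15`, `k ≤ 3`) and at least `e > 1`, `e = 1 (mod 5)`, `e ∣ k` Sylow 5-subgroups.
-/

set_option autoImplicit false

namespace Cfsg.Agent.O83

theorem o83_n6000 {G : Type*} [Group G] [Finite G] [IsSimpleGroup G] : Nat.card G ≠ 6000 := by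
  intro h
  have hna : ¬ IsMulCommutative G := o83_noncomm h (by norm_num)
  haveI : Fact (Nat.Prime 5) := ⟨by norm_num⟩
  obtain ⟨d, -, hd48, hd5, hd1, hdf, -, -, hint, -, -⟩ :=
    Cfsg.Agent.Helper2.SimpleSmall2.sylow_count3 (G := G) hna 5 3 48 (by rw [h]; norm_num)
      (by norm_num) (by norm_num) (by norm_num)
  have hdle : d ≤ 48 := Nat.le_of_dvd (by norm_num) hd48
  have h14 : ¬ 6000 ∣ Nat.factorial 14 := by decide
  have hd16 : d = 16 := by
    by_contra hne
    have hd6 : d = 6 := by
      interval_cases d <;> omega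
    subst hd6
    exact h14 (Dvd.dvd.trans (by simpa using hdf) (Nat.factorial_dvd_factorial (by norm_num)))
  subst hd16
  obtain ⟨j, -, k, -, hjk, -, hjf, e, hek, hedk, he5, he1⟩ := hint (by norm_num) (by norm_num)
  have hj15 : 15 ≤ j := by
    by_contra hlt
    push Not at hlt
    exact h14 (Dvd.dvd.trans (by simpa using hjf) (Nat.factorial_dvd_factorial (by omega)))
  have hk3 : k ≤ 3 := by
    by_contra hlt
    push Not at hlt
    have : 15 * 4 ≤ j * k := Nat.mul_le_mul hj15 hlt
    omega
  omega
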