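import Mathlib
import Cfsg.Agent.Helper2.SimpleSmall2
import Cfsg.Agent.O83.Basic

/-!
# S0983, order 6120 = 2^3 * 3^2 * 5 * 17 (lead)

At `p = 17`: `n_17 ∈ {18, 120}`.  `18 = p + 1`: `2 |N(P)| = 680` does not divide `17 * 16` (S0990
clause of `sylow_count3`); `120`: `|N(P)| = 51` is prime to `16` (Burnside transfer clause).
-/

set_option autoImplicit false

namespace Cfsg.Agent.O83

open Cfsg Cfsg.Agent.Helper2

theorem o83_n6120 {G : Type*} [Group G] [Finite G] [IsSimpleGroup G] : Nat.card G ≠ 6120 := by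
  intro hG
  have : Fact (Nat.Prime 17) := ⟨by norm_num⟩
  have hna : ¬ IsMulCommutative G := o83_noncomm hG (by norm_num)
  obtain ⟨d, -, hdm, hd17, hd1, -, htr, hp1, -, -, -⟩ :=
    SimpleSmall2.sylow_count3 (G := G) hna 17 1 360 (by rw [hG]; norm_num) (by norm_num)
      (by norm_num) (by norm_num)
  obtain ⟨t, ht⟩ := hdm
  have ht20 : t ≤ 20 := by
    by_contra hcon
    have : 21 ≤ t := by omega
    have : 18 ≤ d := by omega
    nlinarith
  have hcases : d = 18 ∨ d = 120 := by
    interval_cases t <;> omega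
  rcases hcases with rfl | rfl
  · have := hp1 rfl (by norm_num) (Or.inr rfl)
    norm_num at this
  · apply htr rfl
    norm_num

end Cfsg.Agent.O83
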