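import Mathlib
import Cfsg.Agent.O83.Basic
import Cfsg.Agent.O83.Cent
import Cfsg.Agent.O83.Block

/-!
# S0983, order 6160 = 2^4 * 5 * 7 * 11 (lead)

At `p = 5`: `n_5 ∈ {11, 16, 56, 176, 616}`, `|N(P)| = 5 c e`, `e ∈ {2, 4}`.
* `11`: `c e = 112` but `c ∣ 2!` (G6);  `16`: `c e = 77` odd;  `176`: `c e = 7` odd;
* `56` (`e = 2, c = 11`) and `616` (`e = 2, c = 1`): the `B_0(5)` degree equation
  `s θ = 1 + σ f` with `f, θ ∣ 2 n_5` forces `{f, θ} = {7, 8}`, against the congruences mod 5.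
-/

set_option autoImplicit false

namespace Cfsg.Agent.O83

open Cfsg Cfsg.Agent.Helper2

/-- the arithmetic of the `B_0(5)` test with `e = 2` for `2 d ∈ {112, 1232}` -/
theorem o83_n6160_arith (D : ℕ) (hD : D = 112 ∨ D = 1232) (f : ℕ) (sg : ℤ) (th : ℕ) (s : ℤ)
    (hf2 : 2 ≤ f) (hfd : f ∣ D) (hsg : sg = 1 ∨ sg = -1) (hfm : (f : ℤ) ≡ sg [ZMOD ((5 : ℕ) : ℤ)])
    (ht2 : 2 ≤ th) (htd : th ∣ D) (hs : s = 1 ∨ s = -1)
    (htm : (th : ℤ) ≡ s * 2 [ZMOD ((5 : ℕ) : ℤ)])
    (hrel : s * th = 1 + sg * (f : ℤ)) (hsq : 1 + f ^ 2 + 2 * th ^ 2 ≤ 6160) : False := by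
  have hfm' := hfm.eq
  have htm' := htm.eq
  have hf78 : f ≤ 78 := by
    by_contra hcon
    have : 79 ≤ f := by omega
    nlinarith
  rcases hsg with rfl | rfl <;> rcases hs with rfl | rfl
  · have hth : th = f + 1 := by omega
    subst hth
    rcases hD with rfl | rfl <;> interval_cases f <;> omega
  · exfalso; omega
  · exfalso; omega
  · have hth : f = th + 1 := by omega
    subst hth
    have : th ≤ 77 := by omega
    rcases hD with rfl | rfl <;> interval_cases th <;> omega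

theorem o83_n6160 {G : Type*} [Group G] [Finite G] [IsSimpleGroup G] : Nat.card G ≠ 6160 := by
  intro hG
  have : Fact (Nat.Prime 5) := ⟨by norm_num⟩
  have hna : ¬ IsMulCommutative G := o83_noncomm hG (by norm_num)
  let P : Sylow 5 G := default
  obtain ⟨hP, d, hd, hdm, hd5, hd1, -, hN⟩ :=
    o83_syl hna 5 1 1232 (by rw [hG]; norm_num) (by norm_num) (by norm_num) (by norm_num) P
  rw [pow_one] at hP
  obtain ⟨c, e, hC, hNc, hrel, he4, he1, -⟩ := o83_nc 5 P hP (by rw [hG]; norm_num)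
  have he : e = 2 ∨ e = 4 := by
    have h4 : e ∣ 4 := he4
    have hle : e ≤ 4 := Nat.le_of_dvd (by norm_num) h4
    interval_cases e <;> omega
  rw [hNc] at hN
  obtain ⟨t, ht⟩ := hdm
  have ht205 : t ≤ 205 := by
    by_contra hcon
    have : 206 ≤ t := by omega
    have : 6 ≤ d := by omega
    nlinarith
  have hcases : d = 11 ∨ d = 16 ∨ d = 56 ∨ d = 176 ∨ d = 616 := by
    interval_cases t <;> omega
  have hb0 : ∀ d' : ℕ, d = d' → e = 2 → (2 * d' = 112 ∨ 2 * d' = 1232) → False := by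
    intro d' hdd he2 hD
    subst hdd
    rw [he2] at hrel
    obtain ⟨f, sg, th, s, hf2, hfd, hsg, hfm, ht2, htd, hs, htm, hr, hsq, -⟩ :=
      o83_b0_e2 hna 5 (by norm_num) P hP d hrel hd
    rw [hG] at hsq
    have hsq' : 1 + f ^ 2 + 2 * th ^ 2 ≤ 6160 := by
      have h2 : (5 - 1) / 2 = 2 := by norm_num
      rw [h2] at hsq
      exact hsq
    exact o83_n6160_arith (2 * d) hD f sg th s hf2 hfd hsg hfm ht2 htd hs htm hr hsq'
  rcases hcases with rfl | rfl | rfl | rfl | rfl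
  · -- d = 11 : c * e = 112, c ∣ 2!
    have hc := o83_cent_factorial hna 5 P hP 2 c (by rw [hd]) hC
    have hc2 : c ≤ 2 := Nat.le_of_dvd (by norm_num) (by simpa using hc)
    rcases he with rfl | rfl <;> omega
  · -- d = 16 : c * e = 77
    rcases he with rfl | rfl <;> omega
  · -- d = 56 : e = 2
    have he2 : e = 2 := by
      rcases he with rfl | rfl
      · rfl
      · omega
    exact hb0 56 rfl he2 (Or.inl rfl)
  · -- d = 176 : c * e = 7
    rcases he with rfl | rfl <;> omega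
  · -- d = 616 : e = 2
    have he2 : e = 2 := by
      rcases he with rfl | rfl
      · rfl
      · omega
    exact hb0 616 rfl he2 (Or.inr rfl)

end Cfsg.Agent.O83
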