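import Mathlib

/-!
# S0983: the smooth list (helper2)

An integer `3640 < n ≤ 6232` either has a prime divisor `p` with `n < p ^ 3`, or is one of the `150`
integers of `o83_list` (all of whose prime divisors `p` satisfy `p ^ 3 ≤ n`; these are `17`-smooth).
The check is one kernel `decide`; the prime witness is `17` or the least prime factor of the cofactor
`o83_cof n` (what is left of `n` after dividing out `2, 3, 5, 7, 11, 13, 17`), so no primality of a
large number has to be verified.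
-/

set_option autoImplicit false

namespace Cfsg.Agent.O83

/-- divide out `q` at most `fuel` times -/
def o83_strip (q : ℕ) : ℕ → ℕ → ℕ
  | 0, n => n
  | fuel + 1, n => if n % q = 0 then o83_strip q fuel (n / q) else n

/-- the cofactor of `n` prime to `2 · 3 · 5 · 7 · 11 · 13 · 17` (for `n < 2 ^ 14`) -/
def o83_cof (n : ℕ) : ℕ :=
  o83_strip 17 4 (o83_strip 13 4 (o83_strip 11 4 (o83_strip 7 5 (o83_strip 5 6
    (o83_strip 3 8 (o83_strip 2 13 n))))))

/-- the `150` integers in `(3640, 6232]` all of whose prime divisors `p` satisfy `p ^ 3 ≤ n` -/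
def o83_list : List ℕ :=
  [3645, 3675, 3696, 3718, 3744, 3750, 3773, 3780, 3822, 3840, 3850, 3861, 3872, 3888, 3900,
    3920, 3960, 3969, 3993, 4000, 4004, 4032, 4050, 4056, 4095, 4096, 4116, 4125, 4158, 4160,
    4200, 4212, 4224, 4225, 4235, 4290, 4312, 4320, 4356, 4368, 4374, 4375, 4394, 4400, 4410,
    4455, 4459, 4480, 4500, 4536, 4550, 4563, 4576, 4608, 4620, 4680, 4704, 4719, 4725, 4732,
    4752, 4800, 4802, 4840, 4851, 4860, 4875, 4900, 4913, 4914, 4928, 4950, 4992, 4998, 5000,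
    5005, 5040, 5049, 5070, 5082, 5096, 5100, 5103, 5120, 5145, 5148, 5184, 5200, 5202, 5236,
    5250, 5265, 5280, 5292, 5304, 5324, 5346, 5355, 5376, 5390, 5400, 5408, 5440, 5445, 5460,
    5488, 5500, 5508, 5525, 5544, 5577, 5600, 5610, 5616, 5625, 5632, 5670, 5712, 5720, 5733,
    5746, 5760, 5775, 5780, 5808, 5824, 5831, 5832, 5850, 5880, 5915, 5929, 5940, 5950, 5967,
    5984, 6000, 6006, 6048, 6050, 6069, 6075, 6084, 6120, 6125, 6144, 6160, 6171, 6174, 6188]

/-- `c` divides `n`, is not `1` and is prime to `2 · 3 · 5 · 7 · 11 · 13 · 17` -/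
def o83_okc (n c : ℕ) : Bool :=
  n % c == 0 && c != 1 && c % 2 != 0 && c % 3 != 0 && c % 5 != 0 && c % 7 != 0 && c % 11 != 0 &&
    c % 13 != 0 && c % 17 != 0

def o83_chk (n : ℕ) : Bool :=
  o83_okc n (o83_cof n) || (n % 17 == 0 && n < 4913) || o83_list.contains n

theorem o83_smooth_check : ∀ k < 2592, o83_chk (3641 + k) = true := by
  decide +kernel

/-- **the smooth list** -/
theorem o83_smooth (n : ℕ) (h1 : 3640 < n) (h2 : n ≤ 6232) :
    n ∈ o83_list ∨ ∃ p : ℕ, p.Prime ∧ p ∣ n ∧ n < p ^ 3 := by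
  obtain ⟨k, rfl⟩ : ∃ k, n = 3641 + k := ⟨n - 3641, by omega⟩
  have hchk := o83_smooth_check k (by omega)
  unfold o83_chk at hchk
  rw [Bool.or_eq_true, Bool.or_eq_true] at hchk
  rcases hchk with (hok | h17) | hmem
  · right
    set c := o83_cof (3641 + k) with hcdef
    unfold o83_okc at hok
    simp only [Bool.and_eq_true, beq_iff_eq, bne_iff_ne, ne_eq] at hok
    obtain ⟨⟨⟨⟨⟨⟨⟨⟨hc, hc1⟩, c2⟩, c3⟩, c5⟩, c7⟩, c11⟩, c13⟩, c17⟩ := hok
    have hcdvd : c ∣ 3641 + k := Nat.dvd_of_mod_eq_zero hc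
    have hp : (Nat.minFac c).Prime := Nat.minFac_prime hc1
    have hpc : Nat.minFac c ∣ c := Nat.minFac_dvd c
    refine ⟨Nat.minFac c, hp, hpc.trans hcdvd, ?_⟩
    have h19 : 19 ≤ Nat.minFac c := by
      by_contra hlt
      have hle : Nat.minFac c ≤ 18 := by omega
      have h2le := hp.two_le
      generalize Nat.minFac c = q at hp hpc hle h2le
      have hmod := Nat.mod_eq_zero_of_dvd hpc
      interval_cases q <;> omega
    have : 19 ^ 3 ≤ Nat.minFac c ^ 3 := Nat.pow_le_pow_left h19 3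
    omega
  · right
    rw [Bool.and_eq_true, beq_iff_eq, decide_eq_true_eq] at h17
    exact ⟨17, by norm_num, Nat.dvd_of_mod_eq_zero h17.1, by norm_num; omega⟩
  · left
    exact List.contains_iff_mem.mp hmem

end Cfsg.Agent.O83
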