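import Mathlib
import Cfsg.Agent.O83.Basic
import Cfsg.Agent.Helper2.SimpleSmall2
import Cfsg.Agent.S0499

/-!
# S0983: the routine orders, part A (generated; helper2)
prime powers and orders `p ^ a * q ^ b` (Burnside, `S0144`)
-/

set_option autoImplicit false
set_option maxRecDepth 8192
set_option linter.style.haveILetI false

namespace Cfsg.Agent.O83

open Cfsg Cfsg.Agent.Helper2

theorem o83_n3645 {G : Type*} [Group G] [Finite G] [IsSimpleGroup G] : Nat.card G ≠ 3645 := by
  intro h
  have hna : ¬ IsMulCommutative G := o83_noncomm h (by norm_num)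
  exact SimpleSmall2.false_of_two_primes hna 3 5 6 1 (by norm_num) (by norm_num) (h.trans (by norm_num))

theorem o83_n3773 {G : Type*} [Group G] [Finite G] [IsSimpleGroup G] : Nat.card G ≠ 3773 := by
  intro h
  have hna : ¬ IsMulCommutative G := o83_noncomm h (by norm_num)
  exact SimpleSmall2.false_of_two_primes hna 7 11 3 1 (by norm_num) (by norm_num) (h.trans (by norm_num))

theorem o83_n3872 {G : Type*} [Group G] [Finite G] [IsSimpleGroup G] : Nat.card G ≠ 3872 := by
  intro h
  have hna : ¬ IsMulCommutative G := o83_noncomm h (by norm_num)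
  exact SimpleSmall2.false_of_two_primes hna 2 11 5 2 (by norm_num) (by norm_num) (h.trans (by norm_num))

theorem o83_n3888 {G : Type*} [Group G] [Finite G] [IsSimpleGroup G] : Nat.card G ≠ 3888 := by
  intro h
  have hna : ¬ IsMulCommutative G := o83_noncomm h (by norm_num)
  exact SimpleSmall2.false_of_two_primes hna 2 3 4 5 (by norm_num) (by norm_num) (h.trans (by norm_num))

theorem o83_n3969 {G : Type*} [Group G] [Finite G] [IsSimpleGroup G] : Nat.card G ≠ 3969 := by
  intro h
  have hna : ¬ IsMulCommutative G := o83_noncomm h (by norm_num)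
  exact SimpleSmall2.false_of_two_primes hna 3 7 4 2 (by norm_num) (by norm_num) (h.trans (by norm_num))

theorem o83_n3993 {G : Type*} [Group G] [Finite G] [IsSimpleGroup G] : Nat.card G ≠ 3993 := by
  intro h
  have hna : ¬ IsMulCommutative G := o83_noncomm h (by norm_num)
  exact SimpleSmall2.false_of_two_primes hna 3 11 1 3 (by norm_num) (by norm_num) (h.trans (by norm_num))

theorem o83_n4000 {G : Type*} [Group G] [Finite G] [IsSimpleGroup G] : Nat.card G ≠ 4000 := by
  intro h
  have hna : ¬ IsMulCommutative G := o83_noncomm h (by norm_num)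
  exact SimpleSmall2.false_of_two_primes hna 2 5 5 3 (by norm_num) (by norm_num) (h.trans (by norm_num))

theorem o83_n4096 {G : Type*} [Group G] [Finite G] [IsSimpleGroup G] : Nat.card G ≠ 4096 := by
  intro h
  have hna : ¬ IsMulCommutative G := o83_noncomm h (by norm_num)
  exact SimpleSmall2.false_of_prime_pow hna 2 12 (by norm_num) (h.trans (by norm_num))

theorem o83_n4225 {G : Type*} [Group G] [Finite G] [IsSimpleGroup G] : Nat.card G ≠ 4225 := by
  intro h
  have hna : ¬ IsMulCommutative G := o83_noncomm h (by norm_num)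
  exact SimpleSmall2.false_of_two_primes hna 5 13 2 2 (by norm_num) (by norm_num) (h.trans (by norm_num))

theorem o83_n4374 {G : Type*} [Group G] [Finite G] [IsSimpleGroup G] : Nat.card G ≠ 4374 := by
  intro h
  have hna : ¬ IsMulCommutative G := o83_noncomm h (by norm_num)
  exact SimpleSmall2.false_of_two_primes hna 2 3 1 7 (by norm_num) (by norm_num) (h.trans (by norm_num))

theorem o83_n4375 {G : Type*} [Group G] [Finite G] [IsSimpleGroup G] : Nat.card G ≠ 4375 := by
  intro h
  have hna : ¬ IsMulCommutative G := o83_noncomm h (by norm_num)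
  exact SimpleSmall2.false_of_two_primes hna 5 7 4 1 (by norm_num) (by norm_num) (h.trans (by norm_num))

theorem o83_n4394 {G : Type*} [Group G] [Finite G] [IsSimpleGroup G] : Nat.card G ≠ 4394 := by
  intro h
  have hna : ¬ IsMulCommutative G := o83_noncomm h (by norm_num)
  exact SimpleSmall2.false_of_two_primes hna 2 13 1 3 (by norm_num) (by norm_num) (h.trans (by norm_num))

theorem o83_n4459 {G : Type*} [Group G] [Finite G] [IsSimpleGroup G] : Nat.card G ≠ 4459 := by
  intro h
  have hna : ¬ IsMulCommutative G := o83_noncomm h (by norm_num)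
  exact SimpleSmall2.false_of_two_primes hna 7 13 3 1 (by norm_num) (by norm_num) (h.trans (by norm_num))

theorem o83_n4563 {G : Type*} [Group G] [Finite G] [IsSimpleGroup G] : Nat.card G ≠ 4563 := by
  intro h
  have hna : ¬ IsMulCommutative G := o83_noncomm h (by norm_num)
  exact SimpleSmall2.false_of_two_primes hna 3 13 3 2 (by norm_num) (by norm_num) (h.trans (by norm_num))

theorem o83_n4608 {G : Type*} [Group G] [Finite G] [IsSimpleGroup G] : Nat.card G ≠ 4608 := by
  intro h
  have hna : ¬ IsMulCommutative G := o83_noncomm h (by norm_num)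
  exact SimpleSmall2.false_of_two_primes hna 2 3 9 2 (by norm_num) (by norm_num) (h.trans (by norm_num))

theorem o83_n4802 {G : Type*} [Group G] [Finite G] [IsSimpleGroup G] : Nat.card G ≠ 4802 := by
  intro h
  have hna : ¬ IsMulCommutative G := o83_noncomm h (by norm_num)
  exact SimpleSmall2.false_of_two_primes hna 2 7 1 4 (by norm_num) (by norm_num) (h.trans (by norm_num))

theorem o83_n4913 {G : Type*} [Group G] [Finite G] [IsSimpleGroup G] : Nat.card G ≠ 4913 := by
  intro h
  have hna : ¬ IsMulCommutative G := o83_noncomm h (by norm_num)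
  exact SimpleSmall2.false_of_prime_pow hna 17 3 (by norm_num) (h.trans (by norm_num))

theorem o83_n5000 {G : Type*} [Group G] [Finite G] [IsSimpleGroup G] : Nat.card G ≠ 5000 := by
  intro h
  have hna : ¬ IsMulCommutative G := o83_noncomm h (by norm_num)
  exact SimpleSmall2.false_of_two_primes hna 2 5 3 4 (by norm_num) (by norm_num) (h.trans (by norm_num))

theorem o83_n5103 {G : Type*} [Group G] [Finite G] [IsSimpleGroup G] : Nat.card G ≠ 5103 := by
  intro h
  have hna : ¬ IsMulCommutative G := o83_noncomm h (by norm_num)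
  exact SimpleSmall2.false_of_two_primes hna 3 7 6 1 (by norm_num) (by norm_num) (h.trans (by norm_num))

theorem o83_n5120 {G : Type*} [Group G] [Finite G] [IsSimpleGroup G] : Nat.card G ≠ 5120 := by
  intro h
  have hna : ¬ IsMulCommutative G := o83_noncomm h (by norm_num)
  exact SimpleSmall2.false_of_two_primes hna 2 5 10 1 (by norm_num) (by norm_num) (h.trans (by norm_num))

theorem o83_n5184 {G : Type*} [Group G] [Finite G] [IsSimpleGroup G] : Nat.card G ≠ 5184 := by
  intro h
  have hna : ¬ IsMulCommutative G := o83_noncomm h (by norm_num)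
  exact SimpleSmall2.false_of_two_primes hna 2 3 6 4 (by norm_num) (by norm_num) (h.trans (by norm_num))

theorem o83_n5324 {G : Type*} [Group G] [Finite G] [IsSimpleGroup G] : Nat.card G ≠ 5324 := by
  intro h
  have hna : ¬ IsMulCommutative G := o83_noncomm h (by norm_num)
  exact SimpleSmall2.false_of_two_primes hna 2 11 2 3 (by norm_num) (by norm_num) (h.trans (by norm_num))

theorem o83_n5408 {G : Type*} [Group G] [Finite G] [IsSimpleGroup G] : Nat.card G ≠ 5408 := by
  intro h
  have hna : ¬ IsMulCommutative G := o83_noncomm h (by norm_num)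
  exact SimpleSmall2.false_of_two_primes hna 2 13 5 2 (by norm_num) (by norm_num) (h.trans (by norm_num))

theorem o83_n5488 {G : Type*} [Group G] [Finite G] [IsSimpleGroup G] : Nat.card G ≠ 5488 := by
  intro h
  have hna : ¬ IsMulCommutative G := o83_noncomm h (by norm_num)
  exact SimpleSmall2.false_of_two_primes hna 2 7 4 3 (by norm_num) (by norm_num) (h.trans (by norm_num))

theorem o83_n5625 {G : Type*} [Group G] [Finite G] [IsSimpleGroup G] : Nat.card G ≠ 5625 := by
  intro h
  have hna : ¬ IsMulCommutative G := o83_noncomm h (by norm_num)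
  exact SimpleSmall2.false_of_two_primes hna 3 5 2 4 (by norm_num) (by norm_num) (h.trans (by norm_num))

theorem o83_n5632 {G : Type*} [Group G] [Finite G] [IsSimpleGroup G] : Nat.card G ≠ 5632 := by
  intro h
  have hna : ¬ IsMulCommutative G := o83_noncomm h (by norm_num)
  exact SimpleSmall2.false_of_two_primes hna 2 11 9 1 (by norm_num) (by norm_num) (h.trans (by norm_num))

theorem o83_n5831 {G : Type*} [Group G] [Finite G] [IsSimpleGroup G] : Nat.card G ≠ 5831 := by
  intro h
  have hna : ¬ IsMulCommutative G := o83_noncomm h (by norm_num)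
  exact SimpleSmall2.false_of_two_primes hna 7 17 3 1 (by norm_num) (by norm_num) (h.trans (by norm_num))

theorem o83_n5832 {G : Type*} [Group G] [Finite G] [IsSimpleGroup G] : Nat.card G ≠ 5832 := by
  intro h
  have hna : ¬ IsMulCommutative G := o83_noncomm h (by norm_num)
  exact SimpleSmall2.false_of_two_primes hna 2 3 3 6 (by norm_num) (by norm_num) (h.trans (by norm_num))

theorem o83_n5929 {G : Type*} [Group G] [Finite G] [IsSimpleGroup G] : Nat.card G ≠ 5929 := by
  intro h
  have hna : ¬ IsMulCommutative G := o83_noncomm h (by norm_num)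
  exact SimpleSmall2.false_of_two_primes hna 7 11 2 2 (by norm_num) (by norm_num) (h.trans (by norm_num))

theorem o83_n6075 {G : Type*} [Group G] [Finite G] [IsSimpleGroup G] : Nat.card G ≠ 6075 := by
  intro h
  have hna : ¬ IsMulCommutative G := o83_noncomm h (by norm_num)
  exact SimpleSmall2.false_of_two_primes hna 3 5 5 2 (by norm_num) (by norm_num) (h.trans (by norm_num))

theorem o83_n6125 {G : Type*} [Group G] [Finite G] [IsSimpleGroup G] : Nat.card G ≠ 6125 := by
  intro h
  have hna : ¬ IsMulCommutative G := o83_noncomm h (by norm_num)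
  exact SimpleSmall2.false_of_two_primes hna 5 7 3 2 (by norm_num) (by norm_num) (h.trans (by norm_num))

theorem o83_n6144 {G : Type*} [Group G] [Finite G] [IsSimpleGroup G] : Nat.card G ≠ 6144 := by
  intro h
  have hna : ¬ IsMulCommutative G := o83_noncomm h (by norm_num)
  exact SimpleSmall2.false_of_two_primes hna 2 3 11 1 (by norm_num) (by norm_num) (h.trans (by norm_num))

end Cfsg.Agent.O83
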