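import Mathlib
import Cfsg.Agent.O83.Basic
import Cfsg.Agent.Helper2.SimpleSmall2
import Cfsg.Agent.S0499

/-!
# S0983: the routine orders, part B (generated; helper2)
orders with a forced normal Sylow subgroup
-/

set_option autoImplicit false
set_option maxRecDepth 8192
set_option linter.style.haveILetI false

namespace Cfsg.Agent.O83

open Cfsg Cfsg.Agent.Helper2

theorem o83_n3718 {G : Type*} [Group G] [Finite G] [IsSimpleGroup G] : Nat.card G ≠ 3718 := by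
  intro h
  have hna : ¬ IsMulCommutative G := o83_noncomm h (by norm_num)
  haveI : Fact (Nat.Prime 11) := ⟨by norm_num⟩
  obtain ⟨-, d, -, h1, h2, h3, -, -⟩ := o83_syl hna 11 1 338 (h.trans (by norm_num)) (by norm_num) (by norm_num) (by norm_num) (default : Sylow 11 G)
  have hle : d ≤ 338 := Nat.le_of_dvd (by norm_num) h1
  have key : ∀ d ≤ 338, ¬ (d ∣ 338 ∧ d % 11 = 1 ∧ d ≠ 1) := by decide +kernel
  exact key d hle ⟨h1, h2, h3⟩

theorem o83_n3850 {G : Type*} [Group G] [Finite G] [IsSimpleGroup G] : Nat.card G ≠ 3850 := by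
  intro h
  have hna : ¬ IsMulCommutative G := o83_noncomm h (by norm_num)
  haveI : Fact (Nat.Prime 11) := ⟨by norm_num⟩
  obtain ⟨-, d, -, h1, h2, h3, -, -⟩ := o83_syl hna 11 1 350 (h.trans (by norm_num)) (by norm_num) (by norm_num) (by norm_num) (default : Sylow 11 G)
  have hle : d ≤ 350 := Nat.le_of_dvd (by norm_num) h1
  have key : ∀ d ≤ 350, ¬ (d ∣ 350 ∧ d % 11 = 1 ∧ d ≠ 1) := by decide +kernel
  exact key d hle ⟨h1, h2, h3⟩

theorem o83_n3861 {G : Type*} [Group G] [Finite G] [IsSimpleGroup G] : Nat.card G ≠ 3861 := by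
  intro h
  have hna : ¬ IsMulCommutative G := o83_noncomm h (by norm_num)
  haveI : Fact (Nat.Prime 11) := ⟨by norm_num⟩
  obtain ⟨-, d, -, h1, h2, h3, -, -⟩ := o83_syl hna 11 1 351 (h.trans (by norm_num)) (by norm_num) (by norm_num) (by norm_num) (default : Sylow 11 G)
  have hle : d ≤ 351 := Nat.le_of_dvd (by norm_num) h1
  have key : ∀ d ≤ 351, ¬ (d ∣ 351 ∧ d % 11 = 1 ∧ d ≠ 1) := by decide +kernel
  exact key d hle ⟨h1, h2, h3⟩

theorem o83_n4056 {G : Type*} [Group G] [Finite G] [IsSimpleGroup G] : Nat.card G ≠ 4056 := by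
  intro h
  have hna : ¬ IsMulCommutative G := o83_noncomm h (by norm_num)
  haveI : Fact (Nat.Prime 13) := ⟨by norm_num⟩
  obtain ⟨-, d, -, h1, h2, h3, -, -⟩ := o83_syl hna 13 2 24 (h.trans (by norm_num)) (by norm_num) (by norm_num) (by norm_num) (default : Sylow 13 G)
  have hle : d ≤ 24 := Nat.le_of_dvd (by norm_num) h1
  have key : ∀ d ≤ 24, ¬ (d ∣ 24 ∧ d % 13 = 1 ∧ d ≠ 1) := by decide +kernel
  exact key d hle ⟨h1, h2, h3⟩

theorem o83_n4116 {G : Type*} [Group G] [Finite G] [IsSimpleGroup G] : Nat.card G ≠ 4116 := by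
  intro h
  have hna : ¬ IsMulCommutative G := o83_noncomm h (by norm_num)
  haveI : Fact (Nat.Prime 7) := ⟨by norm_num⟩
  obtain ⟨-, d, -, h1, h2, h3, -, -⟩ := o83_syl hna 7 3 12 (h.trans (by norm_num)) (by norm_num) (by norm_num) (by norm_num) (default : Sylow 7 G)
  have hle : d ≤ 12 := Nat.le_of_dvd (by norm_num) h1
  have key : ∀ d ≤ 12, ¬ (d ∣ 12 ∧ d % 7 = 1 ∧ d ≠ 1) := by decide +kernel
  exact key d hle ⟨h1, h2, h3⟩

theorem o83_n4158 {G : Type*} [Group G] [Finite G] [IsSimpleGroup G] : Nat.card G ≠ 4158 := by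
  intro h
  have hna : ¬ IsMulCommutative G := o83_noncomm h (by norm_num)
  haveI : Fact (Nat.Prime 11) := ⟨by norm_num⟩
  obtain ⟨-, d, -, h1, h2, h3, -, -⟩ := o83_syl hna 11 1 378 (h.trans (by norm_num)) (by norm_num) (by norm_num) (by norm_num) (default : Sylow 11 G)
  have hle : d ≤ 378 := Nat.le_of_dvd (by norm_num) h1
  have key : ∀ d ≤ 378, ¬ (d ∣ 378 ∧ d % 11 = 1 ∧ d ≠ 1) := by decide +kernel
  exact key d hle ⟨h1, h2, h3⟩

theorem o83_n4235 {G : Type*} [Group G] [Finite G] [IsSimpleGroup G] : Nat.card G ≠ 4235 := by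
  intro h
  have hna : ¬ IsMulCommutative G := o83_noncomm h (by norm_num)
  haveI : Fact (Nat.Prime 7) := ⟨by norm_num⟩
  obtain ⟨-, d, -, h1, h2, h3, -, -⟩ := o83_syl hna 7 1 605 (h.trans (by norm_num)) (by norm_num) (by norm_num) (by norm_num) (default : Sylow 7 G)
  have hle : d ≤ 605 := Nat.le_of_dvd (by norm_num) h1
  have key : ∀ d ≤ 605, ¬ (d ∣ 605 ∧ d % 7 = 1 ∧ d ≠ 1) := by decide +kernel
  exact key d hle ⟨h1, h2, h3⟩

theorem o83_n4576 {G : Type*} [Group G] [Finite G] [IsSimpleGroup G] : Nat.card G ≠ 4576 := by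
  intro h
  have hna : ¬ IsMulCommutative G := o83_noncomm h (by norm_num)
  haveI : Fact (Nat.Prime 11) := ⟨by norm_num⟩
  obtain ⟨-, d, -, h1, h2, h3, -, -⟩ := o83_syl hna 11 1 416 (h.trans (by norm_num)) (by norm_num) (by norm_num) (by norm_num) (default : Sylow 11 G)
  have hle : d ≤ 416 := Nat.le_of_dvd (by norm_num) h1
  have key : ∀ d ≤ 416, ¬ (d ∣ 416 ∧ d % 11 = 1 ∧ d ≠ 1) := by decide +kernel
  exact key d hle ⟨h1, h2, h3⟩

theorem o83_n4719 {G : Type*} [Group G] [Finite G] [IsSimpleGroup G] : Nat.card G ≠ 4719 := by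
  intro h
  have hna : ¬ IsMulCommutative G := o83_noncomm h (by norm_num)
  haveI : Fact (Nat.Prime 11) := ⟨by norm_num⟩
  obtain ⟨-, d, -, h1, h2, h3, -, -⟩ := o83_syl hna 11 2 39 (h.trans (by norm_num)) (by norm_num) (by norm_num) (by norm_num) (default : Sylow 11 G)
  have hle : d ≤ 39 := Nat.le_of_dvd (by norm_num) h1
  have key : ∀ d ≤ 39, ¬ (d ∣ 39 ∧ d % 11 = 1 ∧ d ≠ 1) := by decide +kernel
  exact key d hle ⟨h1, h2, h3⟩

theorem o83_n4840 {G : Type*} [Group G] [Finite G] [IsSimpleGroup G] : Nat.card G ≠ 4840 := by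
  intro h
  have hna : ¬ IsMulCommutative G := o83_noncomm h (by norm_num)
  haveI : Fact (Nat.Prime 11) := ⟨by norm_num⟩
  obtain ⟨-, d, -, h1, h2, h3, -, -⟩ := o83_syl hna 11 2 40 (h.trans (by norm_num)) (by norm_num) (by norm_num) (by norm_num) (default : Sylow 11 G)
  have hle : d ≤ 40 := Nat.le_of_dvd (by norm_num) h1
  have key : ∀ d ≤ 40, ¬ (d ∣ 40 ∧ d % 11 = 1 ∧ d ≠ 1) := by decide +kernel
  exact key d hle ⟨h1, h2, h3⟩

theorem o83_n4875 {G : Type*} [Group G] [Finite G] [IsSimpleGroup G] : Nat.card G ≠ 4875 := by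
  intro h
  have hna : ¬ IsMulCommutative G := o83_noncomm h (by norm_num)
  haveI : Fact (Nat.Prime 5) := ⟨by norm_num⟩
  obtain ⟨-, d, -, h1, h2, h3, -, -⟩ := o83_syl hna 5 3 39 (h.trans (by norm_num)) (by norm_num) (by norm_num) (by norm_num) (default : Sylow 5 G)
  have hle : d ≤ 39 := Nat.le_of_dvd (by norm_num) h1
  have key : ∀ d ≤ 39, ¬ (d ∣ 39 ∧ d % 5 = 1 ∧ d ≠ 1) := by decide +kernel
  exact key d hle ⟨h1, h2, h3⟩

theorem o83_n4992 {G : Type*} [Group G] [Finite G] [IsSimpleGroup G] : Nat.card G ≠ 4992 := by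
  intro h
  have hna : ¬ IsMulCommutative G := o83_noncomm h (by norm_num)
  haveI : Fact (Nat.Prime 13) := ⟨by norm_num⟩
  obtain ⟨-, d, -, h1, h2, h3, -, -⟩ := o83_syl hna 13 1 384 (h.trans (by norm_num)) (by norm_num) (by norm_num) (by norm_num) (default : Sylow 13 G)
  have hle : d ≤ 384 := Nat.le_of_dvd (by norm_num) h1
  have key : ∀ d ≤ 384, ¬ (d ∣ 384 ∧ d % 13 = 1 ∧ d ≠ 1) := by decide +kernel
  exact key d hle ⟨h1, h2, h3⟩

theorem o83_n4998 {G : Type*} [Group G] [Finite G] [IsSimpleGroup G] : Nat.card G ≠ 4998 := by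
  intro h
  have hna : ¬ IsMulCommutative G := o83_noncomm h (by norm_num)
  haveI : Fact (Nat.Prime 7) := ⟨by norm_num⟩
  obtain ⟨-, d, -, h1, h2, h3, -, -⟩ := o83_syl hna 7 2 102 (h.trans (by norm_num)) (by norm_num) (by norm_num) (by norm_num) (default : Sylow 7 G)
  have hle : d ≤ 102 := Nat.le_of_dvd (by norm_num) h1
  have key : ∀ d ≤ 102, ¬ (d ∣ 102 ∧ d % 7 = 1 ∧ d ≠ 1) := by decide +kernel
  exact key d hle ⟨h1, h2, h3⟩

theorem o83_n5005 {G : Type*} [Group G] [Finite G] [IsSimpleGroup G] : Nat.card G ≠ 5005 := by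
  intro h
  have hna : ¬ IsMulCommutative G := o83_noncomm h (by norm_num)
  haveI : Fact (Nat.Prime 11) := ⟨by norm_num⟩
  obtain ⟨-, d, -, h1, h2, h3, -, -⟩ := o83_syl hna 11 1 455 (h.trans (by norm_num)) (by norm_num) (by norm_num) (by norm_num) (default : Sylow 11 G)
  have hle : d ≤ 455 := Nat.le_of_dvd (by norm_num) h1
  have key : ∀ d ≤ 455, ¬ (d ∣ 455 ∧ d % 11 = 1 ∧ d ≠ 1) := by decide +kernel
  exact key d hle ⟨h1, h2, h3⟩

theorem o83_n5049 {G : Type*} [Group G] [Finite G] [IsSimpleGroup G] : Nat.card G ≠ 5049 := by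
  intro h
  have hna : ¬ IsMulCommutative G := o83_noncomm h (by norm_num)
  haveI : Fact (Nat.Prime 11) := ⟨by norm_num⟩
  obtain ⟨-, d, -, h1, h2, h3, -, -⟩ := o83_syl hna 11 1 459 (h.trans (by norm_num)) (by norm_num) (by norm_num) (by norm_num) (default : Sylow 11 G)
  have hle : d ≤ 459 := Nat.le_of_dvd (by norm_num) h1
  have key : ∀ d ≤ 459, ¬ (d ∣ 459 ∧ d % 11 = 1 ∧ d ≠ 1) := by decide +kernel
  exact key d hle ⟨h1, h2, h3⟩

theorem o83_n5070 {G : Type*} [Group G] [Finite G] [IsSimpleGroup G] : Nat.card G ≠ 5070 := by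
  intro h
  have hna : ¬ IsMulCommutative G := o83_noncomm h (by norm_num)
  haveI : Fact (Nat.Prime 13) := ⟨by norm_num⟩
  obtain ⟨-, d, -, h1, h2, h3, -, -⟩ := o83_syl hna 13 2 30 (h.trans (by norm_num)) (by norm_num) (by norm_num) (by norm_num) (default : Sylow 13 G)
  have hle : d ≤ 30 := Nat.le_of_dvd (by norm_num) h1
  have key : ∀ d ≤ 30, ¬ (d ∣ 30 ∧ d % 13 = 1 ∧ d ≠ 1) := by decide +kernel
  exact key d hle ⟨h1, h2, h3⟩

theorem o83_n5082 {G : Type*} [Group G] [Finite G] [IsSimpleGroup G] : Nat.card G ≠ 5082 := by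
  intro h
  have hna : ¬ IsMulCommutative G := o83_noncomm h (by norm_num)
  haveI : Fact (Nat.Prime 11) := ⟨by norm_num⟩
  obtain ⟨-, d, -, h1, h2, h3, -, -⟩ := o83_syl hna 11 2 42 (h.trans (by norm_num)) (by norm_num) (by norm_num) (by norm_num) (default : Sylow 11 G)
  have hle : d ≤ 42 := Nat.le_of_dvd (by norm_num) h1
  have key : ∀ d ≤ 42, ¬ (d ∣ 42 ∧ d % 11 = 1 ∧ d ≠ 1) := by decide +kernel
  exact key d hle ⟨h1, h2, h3⟩

theorem o83_n5100 {G : Type*} [Group G] [Finite G] [IsSimpleGroup G] : Nat.card G ≠ 5100 := by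
  intro h
  have hna : ¬ IsMulCommutative G := o83_noncomm h (by norm_num)
  haveI : Fact (Nat.Prime 17) := ⟨by norm_num⟩
  obtain ⟨-, d, -, h1, h2, h3, -, -⟩ := o83_syl hna 17 1 300 (h.trans (by norm_num)) (by norm_num) (by norm_num) (by norm_num) (default : Sylow 17 G)
  have hle : d ≤ 300 := Nat.le_of_dvd (by norm_num) h1
  have key : ∀ d ≤ 300, ¬ (d ∣ 300 ∧ d % 17 = 1 ∧ d ≠ 1) := by decide +kernel
  exact key d hle ⟨h1, h2, h3⟩

theorem o83_n5304 {G : Type*} [Group G] [Finite G] [IsSimpleGroup G] : Nat.card G ≠ 5304 := by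
  intro h
  have hna : ¬ IsMulCommutative G := o83_noncomm h (by norm_num)
  haveI : Fact (Nat.Prime 13) := ⟨by norm_num⟩
  obtain ⟨-, d, -, h1, h2, h3, -, -⟩ := o83_syl hna 13 1 408 (h.trans (by norm_num)) (by norm_num) (by norm_num) (by norm_num) (default : Sylow 13 G)
  have hle : d ≤ 408 := Nat.le_of_dvd (by norm_num) h1
  have key : ∀ d ≤ 408, ¬ (d ∣ 408 ∧ d % 13 = 1 ∧ d ≠ 1) := by decide +kernel
  exact key d hle ⟨h1, h2, h3⟩

theorem o83_n5390 {G : Type*} [Group G] [Finite G] [IsSimpleGroup G] : Nat.card G ≠ 5390 := by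
  intro h
  have hna : ¬ IsMulCommutative G := o83_noncomm h (by norm_num)
  haveI : Fact (Nat.Prime 11) := ⟨by norm_num⟩
  obtain ⟨-, d, -, h1, h2, h3, -, -⟩ := o83_syl hna 11 1 490 (h.trans (by norm_num)) (by norm_num) (by norm_num) (by norm_num) (default : Sylow 11 G)
  have hle : d ≤ 490 := Nat.le_of_dvd (by norm_num) h1
  have key : ∀ d ≤ 490, ¬ (d ∣ 490 ∧ d % 11 = 1 ∧ d ≠ 1) := by decide +kernel
  exact key d hle ⟨h1, h2, h3⟩

theorem o83_n5440 {G : Type*} [Group G] [Finite G] [IsSimpleGroup G] : Nat.card G ≠ 5440 := by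
  intro h
  have hna : ¬ IsMulCommutative G := o83_noncomm h (by norm_num)
  haveI : Fact (Nat.Prime 17) := ⟨by norm_num⟩
  obtain ⟨-, d, -, h1, h2, h3, -, -⟩ := o83_syl hna 17 1 320 (h.trans (by norm_num)) (by norm_num) (by norm_num) (by norm_num) (default : Sylow 17 G)
  have hle : d ≤ 320 := Nat.le_of_dvd (by norm_num) h1
  have key : ∀ d ≤ 320, ¬ (d ∣ 320 ∧ d % 17 = 1 ∧ d ≠ 1) := by decide +kernel
  exact key d hle ⟨h1, h2, h3⟩

theorem o83_n5525 {G : Type*} [Group G] [Finite G] [IsSimpleGroup G] : Nat.card G ≠ 5525 := by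
  intro h
  have hna : ¬ IsMulCommutative G := o83_noncomm h (by norm_num)
  haveI : Fact (Nat.Prime 13) := ⟨by norm_num⟩
  obtain ⟨-, d, -, h1, h2, h3, -, -⟩ := o83_syl hna 13 1 425 (h.trans (by norm_num)) (by norm_num) (by norm_num) (by norm_num) (default : Sylow 13 G)
  have hle : d ≤ 425 := Nat.le_of_dvd (by norm_num) h1
  have key : ∀ d ≤ 425, ¬ (d ∣ 425 ∧ d % 13 = 1 ∧ d ≠ 1) := by decide +kernel
  exact key d hle ⟨h1, h2, h3⟩

theorem o83_n5577 {G : Type*} [Group G] [Finite G] [IsSimpleGroup G] : Nat.card G ≠ 5577 := by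
  intro h
  have hna : ¬ IsMulCommutative G := o83_noncomm h (by norm_num)
  haveI : Fact (Nat.Prime 13) := ⟨by norm_num⟩
  obtain ⟨-, d, -, h1, h2, h3, -, -⟩ := o83_syl hna 13 2 33 (h.trans (by norm_num)) (by norm_num) (by norm_num) (by norm_num) (default : Sylow 13 G)
  have hle : d ≤ 33 := Nat.le_of_dvd (by norm_num) h1
  have key : ∀ d ≤ 33, ¬ (d ∣ 33 ∧ d % 13 = 1 ∧ d ≠ 1) := by decide +kernel
  exact key d hle ⟨h1, h2, h3⟩

theorem o83_n5610 {G : Type*} [Group G] [Finite G] [IsSimpleGroup G] : Nat.card G ≠ 5610 := by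
  intro h
  have hna : ¬ IsMulCommutative G := o83_noncomm h (by norm_num)
  haveI : Fact (Nat.Prime 17) := ⟨by norm_num⟩
  obtain ⟨-, d, -, h1, h2, h3, -, -⟩ := o83_syl hna 17 1 330 (h.trans (by norm_num)) (by norm_num) (by norm_num) (by norm_num) (default : Sylow 17 G)
  have hle : d ≤ 330 := Nat.le_of_dvd (by norm_num) h1
  have key : ∀ d ≤ 330, ¬ (d ∣ 330 ∧ d % 17 = 1 ∧ d ≠ 1) := by decide +kernel
  exact key d hle ⟨h1, h2, h3⟩

theorem o83_n5712 {G : Type*} [Group G] [Finite G] [IsSimpleGroup G] : Nat.card G ≠ 5712 := by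
  intro h
  have hna : ¬ IsMulCommutative G := o83_noncomm h (by norm_num)
  haveI : Fact (Nat.Prime 17) := ⟨by norm_num⟩
  obtain ⟨-, d, -, h1, h2, h3, -, -⟩ := o83_syl hna 17 1 336 (h.trans (by norm_num)) (by norm_num) (by norm_num) (by norm_num) (default : Sylow 17 G)
  have hle : d ≤ 336 := Nat.le_of_dvd (by norm_num) h1
  have key : ∀ d ≤ 336, ¬ (d ∣ 336 ∧ d % 17 = 1 ∧ d ≠ 1) := by decide +kernel
  exact key d hle ⟨h1, h2, h3⟩

theorem o83_n5720 {G : Type*} [Group G] [Finite G] [IsSimpleGroup G] : Nat.card G ≠ 5720 := by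
  intro h
  have hna : ¬ IsMulCommutative G := o83_noncomm h (by norm_num)
  haveI : Fact (Nat.Prime 11) := ⟨by norm_num⟩
  obtain ⟨-, d, -, h1, h2, h3, -, -⟩ := o83_syl hna 11 1 520 (h.trans (by norm_num)) (by norm_num) (by norm_num) (by norm_num) (default : Sylow 11 G)
  have hle : d ≤ 520 := Nat.le_of_dvd (by norm_num) h1
  have key : ∀ d ≤ 520, ¬ (d ∣ 520 ∧ d % 11 = 1 ∧ d ≠ 1) := by decide +kernel
  exact key d hle ⟨h1, h2, h3⟩

theorem o83_n5733 {G : Type*} [Group G] [Finite G] [IsSimpleGroup G] : Nat.card G ≠ 5733 := by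
  intro h
  have hna : ¬ IsMulCommutative G := o83_noncomm h (by norm_num)
  haveI : Fact (Nat.Prime 7) := ⟨by norm_num⟩
  obtain ⟨-, d, -, h1, h2, h3, -, -⟩ := o83_syl hna 7 2 117 (h.trans (by norm_num)) (by norm_num) (by norm_num) (by norm_num) (default : Sylow 7 G)
  have hle : d ≤ 117 := Nat.le_of_dvd (by norm_num) h1
  have key : ∀ d ≤ 117, ¬ (d ∣ 117 ∧ d % 7 = 1 ∧ d ≠ 1) := by decide +kernel
  exact key d hle ⟨h1, h2, h3⟩

theorem o83_n5746 {G : Type*} [Group G] [Finite G] [IsSimpleGroup G] : Nat.card G ≠ 5746 := by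
  intro h
  have hna : ¬ IsMulCommutative G := o83_noncomm h (by norm_num)
  haveI : Fact (Nat.Prime 13) := ⟨by norm_num⟩
  obtain ⟨-, d, -, h1, h2, h3, -, -⟩ := o83_syl hna 13 2 34 (h.trans (by norm_num)) (by norm_num) (by norm_num) (by norm_num) (default : Sylow 13 G)
  have hle : d ≤ 34 := Nat.le_of_dvd (by norm_num) h1
  have key : ∀ d ≤ 34, ¬ (d ∣ 34 ∧ d % 13 = 1 ∧ d ≠ 1) := by decide +kernel
  exact key d hle ⟨h1, h2, h3⟩

theorem o83_n5775 {G : Type*} [Group G] [Finite G] [IsSimpleGroup G] : Nat.card G ≠ 5775 := by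
  intro h
  have hna : ¬ IsMulCommutative G := o83_noncomm h (by norm_num)
  haveI : Fact (Nat.Prime 11) := ⟨by norm_num⟩
  obtain ⟨-, d, -, h1, h2, h3, -, -⟩ := o83_syl hna 11 1 525 (h.trans (by norm_num)) (by norm_num) (by norm_num) (by norm_num) (default : Sylow 11 G)
  have hle : d ≤ 525 := Nat.le_of_dvd (by norm_num) h1
  have key : ∀ d ≤ 525, ¬ (d ∣ 525 ∧ d % 11 = 1 ∧ d ≠ 1) := by decide +kernel
  exact key d hle ⟨h1, h2, h3⟩

theorem o83_n5780 {G : Type*} [Group G] [Finite G] [IsSimpleGroup G] : Nat.card G ≠ 5780 := by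
  intro h
  have hna : ¬ IsMulCommutative G := o83_noncomm h (by norm_num)
  haveI : Fact (Nat.Prime 17) := ⟨by norm_num⟩
  obtain ⟨-, d, -, h1, h2, h3, -, -⟩ := o83_syl hna 17 2 20 (h.trans (by norm_num)) (by norm_num) (by norm_num) (by norm_num) (default : Sylow 17 G)
  have hle : d ≤ 20 := Nat.le_of_dvd (by norm_num) h1
  have key : ∀ d ≤ 20, ¬ (d ∣ 20 ∧ d % 17 = 1 ∧ d ≠ 1) := by decide +kernel
  exact key d hle ⟨h1, h2, h3⟩

theorem o83_n5850 {G : Type*} [Group G] [Finite G] [IsSimpleGroup G] : Nat.card G ≠ 5850 := by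
  intro h
  have hna : ¬ IsMulCommutative G := o83_noncomm h (by norm_num)
  haveI : Fact (Nat.Prime 13) := ⟨by norm_num⟩
  obtain ⟨-, d, -, h1, h2, h3, -, -⟩ := o83_syl hna 13 1 450 (h.trans (by norm_num)) (by norm_num) (by norm_num) (by norm_num) (default : Sylow 13 G)
  have hle : d ≤ 450 := Nat.le_of_dvd (by norm_num) h1
  have key : ∀ d ≤ 450, ¬ (d ∣ 450 ∧ d % 13 = 1 ∧ d ≠ 1) := by decide +kernel
  exact key d hle ⟨h1, h2, h3⟩

theorem o83_n5915 {G : Type*} [Group G] [Finite G] [IsSimpleGroup G] : Nat.card G ≠ 5915 := by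
  intro h
  have hna : ¬ IsMulCommutative G := o83_noncomm h (by norm_num)
  haveI : Fact (Nat.Prime 13) := ⟨by norm_num⟩
  obtain ⟨-, d, -, h1, h2, h3, -, -⟩ := o83_syl hna 13 2 35 (h.trans (by norm_num)) (by norm_num) (by norm_num) (by norm_num) (default : Sylow 13 G)
  have hle : d ≤ 35 := Nat.le_of_dvd (by norm_num) h1
  have key : ∀ d ≤ 35, ¬ (d ∣ 35 ∧ d % 13 = 1 ∧ d ≠ 1) := by decide +kernel
  exact key d hle ⟨h1, h2, h3⟩

theorem o83_n5950 {G : Type*} [Group G] [Finite G] [IsSimpleGroup G] : Nat.card G ≠ 5950 := by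
  intro h
  have hna : ¬ IsMulCommutative G := o83_noncomm h (by norm_num)
  haveI : Fact (Nat.Prime 5) := ⟨by norm_num⟩
  obtain ⟨-, d, -, h1, h2, h3, -, -⟩ := o83_syl hna 5 2 238 (h.trans (by norm_num)) (by norm_num) (by norm_num) (by norm_num) (default : Sylow 5 G)
  have hle : d ≤ 238 := Nat.le_of_dvd (by norm_num) h1
  have key : ∀ d ≤ 238, ¬ (d ∣ 238 ∧ d % 5 = 1 ∧ d ≠ 1) := by decide +kernel
  exact key d hle ⟨h1, h2, h3⟩

theorem o83_n5967 {G : Type*} [Group G] [Finite G] [IsSimpleGroup G] : Nat.card G ≠ 5967 := by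
  intro h
  have hna : ¬ IsMulCommutative G := o83_noncomm h (by norm_num)
  haveI : Fact (Nat.Prime 17) := ⟨by norm_num⟩
  obtain ⟨-, d, -, h1, h2, h3, -, -⟩ := o83_syl hna 17 1 351 (h.trans (by norm_num)) (by norm_num) (by norm_num) (by norm_num) (default : Sylow 17 G)
  have hle : d ≤ 351 := Nat.le_of_dvd (by norm_num) h1
  have key : ∀ d ≤ 351, ¬ (d ∣ 351 ∧ d % 17 = 1 ∧ d ≠ 1) := by decide +kernel
  exact key d hle ⟨h1, h2, h3⟩

theorem o83_n5984 {G : Type*} [Group G] [Finite G] [IsSimpleGroup G] : Nat.card G ≠ 5984 := by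
  intro h
  have hna : ¬ IsMulCommutative G := o83_noncomm h (by norm_num)
  haveI : Fact (Nat.Prime 17) := ⟨by norm_num⟩
  obtain ⟨-, d, -, h1, h2, h3, -, -⟩ := o83_syl hna 17 1 352 (h.trans (by norm_num)) (by norm_num) (by norm_num) (by norm_num) (default : Sylow 17 G)
  have hle : d ≤ 352 := Nat.le_of_dvd (by norm_num) h1
  have key : ∀ d ≤ 352, ¬ (d ∣ 352 ∧ d % 17 = 1 ∧ d ≠ 1) := by decide +kernel
  exact key d hle ⟨h1, h2, h3⟩

theorem o83_n6050 {G : Type*} [Group G] [Finite G] [IsSimpleGroup G] : Nat.card G ≠ 6050 := by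
  intro h
  have hna : ¬ IsMulCommutative G := o83_noncomm h (by norm_num)
  haveI : Fact (Nat.Prime 11) := ⟨by norm_num⟩
  obtain ⟨-, d, -, h1, h2, h3, -, -⟩ := o83_syl hna 11 2 50 (h.trans (by norm_num)) (by norm_num) (by norm_num) (by norm_num) (default : Sylow 11 G)
  have hle : d ≤ 50 := Nat.le_of_dvd (by norm_num) h1
  have key : ∀ d ≤ 50, ¬ (d ∣ 50 ∧ d % 11 = 1 ∧ d ≠ 1) := by decide +kernel
  exact key d hle ⟨h1, h2, h3⟩

theorem o83_n6069 {G : Type*} [Group G] [Finite G] [IsSimpleGroup G] : Nat.card G ≠ 6069 := by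
  intro h
  have hna : ¬ IsMulCommutative G := o83_noncomm h (by norm_num)
  haveI : Fact (Nat.Prime 7) := ⟨by norm_num⟩
  obtain ⟨-, d, -, h1, h2, h3, -, -⟩ := o83_syl hna 7 1 867 (h.trans (by norm_num)) (by norm_num) (by norm_num) (by norm_num) (default : Sylow 7 G)
  have hle : d ≤ 867 := Nat.le_of_dvd (by norm_num) h1
  have key : ∀ d ≤ 867, ¬ (d ∣ 867 ∧ d % 7 = 1 ∧ d ≠ 1) := by decide +kernel
  exact key d hle ⟨h1, h2, h3⟩

theorem o83_n6084 {G : Type*} [Group G] [Finite G] [IsSimpleGroup G] : Nat.card G ≠ 6084 := by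
  intro h
  have hna : ¬ IsMulCommutative G := o83_noncomm h (by norm_num)
  haveI : Fact (Nat.Prime 13) := ⟨by norm_num⟩
  obtain ⟨-, d, -, h1, h2, h3, -, -⟩ := o83_syl hna 13 2 36 (h.trans (by norm_num)) (by norm_num) (by norm_num) (by norm_num) (default : Sylow 13 G)
  have hle : d ≤ 36 := Nat.le_of_dvd (by norm_num) h1
  have key : ∀ d ≤ 36, ¬ (d ∣ 36 ∧ d % 13 = 1 ∧ d ≠ 1) := by decide +kernel
  exact key d hle ⟨h1, h2, h3⟩

theorem o83_n6171 {G : Type*} [Group G] [Finite G] [IsSimpleGroup G] : Nat.card G ≠ 6171 := by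
  intro h
  have hna : ¬ IsMulCommutative G := o83_noncomm h (by norm_num)
  haveI : Fact (Nat.Prime 11) := ⟨by norm_num⟩
  obtain ⟨-, d, -, h1, h2, h3, -, -⟩ := o83_syl hna 11 2 51 (h.trans (by norm_num)) (by norm_num) (by norm_num) (by norm_num) (default : Sylow 11 G)
  have hle : d ≤ 51 := Nat.le_of_dvd (by norm_num) h1
  have key : ∀ d ≤ 51, ¬ (d ∣ 51 ∧ d % 11 = 1 ∧ d ≠ 1) := by decide +kernel
  exact key d hle ⟨h1, h2, h3⟩

theorem o83_n6174 {G : Type*} [Group G] [Finite G] [IsSimpleGroup G] : Nat.card G ≠ 6174 := by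
  intro h
  have hna : ¬ IsMulCommutative G := o83_noncomm h (by norm_num)
  haveI : Fact (Nat.Prime 7) := ⟨by norm_num⟩
  obtain ⟨-, d, -, h1, h2, h3, -, -⟩ := o83_syl hna 7 3 18 (h.trans (by norm_num)) (by norm_num) (by norm_num) (by norm_num) (default : Sylow 7 G)
  have hle : d ≤ 18 := Nat.le_of_dvd (by norm_num) h1
  have key : ∀ d ≤ 18, ¬ (d ∣ 18 ∧ d % 7 = 1 ∧ d ≠ 1) := by decide +kernel
  exact key d hle ⟨h1, h2, h3⟩

end Cfsg.Agent.O83
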