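import Mathlib
import Cfsg.Agent.O83.Basic
import Cfsg.Agent.Helper2.SimpleSmall2
import Cfsg.Agent.S0499

/-!
# S0983: the routine orders, part C (generated; helper2)
orders killed by the index test `2 |G| ∣ n_p !` and orders `≡ 2 (mod 4)` (`S0499`)
-/

set_option autoImplicit false
set_option maxRecDepth 8192
set_option linter.style.haveILetI false

namespace Cfsg.Agent.O83

open Cfsg Cfsg.Agent.Helper2

theorem o83_n3750 {G : Type*} [Group G] [Finite G] [IsSimpleGroup G] : Nat.card G ≠ 3750 := by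
  intro h
  have hna : ¬ IsMulCommutative G := o83_noncomm h (by norm_num)
  haveI : Fact (Nat.Prime 5) := ⟨by norm_num⟩
  obtain ⟨-, d, -, h1, h2, h3, h4, -⟩ := o83_syl hna 5 4 6 (h.trans (by norm_num)) (by norm_num) (by norm_num) (by norm_num) (default : Sylow 5 G)
  have hle : d ≤ 6 := Nat.le_of_dvd (by norm_num) h1
  have key : ∀ d ≤ 6, ¬ (d ∣ 6 ∧ d % 5 = 1 ∧ d ≠ 1 ∧ (d ≤ 20 → 2 * (5 ^ 4 * 6) ∣ d.factorial)) := by decide +kernel
  exact key d hle ⟨h1, h2, h3, fun _ => h4⟩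

theorem o83_n3822 {G : Type*} [Group G] [Finite G] [IsSimpleGroup G] : Nat.card G ≠ 3822 := by
  intro h
  have hna : ¬ IsMulCommutative G := o83_noncomm h (by norm_num)
  rcases Cfsg.Agent.S0499.result hna (by rw [h]; decide) with h12 | h16 | h56
  · rw [h] at h12; omega
  · rw [h] at h16; omega
  · rw [h] at h56; omega

theorem o83_n3920 {G : Type*} [Group G] [Finite G] [IsSimpleGroup G] : Nat.card G ≠ 3920 := by
  intro h
  have hna : ¬ IsMulCommutative G := o83_noncomm h (by norm_num)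
  haveI : Fact (Nat.Prime 7) := ⟨by norm_num⟩
  obtain ⟨-, d, -, h1, h2, h3, h4, -⟩ := o83_syl hna 7 2 80 (h.trans (by norm_num)) (by norm_num) (by norm_num) (by norm_num) (default : Sylow 7 G)
  have hle : d ≤ 80 := Nat.le_of_dvd (by norm_num) h1
  have key : ∀ d ≤ 80, ¬ (d ∣ 80 ∧ d % 7 = 1 ∧ d ≠ 1 ∧ (d ≤ 20 → 2 * (7 ^ 2 * 80) ∣ d.factorial)) := by decide +kernel
  exact key d hle ⟨h1, h2, h3, fun _ => h4⟩

theorem o83_n4050 {G : Type*} [Group G] [Finite G] [IsSimpleGroup G] : Nat.card G ≠ 4050 := by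
  intro h
  have hna : ¬ IsMulCommutative G := o83_noncomm h (by norm_num)
  rcases Cfsg.Agent.S0499.result hna (by rw [h]; decide) with h12 | h16 | h56
  · rw [h] at h12; omega
  · rw [h] at h16; omega
  · rw [h] at h56; omega

theorem o83_n4125 {G : Type*} [Group G] [Finite G] [IsSimpleGroup G] : Nat.card G ≠ 4125 := by
  intro h
  have hna : ¬ IsMulCommutative G := o83_noncomm h (by norm_num)
  haveI : Fact (Nat.Prime 5) := ⟨by norm_num⟩
  obtain ⟨-, d, -, h1, h2, h3, h4, -⟩ := o83_syl hna 5 3 33 (h.trans (by norm_num)) (by norm_num) (by norm_num) (by norm_num) (default : Sylow 5 G)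
  have hle : d ≤ 33 := Nat.le_of_dvd (by norm_num) h1
  have key : ∀ d ≤ 33, ¬ (d ∣ 33 ∧ d % 5 = 1 ∧ d ≠ 1 ∧ (d ≤ 20 → 2 * (5 ^ 3 * 33) ∣ d.factorial)) := by decide +kernel
  exact key d hle ⟨h1, h2, h3, fun _ => h4⟩

theorem o83_n4290 {G : Type*} [Group G] [Finite G] [IsSimpleGroup G] : Nat.card G ≠ 4290 := by
  intro h
  have hna : ¬ IsMulCommutative G := o83_noncomm h (by norm_num)
  rcases Cfsg.Agent.S0499.result hna (by rw [h]; decide) with h12 | h16 | h56
  · rw [h] at h12; omega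
  · rw [h] at h16; omega
  · rw [h] at h56; omega

theorem o83_n4356 {G : Type*} [Group G] [Finite G] [IsSimpleGroup G] : Nat.card G ≠ 4356 := by
  intro h
  have hna : ¬ IsMulCommutative G := o83_noncomm h (by norm_num)
  haveI : Fact (Nat.Prime 11) := ⟨by norm_num⟩
  obtain ⟨-, d, -, h1, h2, h3, h4, -⟩ := o83_syl hna 11 2 36 (h.trans (by norm_num)) (by norm_num) (by norm_num) (by norm_num) (default : Sylow 11 G)
  have hle : d ≤ 36 := Nat.le_of_dvd (by norm_num) h1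
  have key : ∀ d ≤ 36, ¬ (d ∣ 36 ∧ d % 11 = 1 ∧ d ≠ 1 ∧ (d ≤ 20 → 2 * (11 ^ 2 * 36) ∣ d.factorial)) := by decide +kernel
  exact key d hle ⟨h1, h2, h3, fun _ => h4⟩

theorem o83_n4410 {G : Type*} [Group G] [Finite G] [IsSimpleGroup G] : Nat.card G ≠ 4410 := by
  intro h
  have hna : ¬ IsMulCommutative G := o83_noncomm h (by norm_num)
  rcases Cfsg.Agent.S0499.result hna (by rw [h]; decide) with h12 | h16 | h56
  · rw [h] at h12; omega
  · rw [h] at h16; omega
  · rw [h] at h56; omega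

theorem o83_n4550 {G : Type*} [Group G] [Finite G] [IsSimpleGroup G] : Nat.card G ≠ 4550 := by
  intro h
  have hna : ¬ IsMulCommutative G := o83_noncomm h (by norm_num)
  rcases Cfsg.Agent.S0499.result hna (by rw [h]; decide) with h12 | h16 | h56
  · rw [h] at h12; omega
  · rw [h] at h16; omega
  · rw [h] at h56; omega

theorem o83_n4704 {G : Type*} [Group G] [Finite G] [IsSimpleGroup G] : Nat.card G ≠ 4704 := by
  intro h
  have hna : ¬ IsMulCommutative G := o83_noncomm h (by norm_num)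
  haveI : Fact (Nat.Prime 7) := ⟨by norm_num⟩
  obtain ⟨-, d, -, h1, h2, h3, h4, -⟩ := o83_syl hna 7 2 96 (h.trans (by norm_num)) (by norm_num) (by norm_num) (by norm_num) (default : Sylow 7 G)
  have hle : d ≤ 96 := Nat.le_of_dvd (by norm_num) h1
  have key : ∀ d ≤ 96, ¬ (d ∣ 96 ∧ d % 7 = 1 ∧ d ≠ 1 ∧ (d ≤ 20 → 2 * (7 ^ 2 * 96) ∣ d.factorial)) := by decide +kernel
  exact key d hle ⟨h1, h2, h3, fun _ => h4⟩

theorem o83_n4732 {G : Type*} [Group G] [Finite G] [IsSimpleGroup G] : Nat.card G ≠ 4732 := by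
  intro h
  have hna : ¬ IsMulCommutative G := o83_noncomm h (by norm_num)
  haveI : Fact (Nat.Prime 13) := ⟨by norm_num⟩
  obtain ⟨-, d, -, h1, h2, h3, h4, -⟩ := o83_syl hna 13 2 28 (h.trans (by norm_num)) (by norm_num) (by norm_num) (by norm_num) (default : Sylow 13 G)
  have hle : d ≤ 28 := Nat.le_of_dvd (by norm_num) h1
  have key : ∀ d ≤ 28, ¬ (d ∣ 28 ∧ d % 13 = 1 ∧ d ≠ 1 ∧ (d ≤ 20 → 2 * (13 ^ 2 * 28) ∣ d.factorial)) := by decide +kernel
  exact key d hle ⟨h1, h2, h3, fun _ => h4⟩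

theorem o83_n4860 {G : Type*} [Group G] [Finite G] [IsSimpleGroup G] : Nat.card G ≠ 4860 := by
  intro h
  have hna : ¬ IsMulCommutative G := o83_noncomm h (by norm_num)
  haveI : Fact (Nat.Prime 3) := ⟨by norm_num⟩
  obtain ⟨-, d, -, h1, h2, h3, h4, -⟩ := o83_syl hna 3 5 20 (h.trans (by norm_num)) (by norm_num) (by norm_num) (by norm_num) (default : Sylow 3 G)
  have hle : d ≤ 20 := Nat.le_of_dvd (by norm_num) h1
  have key : ∀ d ≤ 20, ¬ (d ∣ 20 ∧ d % 3 = 1 ∧ d ≠ 1 ∧ (d ≤ 20 → 2 * (3 ^ 5 * 20) ∣ d.factorial)) := by decide +kernel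
  exact key d hle ⟨h1, h2, h3, fun _ => h4⟩

theorem o83_n4914 {G : Type*} [Group G] [Finite G] [IsSimpleGroup G] : Nat.card G ≠ 4914 := by
  intro h
  have hna : ¬ IsMulCommutative G := o83_noncomm h (by norm_num)
  rcases Cfsg.Agent.S0499.result hna (by rw [h]; decide) with h12 | h16 | h56
  · rw [h] at h12; omega
  · rw [h] at h16; omega
  · rw [h] at h56; omega

theorem o83_n4950 {G : Type*} [Group G] [Finite G] [IsSimpleGroup G] : Nat.card G ≠ 4950 := by
  intro h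
  have hna : ¬ IsMulCommutative G := o83_noncomm h (by norm_num)
  rcases Cfsg.Agent.S0499.result hna (by rw [h]; decide) with h12 | h16 | h56
  · rw [h] at h12; omega
  · rw [h] at h16; omega
  · rw [h] at h56; omega

theorem o83_n5096 {G : Type*} [Group G] [Finite G] [IsSimpleGroup G] : Nat.card G ≠ 5096 := by
  intro h
  have hna : ¬ IsMulCommutative G := o83_noncomm h (by norm_num)
  haveI : Fact (Nat.Prime 7) := ⟨by norm_num⟩
  obtain ⟨-, d, -, h1, h2, h3, h4, -⟩ := o83_syl hna 7 2 104 (h.trans (by norm_num)) (by norm_num) (by norm_num) (by norm_num) (default : Sylow 7 G)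
  have hle : d ≤ 104 := Nat.le_of_dvd (by norm_num) h1
  have key : ∀ d ≤ 104, ¬ (d ∣ 104 ∧ d % 7 = 1 ∧ d ≠ 1 ∧ (d ≤ 20 → 2 * (7 ^ 2 * 104) ∣ d.factorial)) := by decide +kernel
  exact key d hle ⟨h1, h2, h3, fun _ => h4⟩

theorem o83_n5145 {G : Type*} [Group G] [Finite G] [IsSimpleGroup G] : Nat.card G ≠ 5145 := by
  intro h
  have hna : ¬ IsMulCommutative G := o83_noncomm h (by norm_num)
  haveI : Fact (Nat.Prime 7) := ⟨by norm_num⟩
  obtain ⟨-, d, -, h1, h2, h3, h4, -⟩ := o83_syl hna 7 3 15 (h.trans (by norm_num)) (by norm_num) (by norm_num) (by norm_num) (default : Sylow 7 G)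
  have hle : d ≤ 15 := Nat.le_of_dvd (by norm_num) h1
  have key : ∀ d ≤ 15, ¬ (d ∣ 15 ∧ d % 7 = 1 ∧ d ≠ 1 ∧ (d ≤ 20 → 2 * (7 ^ 3 * 15) ∣ d.factorial)) := by decide +kernel
  exact key d hle ⟨h1, h2, h3, fun _ => h4⟩

theorem o83_n5202 {G : Type*} [Group G] [Finite G] [IsSimpleGroup G] : Nat.card G ≠ 5202 := by
  intro h
  have hna : ¬ IsMulCommutative G := o83_noncomm h (by norm_num)
  haveI : Fact (Nat.Prime 17) := ⟨by norm_num⟩
  obtain ⟨-, d, -, h1, h2, h3, h4, -⟩ := o83_syl hna 17 2 18 (h.trans (by norm_num)) (by norm_num) (by norm_num) (by norm_num) (default : Sylow 17 G)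
  have hle : d ≤ 18 := Nat.le_of_dvd (by norm_num) h1
  have key : ∀ d ≤ 18, ¬ (d ∣ 18 ∧ d % 17 = 1 ∧ d ≠ 1 ∧ (d ≤ 20 → 2 * (17 ^ 2 * 18) ∣ d.factorial)) := by decide +kernel
  exact key d hle ⟨h1, h2, h3, fun _ => h4⟩

theorem o83_n5250 {G : Type*} [Group G] [Finite G] [IsSimpleGroup G] : Nat.card G ≠ 5250 := by
  intro h
  have hna : ¬ IsMulCommutative G := o83_noncomm h (by norm_num)
  rcases Cfsg.Agent.S0499.result hna (by rw [h]; decide) with h12 | h16 | h56
  · rw [h] at h12; omega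
  · rw [h] at h16; omega
  · rw [h] at h56; omega

theorem o83_n5346 {G : Type*} [Group G] [Finite G] [IsSimpleGroup G] : Nat.card G ≠ 5346 := by
  intro h
  have hna : ¬ IsMulCommutative G := o83_noncomm h (by norm_num)
  rcases Cfsg.Agent.S0499.result hna (by rw [h]; decide) with h12 | h16 | h56
  · rw [h] at h12; omega
  · rw [h] at h16; omega
  · rw [h] at h56; omega

theorem o83_n5500 {G : Type*} [Group G] [Finite G] [IsSimpleGroup G] : Nat.card G ≠ 5500 := by
  intro h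
  have hna : ¬ IsMulCommutative G := o83_noncomm h (by norm_num)
  haveI : Fact (Nat.Prime 5) := ⟨by norm_num⟩
  obtain ⟨-, d, -, h1, h2, h3, h4, -⟩ := o83_syl hna 5 3 44 (h.trans (by norm_num)) (by norm_num) (by norm_num) (by norm_num) (default : Sylow 5 G)
  have hle : d ≤ 44 := Nat.le_of_dvd (by norm_num) h1
  have key : ∀ d ≤ 44, ¬ (d ∣ 44 ∧ d % 5 = 1 ∧ d ≠ 1 ∧ (d ≤ 20 → 2 * (5 ^ 3 * 44) ∣ d.factorial)) := by decide +kernel
  exact key d hle ⟨h1, h2, h3, fun _ => h4⟩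

theorem o83_n5670 {G : Type*} [Group G] [Finite G] [IsSimpleGroup G] : Nat.card G ≠ 5670 := by
  intro h
  have hna : ¬ IsMulCommutative G := o83_noncomm h (by norm_num)
  rcases Cfsg.Agent.S0499.result hna (by rw [h]; decide) with h12 | h16 | h56
  · rw [h] at h12; omega
  · rw [h] at h16; omega
  · rw [h] at h56; omega

theorem o83_n5808 {G : Type*} [Group G] [Finite G] [IsSimpleGroup G] : Nat.card G ≠ 5808 := by
  intro h
  have hna : ¬ IsMulCommutative G := o83_noncomm h (by norm_num)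
  haveI : Fact (Nat.Prime 11) := ⟨by norm_num⟩
  obtain ⟨-, d, -, h1, h2, h3, h4, -⟩ := o83_syl hna 11 2 48 (h.trans (by norm_num)) (by norm_num) (by norm_num) (by norm_num) (default : Sylow 11 G)
  have hle : d ≤ 48 := Nat.le_of_dvd (by norm_num) h1
  have key : ∀ d ≤ 48, ¬ (d ∣ 48 ∧ d % 11 = 1 ∧ d ≠ 1 ∧ (d ≤ 20 → 2 * (11 ^ 2 * 48) ∣ d.factorial)) := by decide +kernel
  exact key d hle ⟨h1, h2, h3, fun _ => h4⟩

theorem o83_n6006 {G : Type*} [Group G] [Finite G] [IsSimpleGroup G] : Nat.card G ≠ 6006 := by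
  intro h
  have hna : ¬ IsMulCommutative G := o83_noncomm h (by norm_num)
  rcases Cfsg.Agent.S0499.result hna (by rw [h]; decide) with h12 | h16 | h56
  · rw [h] at h12; omega
  · rw [h] at h16; omega
  · rw [h] at h56; omega

theorem o83_n6188 {G : Type*} [Group G] [Finite G] [IsSimpleGroup G] : Nat.card G ≠ 6188 := by
  intro h
  have hna : ¬ IsMulCommutative G := o83_noncomm h (by norm_num)
  haveI : Fact (Nat.Prime 13) := ⟨by norm_num⟩
  obtain ⟨-, d, -, h1, h2, h3, h4, -⟩ := o83_syl hna 13 1 476 (h.trans (by norm_num)) (by norm_num) (by norm_num) (by norm_num) (default : Sylow 13 G)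
  have hle : d ≤ 476 := Nat.le_of_dvd (by norm_num) h1
  have key : ∀ d ≤ 476, ¬ (d ∣ 476 ∧ d % 13 = 1 ∧ d ≠ 1 ∧ (d ≤ 20 → 2 * (13 ^ 1 * 476) ∣ d.factorial)) := by decide +kernel
  exact key d hle ⟨h1, h2, h3, fun _ => h4⟩

end Cfsg.Agent.O83
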